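import Cfsg.Agent.Lib.ClassicalSimple.OrthMatrix

/-!
Orthogonal groups are generated by reflections (any field), except for dimension 4 over a field
with two elements; determinants of isometries.
-/

namespace Cfsg.Agent.ClassicalSimple

open scoped Matrix

section Abstract

variable {F V : Type*} [Field F] [AddCommGroup V] [Module F V]
variable {Q : QuadraticForm F V}

/-- A Siegel transformation with anisotropic `w` is a product of two reflections. -/
theorem siegel_eq_orefl_mul {u w : V} (hu : Q u = 0) (huw : bil Q u w = 0) (hw : Q w ≠ 0) :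
    siegel hu huw = orefl hw * orefl (b := w + Q w • u) (by
      rwa [quad_add, quad_smul_vec, hu, map_smul, bil_comm w u, huw, smul_zero, mul_zero,
        add_zero, add_zero]) := by
  refine OQ.ext' fun x => ?_
  simp only [mul_smul, siegel_smul, orefl_smul, quad_add, quad_smul_vec, hu, map_add, map_sub,
    map_smul, LinearMap.add_apply, LinearMap.sub_apply, LinearMap.smul_apply, smul_eq_mul, huw,
    bil_comm w u, bil_self, mul_zero, add_zero]
  match_scalars <;> field_simp <;> ring

theorem det_orefl {b : V} (hb : Q b ≠ 0) [FiniteDimensional F V] :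
    LinearMap.det ((orefl hb : OQ Q) : V ≃ₗ[F] V).toLinearMap = -1 := by
  have e : ((orefl hb : OQ Q) : V ≃ₗ[F] V).toLinearMap =
      LinearMap.transvection (-((Q b)⁻¹ • (LinearMap.flip (bil Q)) b)) b := by
    refine LinearMap.ext fun x => ?_
    change orefl hb • x = _
    simp [orefl_smul, LinearMap.transvection.apply, sub_eq_add_neg]
  rw [e, LinearMap.transvection.det]
  simp [bil_self]
  field_simp
  ring

variable (hN : (bil Q).Nondegenerate) [FiniteDimensional F V]
include hN

theorem totallySingular_finrank_le (K : Submodule F V)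
    (hK : ∀ x ∈ K, ∀ y ∈ K, bil Q x y = 0) :
    2 * Module.finrank F K ≤ Module.finrank F V := by
  have hsurj : Function.Surjective ((bil Q).compl₂ K.subtype) := by
    intro φ
    obtain ⟨ψ, hψ⟩ := LinearMap.exists_extend φ
    obtain ⟨y, rfl⟩ := (LinearMap.injective_iff_surjective_of_finrank_eq_finrank
      Subspace.dual_finrank_eq.symm (f := bil Q)).1
      (LinearMap.ker_eq_bot.1 (LinearMap.ker_eq_bot'.2 fun m hm => hN.1 m fun y => by
        rw [hm]; rfl)) ψ
    exact ⟨y, LinearMap.ext fun k => LinearMap.congr_fun hψ k⟩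
  have h1 := LinearMap.finrank_range_add_finrank_ker ((bil Q).compl₂ K.subtype)
  rw [LinearMap.range_eq_top.2 hsurj, finrank_top, Subspace.dual_finrank_eq] at h1
  have h2 : Module.finrank F K ≤ Module.finrank F (LinearMap.ker ((bil Q).compl₂ K.subtype)) :=
    Submodule.finrank_mono fun x hx => LinearMap.ext fun k => hK x hx k k.2
  omega

theorem exists_aniso {ι : Type*} [Fintype ι] (φ : ι → Module.Dual F V)
    (h : 2 * Fintype.card ι < Module.finrank F V) : ∃ y, (∀ i, φ i y = 0) ∧ Q y ≠ 0 := by
  by_contra hc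
  push Not at hc
  have h1 := totallySingular_finrank_le hN (LinearMap.ker (LinearMap.pi φ)) fun x hx y hy => by
    have hx' : ∀ i, φ i x = 0 := fun i => congrFun (LinearMap.mem_ker.1 hx) i
    have hy' : ∀ i, φ i y = 0 := fun i => congrFun (LinearMap.mem_ker.1 hy) i
    have := hc (x + y) fun i => by rw [map_add, hx', hy', add_zero]
    rwa [quad_add, hc x hx', hc y hy', zero_add, zero_add] at this
  have h2 := LinearMap.finrank_range_add_finrank_ker (LinearMap.pi φ)
  have h3 := Submodule.finrank_le (LinearMap.range (LinearMap.pi φ))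
  rw [Module.finrank_fintype_fun_eq_card] at h3
  omega

theorem siegel_mem_closure_orefl (h : (∃ t : F, t ≠ 0 ∧ t ≠ 1) ∨ Module.finrank F V ≠ 4)
    {u w : V} (hu : Q u = 0) (huw : bil Q u w = 0) :
    siegel hu huw ∈ Subgroup.closure (oreflSet Q) := by
  have mem : ∀ x (hx : bil Q u x = 0), Q x ≠ 0 → siegel hu hx ∈ Subgroup.closure (oreflSet Q) := by
    intro x hx hqx
    rw [siegel_eq_orefl_mul hu hx hqx]
    exact mul_mem (Subgroup.subset_closure ⟨_, _, rfl⟩) (Subgroup.subset_closure ⟨_, _, rfl⟩)
  by_cases hqw : Q w = 0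
  swap
  · exact mem w huw hqw
  by_cases hu0 : u = 0
  · rw [show siegel hu huw = 1 from OQ.ext' fun x => by simp [siegel_smul, hu0]]
    exact one_mem _
  by_cases hl : ∃ a : F, a • u = w
  · obtain ⟨a, rfl⟩ := hl
    rw [siegel_smul_self]
    exact one_mem _
  push Not at hl
  have hi : LinearIndependent F ![u, w] := (LinearIndependent.pair_iff' hu0).2 fun a => hl a
  have h4 : 4 ≤ Module.finrank F V := by
    have hts := totallySingular_finrank_le hN (Submodule.span F (Set.range ![u, w])) (by
      intro x hx y hy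
      rw [Matrix.range_cons_cons_empty, Submodule.mem_span_pair] at hx hy
      obtain ⟨a, b, rfl⟩ := hx
      obtain ⟨c, d, rfl⟩ := hy
      simp [bil_self_of_singular hu, bil_self_of_singular hqw, huw, bil_comm w u])
    rw [finrank_span_eq_card hi, Fintype.card_fin] at hts
    exact hts
  have fin : ∀ y, bil Q u y = 0 → Q y ≠ 0 → Q (w - y) ≠ 0 →
      siegel hu huw ∈ Subgroup.closure (oreflSet Q) := by
    intro y hy hqy hqy'
    have hy' : bil Q u (w - y) = 0 := by rw [map_sub, huw, hy, sub_zero]
    rw [siegel_congr hu huw hu (w' := w - y + y) (by rw [map_add, hy', hy, add_zero]) rfl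
      (sub_add_cancel w y).symm, ← siegel_mul hu hy' hy]
    exact mul_mem (mem _ hy' hqy') (mem _ hy hqy)
  rcases h with ⟨t, ht0, ht1⟩ | hne
  · obtain ⟨y, hy, hqy⟩ := exists_aniso hN ![bil Q u] (by rw [Fintype.card_fin]; omega)
    have hy0 : bil Q u y = 0 := hy 0
    by_cases hyw : Q (w - y) = 0
    · refine fin (t • y) (by rw [map_smul, hy0, smul_zero]) ?_ ?_
      · rw [quad_smul_vec]
        exact mul_ne_zero (mul_ne_zero ht0 ht0) hqy
      · rw [quad_sub, hqw, zero_add] at hyw
        rw [quad_sub, quad_smul_vec, hqw, map_smul, smul_eq_mul,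
          show bil Q w y = Q y from (sub_eq_zero.1 hyw).symm]
        have e : 0 + t * t * Q y - t * Q y = t * (t - 1) * Q y := by ring
        rw [e]
        exact mul_ne_zero (mul_ne_zero ht0 (sub_ne_zero.2 ht1)) hqy
    · exact fin y hy0 hqy hyw
  · obtain ⟨y, hy, hqy⟩ := exists_aniso hN ![bil Q u, bil Q w] (by rw [Fintype.card_fin]; omega)
    have hy0 : bil Q u y = 0 := hy 0
    have hy1 : bil Q w y = 0 := hy 1
    exact fin y hy0 hqy (by rw [quad_sub, hqw, hy1, zero_add, sub_zero]; exact hqy)

/-- The orthogonal group is generated by reflections. -/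
theorem closure_orefl_eq_top (h : (∃ t : F, t ≠ 0 ∧ t ≠ 1) ∨ Module.finrank F V ≠ 4) :
    Subgroup.closure (oreflSet Q) = ⊤ := by
  rw [eq_top_iff, ← orefl_siegel_generate hN, Subgroup.closure_le]
  rintro g (hg | ⟨u, w, hu, huw, rfl⟩)
  · exact Subgroup.subset_closure hg
  · exact siegel_mem_closure_orefl hN h hu huw

end Abstract

section Matrix

variable {ι : Type} [Fintype ι] [DecidableEq ι] {F : Type*} [Field F]
variable (Q : QuadraticForm F (ι → F))

theorem det_reflectionMatrix {v : ι → F} (hv : Q v ≠ 0) : (reflectionMatrix ⇑Q v).det = -1 := by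
  rw [← LinearMap.det_toLin', ← det_orefl (Q := Q) hv]
  exact congrArg LinearMap.det (LinearMap.ext fun x => reflectionMatrix_mulVec Q hv x)

variable (hN : (bil Q).Nondegenerate)
include hN

theorem closure_reflectionSet_eq_top
    (h : (∃ t : F, t ≠ 0 ∧ t ≠ 1) ∨ Fintype.card ι ≠ 4) :
    Subgroup.closure (reflectionSet Q) = ⊤ := by
  apply Subgroup.map_injective (f := (isometryEquiv Q).toMonoidHom) (isometryEquiv Q).injective
  rw [MonoidHom.map_closure, MulEquiv.coe_toMonoidHom, image_reflectionSet,
    Subgroup.map_top_of_surjective (isometryEquiv Q).toMonoidHom (isometryEquiv Q).surjective,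
    closure_orefl_eq_top hN]
  rwa [Module.finrank_fintype_fun_eq_card]

/-- Isometries have determinant `±1`. -/
theorem isometry_det (g : Cfsg.isometryGroup F ⇑Q) :
    ((g : Matrix.GeneralLinearGroup ι F) : Matrix ι ι F).det = 1 ∨
      ((g : Matrix.GeneralLinearGroup ι F) : Matrix ι ι F).det = -1 := by
  set M := ((g : Matrix.GeneralLinearGroup ι F) : Matrix ι ι F)
  set J : Matrix ι ι F := LinearMap.BilinForm.toMatrix' (bil Q)
  have hJ : J.det ≠ 0 := by
    rw [← LinearMap.BilinForm.nondegenerate_toBilin'_iff_det_ne_zero,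
      Matrix.toBilin'_toMatrix']
    exact hN
  have e : Mᵀ * J * M = J := by
    refine Matrix.toBilin'.injective ?_
    rw [← Matrix.toBilin'_comp, Matrix.toBilin'_toMatrix']
    refine LinearMap.ext₂ fun u v => ?_
    exact bil_smul_smul (isometryEquiv Q g) u v
  have e2 := congrArg Matrix.det e
  rw [Matrix.det_mul, Matrix.det_mul, Matrix.det_transpose] at e2
  exact mul_self_eq_one_iff.1 (mul_right_cancel₀ hJ (by linear_combination e2))

end Matrix

end Cfsg.Agent.ClassicalSimple
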