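import Cfsg.Agent.Lib.ClassicalSimple.SimilarityAut
import Cfsg.Agent.Lib.QForm.OmegaQuot
import Cfsg.Agent.Lib.QForm.Std

/-!
The quotients of the projective similarity group of an even-dimensional form over a field of odd order by
the images of the special isometries and of `Omega`.
-/

set_option autoImplicit false

namespace Cfsg.Agent.ClassicalSimple

open scoped Matrix MatrixGroups
open QForm (act refl sphereSign)

section Generic

variable {G H A : Type*} [Group G] [Group H] [Group A]

/-- A homomorphism whose kernel is `K` times the kernel of an action, read on the image of the action. -/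
theorem exists_quot (Φ : G →* H) (χ : G →* A) (hχ : Function.Surjective χ) (K : Subgroup G)
    (hker : χ.ker = K ⊔ Φ.ker) {R M : Subgroup H} (hR : Φ.range = R) (hM : K.map Φ = M) :
    ∃ φ : R →* A, Function.Surjective φ ∧ φ.ker = M.subgroupOf R ∧
      ∀ g, Φ g ∈ M ↔ χ g = 1 := by
  subst hR hM
  have hmem : ∀ g, Φ g ∈ K.map Φ ↔ χ g = 1 := fun g => by
    rw [← Subgroup.mem_comap, Subgroup.comap_map_eq, ← hker, MonoidHom.mem_ker]
  let φ : Φ.range →* A := (QuotientGroup.lift Φ.ker χ (hker ▸ le_sup_right)).comp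
    (QuotientGroup.quotientKerEquivRange Φ).symm.toMonoidHom
  have hφ : ∀ g, φ (Φ.rangeRestrict g) = χ g := fun g => by
    have e : (QuotientGroup.quotientKerEquivRange Φ).symm (Φ.rangeRestrict g) =
        (g : G ⧸ Φ.ker) := (MulEquiv.symm_apply_eq _).2 rfl
    simp [φ, e]
  refine ⟨φ, fun a => ?_, Subgroup.ext fun x => ?_, hmem⟩
  · obtain ⟨g, rfl⟩ := hχ a
    exact ⟨_, hφ g⟩
  · obtain ⟨g, rfl⟩ := Φ.rangeRestrict_surjective x
    rw [MonoidHom.mem_ker, hφ, Subgroup.mem_subgroupOf]
    exact (hmem g).symm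

theorem relIndex_eq_of_hom {R M : Subgroup H} {B : Type*} [Group B] (φ : R →* B)
    (hφ : Function.Surjective φ) (hker : φ.ker = M.subgroupOf R) : M.relIndex R = Nat.card B := by
  rw [Subgroup.relIndex, ← hker, Subgroup.index_ker, MonoidHom.range_eq_top.2 hφ,
    Subgroup.card_top]

/-- A group of order eight with a generating pair of dihedral type is dihedral. -/
theorem exists_dihedral_equiv {W : Type*} [Group W] [Finite W] (hcard : Nat.card W = 8) (a b : W)
    (ha : orderOf a = 4) (hb : b * b = 1) (hab : b * a * b = a⁻¹) :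
    Nonempty (DihedralGroup 4 ≃* W) := by
  let pw : ZMod 4 → W := fun i => a ^ i.val
  have hb' : b⁻¹ = b := inv_eq_of_mul_eq_one_right hb
  have hadd : ∀ i j, pw (i + j) = pw i * pw j := fun i j => by
    simp only [pw, ← pow_add]
    rw [pow_eq_pow_iff_modEq, ha, ZMod.val_add]
    exact Nat.mod_modEq _ _
  have hzero : pw 0 = 1 := by simp [pw]
  have hneg : ∀ i, pw (-i) = (pw i)⁻¹ := fun i =>
    eq_inv_of_mul_eq_one_left (by rw [← hadd, neg_add_cancel, hzero])
  have hconj : ∀ i, pw i * b = b * pw (-i) := fun i => by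
    have : (b * a * b⁻¹) ^ i.val = b * a ^ i.val * b⁻¹ := conj_pow
    rw [hb', hab, inv_pow] at this
    rw [hneg, this, ← mul_assoc, ← mul_assoc, hb, one_mul]
  let f : DihedralGroup 4 →* W :=
    { toFun := fun d => match d with
        | .r i => pw i
        | .sr i => b * pw i
      map_one' := hzero
      map_mul' := by
        rintro (i | i) (j | j)
        · exact hadd i j
        · show b * pw (j - i) = pw i * (b * pw j)
          rw [← mul_assoc, hconj, mul_assoc, ← hadd, neg_add_eq_sub]
        · show b * pw (i + j) = b * pw i * pw j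
          rw [hadd, mul_assoc]
        · show pw (j - i) = b * pw i * (b * pw j)
          rw [mul_assoc, ← mul_assoc (pw i), hconj, mul_assoc, ← mul_assoc b, hb, one_mul, ← hadd,
            neg_add_eq_sub] }
  have hinj : Function.Injective f := by
    refine (injective_iff_map_eq_one f).2 fun d hd => ?_
    rcases d with i | i
    · have hd' : a ^ i.val = 1 := hd
      rw [← orderOf_dvd_iff_pow_eq_one, ha] at hd'
      have hi : i.val = 0 := Nat.eq_zero_of_dvd_of_lt hd' (ZMod.val_lt i)
      rw [(ZMod.val_eq_zero i).1 hi]; rfl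
    · exfalso
      have hd' : b * a ^ i.val = 1 := hd
      have hbv : b = (a ^ i.val)⁻¹ := eq_inv_of_mul_eq_one_left hd'
      have hcomm : Commute b a := hbv ▸ ((Commute.self_pow a i.val).symm.inv_left)
      rw [hcomm.eq, mul_assoc, hb, mul_one] at hab
      have : a ^ 2 = 1 := by rw [pow_two]; nth_rewrite 2 [hab]; rw [mul_inv_cancel]
      rw [← orderOf_dvd_iff_pow_eq_one, ha] at this
      norm_num at this
  have hbij : Function.Bijective f :=
    (Nat.bijective_iff_injective_and_card f).2 ⟨hinj, by rw [hcard, DihedralGroup.nat_card]⟩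
  exact ⟨MulEquiv.ofBijective f hbij⟩

/-- A group of order four with two involutions is a four group. -/
theorem isKleinFour_of_two {W : Type*} [Group W] [Finite W] (hcard : Nat.card W = 4) (s y : W)
    (hs : s * s = 1) (hy : y * y = 1) (hs1 : s ≠ 1) (hy1 : y ≠ 1) (hsy : s ≠ y) : IsKleinFour W := by
  classical
  haveI := Fintype.ofFinite W
  refine ⟨hcard, (Nat.dvd_antisymm (Monoid.exponent_dvd_iff_forall_pow_eq_one.2 fun z => ?_) ?_)⟩
  · by_contra hz
    have h4 : orderOf z ∣ 2 ^ 2 := (orderOf_dvd_natCard z).trans (by rw [hcard]; norm_num)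
    obtain ⟨j, hj, hjz⟩ := (Nat.dvd_prime_pow Nat.prime_two).1 h4
    have hj2 : j = 2 := by
      by_contra hne
      refine hz (orderOf_dvd_iff_pow_eq_one.1 (hjz ▸ ?_))
      exact (pow_dvd_pow 2 (show j ≤ 1 by omega)).trans (by norm_num)
    subst hj2
    haveI : IsCyclic W := isCyclic_of_orderOf_eq_card z (by rw [hjz, hcard]; norm_num)
    have h3 : ({1, s, y} : Finset W) ⊆ Finset.univ.filter fun w => w ^ 2 = 1 := by
      intro w hw
      simp only [Finset.mem_insert, Finset.mem_singleton] at hw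
      rcases hw with rfl | rfl | rfl <;> simp [pow_two, hs, hy]
    have h := (Finset.card_le_card h3).trans (IsCyclic.card_pow_eq_one_le (α := W) two_pos)
    rw [Finset.card_eq_three.2 ⟨1, s, y, hs1.symm, hy1.symm, hsy, rfl⟩] at h
    omega
  · have hd := Monoid.order_dvd_exponent s
    rwa [orderOf_eq_prime (by rw [pow_two, hs]) hs1] at hd

end Generic

section Forms

variable {ι : Type} [Fintype ι] [DecidableEq ι] {F : Type*} [Field F]

/-- The hypotheses: a nondegenerate form in dimension `2k ≥ 6`, odd characteristic. -/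
structure EvenForm (Q : QuadraticForm F (ι → F)) (k : ℕ) : Prop where
  two : (2 : F) ≠ 0
  nondeg : (QuadraticMap.polarBilin Q).Nondegenerate
  card : Fintype.card ι = 2 * k
  three : 3 ≤ k

variable {Q : QuadraticForm F (ι → F)} {k : ℕ}

/-- The multiplier of a similarity. -/
noncomputable def mult (g : GO Q) : Fˣ := g.2.choose

theorem mult_spec (g : GO Q) (v : ι → F) :
    Q ((g.1 : Matrix ι ι F) *ᵥ v) = (mult g : F) * Q v := g.2.choose_spec v

theorem EvenForm.five (E : EvenForm Q k) : 5 ≤ Fintype.card ι := by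
  have := E.card
  have := E.three
  omega

theorem EvenForm.exists_value [Fintype F] (E : EvenForm Q k) {c : F} (hc : c ≠ 0) : ∃ v, Q v = c :=
  QForm.exists_apply_eq E.two E.nondeg (le_trans (by norm_num) E.five) c hc

theorem mult_eq [Fintype F] (E : EvenForm Q k) (g : GO Q) (c : F)
    (h : ∀ v, Q ((g.1 : Matrix ι ι F) *ᵥ v) = c * Q v) : (mult g : F) = c := by
  obtain ⟨v, hv⟩ := E.exists_value one_ne_zero
  have e := (mult_spec g v).symm.trans (h v)
  rwa [hv, mul_one, mul_one] at e

theorem mult_isometry [Fintype F] (E : EvenForm Q k) (g : GO Q) :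
    g.1 ∈ isometryGroup F ⇑Q ↔ (mult g : F) = 1 := by
  rw [mem_isometry_iff]
  exact ⟨fun h => mult_eq E g 1 fun v => (h v).trans (one_mul _).symm,
    fun h v => by rw [mult_spec, h, one_mul]⟩

/-- The multiplier as a homomorphism. -/
noncomputable def multHom [Fintype F] (E : EvenForm Q k) : GO Q →* Fˣ where
  toFun := mult
  map_one' := Units.ext (mult_eq E 1 1 fun v => by simp)
  map_mul' g h := Units.ext (mult_eq E _ _ fun v => by
    rw [Subgroup.coe_mul, Units.val_mul, ← Matrix.mulVec_mulVec, mult_spec, mult_spec, Units.val_mul,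
      mul_assoc])

/-- The sign `det g / μ(g) ^ k`. -/
noncomputable def dsign (k : ℕ) (g : GO Q) : F :=
  (g.1 : Matrix ι ι F).det * (((mult g)⁻¹ ^ k : Fˣ) : F)

theorem dsign_mul [Fintype F] (E : EvenForm Q k) (g h : GO Q) :
    dsign k (g * h) = dsign k g * dsign k h := by
  have e : mult (g * h) = mult g * mult h := map_mul (multHom E) g h
  rw [dsign, dsign, dsign, Subgroup.coe_mul, Units.val_mul, Matrix.det_mul, e, mul_inv, mul_pow,
    Units.val_mul]
  ring

theorem dsign_one [Fintype F] (E : EvenForm Q k) : dsign k (1 : GO Q) = 1 := by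
  have e : mult (1 : GO Q) = 1 := map_one (multHom E)
  rw [dsign, e]
  simp

theorem dsign_isometry [Fintype F] (E : EvenForm Q k) (g : GO Q) (hg : (mult g : F) = 1) :
    dsign k g = (g.1 : Matrix ι ι F).det := by
  rw [dsign, show mult g = 1 from Units.ext hg]
  simp

theorem dsign_pm [Fintype F] (E : EvenForm Q k) (g : GO Q) : dsign k g = 1 ∨ dsign k g = -1 := by
  set M : Matrix ι ι F := (g.1 : Matrix ι ι F)
  set B := LinearMap.BilinForm.toMatrix' (QuadraticMap.polarBilin Q)
  have hB : B.det ≠ 0 := by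
    have := (LinearMap.BilinForm.nondegenerate_iff_det_ne_zero (Pi.basisFun F ι)).1 E.nondeg
    rwa [LinearMap.BilinForm.toMatrix_basisFun] at this
  have e : Mᵀ * B * M = (mult g : F) • B := by
    have h1 : LinearMap.BilinForm.comp (QuadraticMap.polarBilin Q) (Matrix.toLin' M) (Matrix.toLin' M) =
        (mult g : F) • QuadraticMap.polarBilin Q := LinearMap.ext fun x => LinearMap.ext fun y => by
      simp only [LinearMap.BilinForm.comp_apply, LinearMap.smul_apply,
        QuadraticMap.polarBilin_apply_apply, QuadraticMap.polar, Matrix.toLin'_apply,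
        ← Matrix.mulVec_add, M, mult_spec, smul_eq_mul]
      ring
    have h2 := congrArg LinearMap.BilinForm.toMatrix' h1
    rwa [LinearMap.BilinForm.toMatrix'_comp, LinearMap.toMatrix'_toLin', map_smul] at h2
  have e2 := congrArg Matrix.det e
  rw [Matrix.det_mul, Matrix.det_mul, Matrix.det_transpose, Matrix.det_smul, E.card] at e2
  have e3 : M.det * M.det = (mult g : F) ^ (2 * k) := mul_right_cancel₀ hB (by linear_combination e2)
  refine mul_self_eq_one_iff.1 ?_
  rw [dsign, Units.val_pow_eq_pow_val, Units.val_inv_eq_inv_val, inv_pow]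
  field_simp
  rw [pow_two, e3]
  ring

/-- The kernel of the sign. -/
noncomputable def dsub [Fintype F] (E : EvenForm Q k) : Subgroup (GO Q) where
  carrier := {g | dsign k g = 1}
  mul_mem' {a b} ha hb := by
    show dsign k (a * b) = 1
    rw [dsign_mul E, ha, hb, mul_one]
  one_mem' := dsign_one E
  inv_mem' {a} ha := by
    have e := dsign_mul E a⁻¹ a
    rw [inv_mul_cancel, dsign_one E, show dsign k a = 1 from ha, mul_one] at e
    exact e.symm

theorem mem_dsub [Fintype F] (E : EvenForm Q k) (g : GO Q) : g ∈ dsub E ↔ dsign k g = 1 := Iff.rfl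

theorem mem_soSub [Fintype F] (E : EvenForm Q k) (g : GO Q) :
    g ∈ soSub Q ↔ (mult g : F) = 1 ∧ dsign k g = 1 := by
  rw [soSub, Subgroup.mem_subgroupOf, specialIsometryGL, Subgroup.mem_inf, mult_isometry E]
  refine and_congr_right fun h => ?_
  rw [dsign_isometry E g h]
  simp [Geo.specialLinear, Matrix.GeneralLinearGroup.det, Units.ext_iff]

theorem soSub_le_dsub [Fintype F] (E : EvenForm Q k) : soSub Q ≤ dsub E :=
  fun g hg => ((mem_soSub E g).1 hg).2

/-- The non-square class. -/
noncomputable def sqClass (x : Fˣ) : Multiplicative (ZMod 2) :=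
  open Classical in if IsSquare (x : F) then 1 else Multiplicative.ofAdd 1

theorem sqClass_eq_one {x : Fˣ} : sqClass x = 1 ↔ IsSquare (x : F) := by
  classical
  rw [sqClass]
  split <;> rename_i h <;> simp [h]

theorem sqClass_mul [Fintype F] (x y : Fˣ) : sqClass (x * y) = sqClass x * sqClass y := by
  classical
  have two : (Multiplicative.ofAdd (1 : ZMod 2)) * Multiplicative.ofAdd 1 = 1 := by decide
  by_cases hx : IsSquare (x : F) <;> by_cases hy : IsSquare (y : F)
  · simp [sqClass, hx, hy, hx.mul hy]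
  · have h : ¬ IsSquare ((x : F) * y) := by
      rw [QForm.isSquare_mul_nonsquare_iff x.ne_zero hy]; exact not_not.2 hx
    simp [sqClass, hx, hy, h]
  · have h : ¬ IsSquare ((x : F) * y) := by
      rw [mul_comm, QForm.isSquare_mul_nonsquare_iff y.ne_zero hx]; exact not_not.2 hy
    simp [sqClass, hx, hy, h]
  · have h : IsSquare ((x : F) * y) := (QForm.isSquare_mul_nonsquare_iff x.ne_zero hy).2 hx
    simp [sqClass, hx, hy, h, two]

/-- The square class of the multiplier. -/
noncomputable def multClass [Fintype F] (E : EvenForm Q k) : GO Q →* Multiplicative (ZMod 2) where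
  toFun g := sqClass (mult g)
  map_one' := sqClass_eq_one.2 (by
    rw [show mult (1 : GO Q) = 1 from map_one (multHom E), Units.val_one]; exact IsSquare.one)
  map_mul' g h := by rw [show mult (g * h) = _ from map_mul (multHom E) g h]; exact sqClass_mul _ _

/-- The sign as a homomorphism to `ZMod 2`. -/
noncomputable def signClass [Fintype F] (E : EvenForm Q k) : GO Q →* Multiplicative (ZMod 2) where
  toFun g := open Classical in if dsign k g = 1 then 1 else Multiplicative.ofAdd 1
  map_one' := by simp [dsign_one E]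
  map_mul' g h := by
    classical
    have hne : (-1 : F) ≠ 1 := fun e => E.two (by linear_combination -e)
    have two : (Multiplicative.ofAdd (1 : ZMod 2)) * Multiplicative.ofAdd 1 = 1 := by decide
    rw [dsign_mul E]
    rcases dsign_pm E g with a | a <;> rcases dsign_pm E h with b | b <;> simp [a, b, hne, two]

theorem multClass_eq_one [Fintype F] (E : EvenForm Q k) {g : GO Q} :
    multClass E g = 1 ↔ IsSquare (mult g : F) := sqClass_eq_one

theorem signClass_eq_one [Fintype F] (E : EvenForm Q k) {g : GO Q} :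
    signClass E g = 1 ↔ dsign k g = 1 := by
  classical
  show (if dsign k g = 1 then _ else _) = _ ↔ _
  split <;> rename_i h <;> simp [h]

/-- Both classes. -/
noncomputable def pgoClass [Fintype F] (E : EvenForm Q k) : GO Q →* Multiplicative (ZMod 2 × ZMod 2) :=
  (MulEquiv.prodMultiplicative (ZMod 2) (ZMod 2)).symm.toMonoidHom.comp
    ((multClass E).prod (signClass E))

theorem pgoClass_eq_one [Fintype F] (E : EvenForm Q k) {g : GO Q} :
    pgoClass E g = 1 ↔ IsSquare (mult g : F) ∧ dsign k g = 1 := by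
  rw [pgoClass, MonoidHom.comp_apply, MulEquiv.coe_toMonoidHom, EmbeddingLike.map_eq_one_iff,
    MonoidHom.prod_apply, Prod.mk_eq_one, multClass_eq_one, signClass_eq_one]

/-- A scalar similarity. -/
noncomputable def scalarGO (Q : QuadraticForm F (ι → F)) (c : Fˣ) : GO Q :=
  ⟨Units.map (Matrix.scalar ι : F →+* Matrix ι ι F).toMonoidHom c, c * c, fun v => by
    rw [show ((Units.map (Matrix.scalar ι : F →+* Matrix ι ι F).toMonoidHom c : GL ι F) : Matrix ι ι F) =
      (c : F) • 1 from (Matrix.smul_one_eq_diagonal _).symm, Matrix.smul_mulVec, Matrix.one_mulVec,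
      QuadraticMap.map_smul, smul_eq_mul, Units.val_mul]⟩

theorem scalarGO_mem (c : Fˣ) : scalarGO Q c ∈ scalarSub Q := ⟨c, rfl⟩

theorem scalar_classes [Fintype F] (E : EvenForm Q k) {g : GO Q} (hg : g ∈ scalarSub Q) :
    ∃ a : Fˣ, (g.1 : Matrix ι ι F) = (a : F) • 1 ∧ (mult g : F) = a * a ∧ dsign k g = 1 := by
  obtain ⟨a, ha⟩ := (Geo.mem_scalars_iff _).1 hg
  have ha' : (g.1 : Matrix ι ι F) = (a : F) • 1 := ha
  have hm : (mult g : F) = a * a := mult_eq E g _ fun v => by
    rw [ha', Matrix.smul_mulVec, Matrix.one_mulVec, QuadraticMap.map_smul, smul_eq_mul]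
  refine ⟨a, ha', hm, ?_⟩
  rw [dsign, show mult g = a * a from Units.ext (by rw [hm, Units.val_mul]), ha', Matrix.det_smul,
    Matrix.det_one, mul_one, E.card, ← Units.val_pow_eq_pow_val, ← Units.val_mul,
    show a ^ (2 * k) * (a * a)⁻¹ ^ k = 1 by rw [pow_mul, pow_two, inv_pow, mul_inv_cancel],
    Units.val_one]

/-- A reflection as a similarity. -/
noncomputable def reflGO (v : ι → F) (hv : Q v ≠ 0) : GO Q :=
  ⟨(refl Q v hv).1, isometry_le_GO Q (refl Q v hv).2⟩

theorem mult_refl [Fintype F] (E : EvenForm Q k) (v : ι → F) (hv : Q v ≠ 0) :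
    (mult (reflGO v hv) : F) = 1 := (mult_isometry E _).1 (refl Q v hv).2

theorem dsign_refl [Fintype F] (E : EvenForm Q k) (v : ι → F) (hv : Q v ≠ 0) :
    dsign k (reflGO v hv) = -1 := by
  rw [dsign_isometry E _ (mult_refl E v hv)]
  exact QForm.det_reflectionMatrix Q hv

theorem reflGO_mul_self (v : ι → F) (hv : Q v ≠ 0) : reflGO v hv * reflGO v hv = 1 :=
  Subtype.ext (show ((refl Q v hv).1 * (refl Q v hv).1 : GL ι F) = 1 from
    congrArg Subtype.val (QForm.refl_mul_self Q v hv))

theorem conj_reflGO (g : GO Q) (v : ι → F) (hv : Q v ≠ 0) :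
    ∃ hv' : Q ((g.1 : Matrix ι ι F) *ᵥ v) ≠ 0,
      g * reflGO v hv * g⁻¹ = reflGO ((g.1 : Matrix ι ι F) *ᵥ v) hv' := by
  have hv' : Q ((g.1 : Matrix ι ι F) *ᵥ v) ≠ 0 := by
    rw [mult_spec]; exact mul_ne_zero (mult g).ne_zero hv
  refine ⟨hv', Subtype.ext (Units.ext (Matrix.ext_iff_mulVec.2 fun x => ?_))⟩
  simp only [Subgroup.coe_mul, InvMemClass.coe_inv, Units.val_mul, ← Matrix.mulVec_mulVec]
  show (g.1 : Matrix ι ι F) *ᵥ reflectionMatrix ⇑Q v *ᵥ _ = reflectionMatrix ⇑Q _ *ᵥ x
  rw [QForm.reflectionMatrix_mulVec, QForm.reflectionMatrix_mulVec, Matrix.mulVec_sub,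
    Matrix.mulVec_smul, mulVec_inv_cancel]
  set y := ((g.1⁻¹ : GL ι F) : Matrix ι ι F) *ᵥ x
  have hx : (g.1 : Matrix ι ι F) *ᵥ y = x := mulVec_inv_cancel _ _
  have hp : QuadraticMap.polar ⇑Q ((g.1 : Matrix ι ι F) *ᵥ v) x =
      (mult g : F) * QuadraticMap.polar ⇑Q v y := by
    rw [← hx]
    simp only [QuadraticMap.polar, ← Matrix.mulVec_add, mult_spec]
    ring
  rw [mult_spec, hp]
  congr 2
  field_simp

variable [Fintype F]

/-- The images modulo the special isometries. -/
theorem ker_pgoClass (E : EvenForm Q k) : (pgoClass E).ker = soSub Q ⊔ (simAut Q).ker := by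
  rw [ker_simAut Q E.nondeg E.five]
  refine le_antisymm (fun g hg => ?_) (sup_le (fun g hg => ?_) fun g hg => ?_)
  · obtain ⟨⟨r, hr⟩, hd⟩ := (pgoClass_eq_one E).1 hg
    have hr0 : r ≠ 0 := by
      rintro rfl
      exact (mult g).ne_zero (by simpa using hr)
    set s := scalarGO Q (Units.mk0 r hr0)
    obtain ⟨a, ha, hm, hds⟩ := scalar_classes E (scalarGO_mem (Q := Q) (Units.mk0 r hr0))
    have hms : (mult s : F) = r * r := mult_eq E s _ fun v => by
      show Q ((Matrix.scalar ι r) *ᵥ v) = _
      rw [Matrix.scalar_apply, ← Matrix.smul_one_eq_diagonal, Matrix.smul_mulVec, Matrix.one_mulVec,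
        QuadraticMap.map_smul, smul_eq_mul]
    have e : g = g * s⁻¹ * s := (inv_mul_cancel_right g s).symm
    rw [e]
    refine mul_mem (Subgroup.mem_sup_left ((mem_soSub E _).2 ⟨?_, ?_⟩))
      (Subgroup.mem_sup_right (scalarGO_mem _))
    · rw [show mult (g * s⁻¹) = mult g * (mult s)⁻¹ from
        ((map_mul (multHom E) g s⁻¹).trans (congrArg (mult g * ·) (map_inv (multHom E) s))),
        Units.val_mul, Units.val_inv_eq_inv_val, hr, hms, mul_inv_cancel₀ (mul_ne_zero hr0 hr0)]
    · rw [dsign_mul E, hd, one_mul]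
      exact inv_mem (show s ∈ dsub E from hds)
  · obtain ⟨h1, h2⟩ := (mem_soSub E g).1 hg
    exact (pgoClass_eq_one E).2 ⟨h1 ▸ IsSquare.one, h2⟩
  · obtain ⟨a, -, hm, hd⟩ := scalar_classes E hg
    exact (pgoClass_eq_one E).2 ⟨⟨a, hm⟩, hd⟩

/-- A similarity of non-square multiplier squaring to a scalar, as used to split the quotients. -/
structure Twist (E : EvenForm Q k) where
  g : GO Q
  sq : g * g ∈ scalarSub Q
  nonsquare : ¬ IsSquare (mult g : F)
  sign : dsign k g = (-1) ^ k

variable (E : EvenForm Q k) (T : Twist E)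

theorem exists_refl (E : EvenForm Q k) : ∃ (v : ι → F) (hv : Q v ≠ 0), Q v = 1 ∧
    dsign k (reflGO v hv) = -1 ∧ (mult (reflGO v hv) : F) = 1 := by
  obtain ⟨v, hv⟩ := E.exists_value one_ne_zero
  have hv0 : Q v ≠ 0 := hv ▸ one_ne_zero
  exact ⟨v, hv0, hv, dsign_refl E v hv0, mult_refl E v hv0⟩

include T in
/-- `PGO / PSO` is a four group. -/
theorem exists_pgo_pso : ∃ φ : pgoAut F ⇑Q →* Multiplicative (ZMod 2 × ZMod 2),
    Function.Surjective φ ∧ φ.ker = (psoAut F ⇑Q).subgroupOf (pgoAut F ⇑Q) := by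
  have hne : (-1 : F) ≠ 1 := fun e => E.two (by linear_combination -e)
  have hsurj : Function.Surjective (pgoClass E) := by
    obtain ⟨v, hv, -, hd, hm⟩ := exists_refl E
    have z2 : ∀ x : Multiplicative (ZMod 2), x ≠ 1 → x = Multiplicative.ofAdd 1 := by decide
    have e1 : multClass E T.g = Multiplicative.ofAdd 1 :=
      z2 _ fun e => T.nonsquare ((multClass_eq_one E).1 e)
    have e2 : multClass E (reflGO v hv) = 1 := (multClass_eq_one E).2 (hm ▸ IsSquare.one)
    have e3 : signClass E (reflGO v hv) = Multiplicative.ofAdd 1 :=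
      z2 _ fun e => hne (hd ▸ (signClass_eq_one E).1 e)
    have hs : Function.Surjective ((multClass E).prod (signClass E)) := by
      rintro ⟨x, y⟩
      by_cases hx : x = 1 <;> by_cases hy : y = 1
      · exact ⟨1, by simp [hx, hy]⟩
      · exact ⟨reflGO v hv, by simp [hx, z2 y hy, e2, e3]⟩
      · by_cases h : signClass E T.g = 1
        · exact ⟨T.g, by simp [z2 x hx, hy, e1, h]⟩
        · exact ⟨T.g * reflGO v hv, by
            simp [z2 x hx, hy, e1, e2, e3, z2 _ h, map_mul]; decide⟩
      · by_cases h : signClass E T.g = 1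
        · exact ⟨T.g * reflGO v hv, by simp [z2 x hx, z2 y hy, e1, e2, e3, h, map_mul]⟩
        · exact ⟨T.g, by simp [z2 x hx, z2 y hy, e1, z2 _ h]⟩
    exact (MulEquiv.prodMultiplicative (ZMod 2) (ZMod 2)).symm.surjective.comp hs
  obtain ⟨φ, h1, h2, -⟩ := exists_quot (simAut Q) (pgoClass E) hsurj (soSub Q) (ker_pgoClass E)
    (pgoAut_eq Q).symm (psoAut_eq Q).symm
  exact ⟨φ, h1, h2⟩

/-- The image of the sign kernel: the inner-diagonal group. -/
noncomputable def innDiag : Subgroup (MulAut (POmega F ⇑Q)) := (dsub E).map (simAut Q)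

theorem psoAut_le_innDiag : psoAut F ⇑Q ≤ innDiag E := by
  rw [psoAut_eq]; exact Subgroup.map_mono (soSub_le_dsub E)

theorem innDiag_le_pgoAut : innDiag E ≤ pgoAut F ⇑Q := by
  rw [pgoAut_eq]; exact Subgroup.map_le_range _ _

include T in
theorem exists_inndiag_pso : ∃ φ : innDiag E →* Multiplicative (ZMod 2),
    Function.Surjective φ ∧ φ.ker = (psoAut F ⇑Q).subgroupOf (innDiag E) := by
  obtain ⟨v, hv, -, hd, hm⟩ := exists_refl E
  have hsurj : Function.Surjective ((multClass E).comp (dsub E).subtype) := by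
    intro x
    have z2 : ∀ x : Multiplicative (ZMod 2), x ≠ 1 → x = Multiplicative.ofAdd 1 := by decide
    by_cases hx : x = 1
    · exact ⟨1, by rw [hx, map_one]⟩
    · rcases dsign_pm E T.g with h | h
      · refine ⟨⟨T.g, h⟩, ?_⟩
        rw [z2 x hx]
        exact z2 _ fun e => T.nonsquare ((multClass_eq_one E).1 e)
      · refine ⟨⟨T.g * reflGO v hv, ?_⟩, ?_⟩
        · show dsign k _ = 1
          rw [dsign_mul E, h, hd, neg_one_mul, neg_neg]
        · rw [z2 x hx]
          refine z2 _ ?_
          show multClass E (T.g * reflGO v hv) ≠ 1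
          rw [map_mul, (multClass_eq_one E (g := reflGO v hv)).2 (hm ▸ IsSquare.one), mul_one]
          exact fun e => T.nonsquare ((multClass_eq_one E).1 e)
  have hker : ((multClass E).comp (dsub E).subtype).ker =
      (soSub Q).subgroupOf (dsub E) ⊔ ((simAut Q).comp (dsub E).subtype).ker := by
    rw [← MonoidHom.comap_ker, ← MonoidHom.comap_ker]
    ext ⟨g, hg⟩
    rw [Subgroup.mem_comap]
    constructor
    · intro h
      have : g ∈ soSub Q ⊔ (simAut Q).ker := by
        rw [← ker_pgoClass E]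
        exact (pgoClass_eq_one E).2 ⟨(multClass_eq_one E).1 h, hg⟩
      rw [Subgroup.mem_sup_of_normal_right] at this
      obtain ⟨a, ha, b, hb, rfl⟩ := this
      rw [ker_simAut Q E.nondeg E.five] at hb
      refine (show (⟨a * b, hg⟩ : dsub E) =
        ⟨a, soSub_le_dsub E ha⟩ * ⟨b, (scalar_classes E hb).choose_spec.2.2⟩ from rfl) ▸
        mul_mem (Subgroup.mem_sup_left ha) (Subgroup.mem_sup_right ?_)
      rw [Subgroup.mem_comap, ker_simAut Q E.nondeg E.five]
      exact hb
    · intro h
      have : (⟨g, hg⟩ : dsub E) ∈ ((multClass E).ker.comap (dsub E).subtype) := by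
        refine (sup_le (fun x hx => ?_) fun x hx => ?_ :
          (soSub Q).subgroupOf (dsub E) ⊔ (simAut Q).ker.comap (dsub E).subtype ≤ _) h
        · exact (multClass_eq_one E).2 (((mem_soSub E _).1 hx).1 ▸ IsSquare.one)
        · rw [Subgroup.mem_comap, ker_simAut Q E.nondeg E.five] at hx
          obtain ⟨a, -, hm, -⟩ := scalar_classes E hx
          exact (multClass_eq_one E).2 ⟨a, hm⟩
      exact this
  obtain ⟨φ, h1, h2, -⟩ := exists_quot ((simAut Q).comp (dsub E).subtype)
    ((multClass E).comp (dsub E).subtype) hsurj ((soSub Q).subgroupOf (dsub E)) hker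
    (R := innDiag E) (M := psoAut F ⇑Q) (by rw [MonoidHom.range_comp, Subgroup.range_subtype]; rfl)
    (by rw [← Subgroup.map_map, Subgroup.subgroupOf_map_subtype, inf_of_le_left (soSub_le_dsub E),
      psoAut_eq])
  exact ⟨φ, h1, h2⟩

end Forms

end Cfsg.Agent.ClassicalSimple
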