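import Cfsg.Agent.Lib.ClassicalSimple.PGOOmega
import Cfsg.Agent.Lib.QForm.Levi
import Cfsg.Agent.Lib.QForm.SpinorApps
import Cfsg.Agent.Lib.Field.QuadraticExt

/-!
The inner-diagonal groups and the splitting similarities of the forms of plus and minus type.
-/

set_option autoImplicit false

namespace Cfsg.Agent.ClassicalSimple

open scoped Matrix MatrixGroups
open QForm (act refl plusForm minusForm TotallySingular)
open Module (finrank)

section Classes

variable {ι : Type} [Fintype ι] [DecidableEq ι] {F : Type*} [Field F] [Fintype F]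
variable {Q : QuadraticForm F (ι → F)} {k : ℕ}

theorem EvenForm.finrank_eq (E : EvenForm Q k) : finrank F (ι → F) = 2 * k := by
  rw [Module.finrank_fintype_fun_eq_card, E.card]

/-- The image of a subspace under a similarity. -/
noncomputable def simImage (g : GO Q) (U : Submodule F (ι → F)) : Submodule F (ι → F) :=
  imageSubmodule (g.1 : Matrix ι ι F) U

theorem toLin_injective (g : GO Q) : Function.Injective (Matrix.toLin' (g.1 : Matrix ι ι F)) := by
  intro x y h
  have := congrArg (fun z => ((g.1⁻¹ : GL ι F) : Matrix ι ι F) *ᵥ z) h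
  simpa [Matrix.mulVec_mulVec, ← Units.val_mul] using this

theorem finrank_simImage (g : GO Q) (U : Submodule F (ι → F)) :
    finrank F (simImage g U) = finrank F U :=
  (Submodule.equivMapOfInjective _ (toLin_injective g) U).finrank_eq.symm

theorem simImage_inf (g : GO Q) (U W : Submodule F (ι → F)) :
    simImage g (U ⊓ W) = simImage g U ⊓ simImage g W :=
  Submodule.map_inf _ (toLin_injective g)

theorem simImage_mul (g h : GO Q) (U : Submodule F (ι → F)) :
    simImage (g * h) U = simImage g (simImage h U) := by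
  rw [simImage, simImage, simImage, imageSubmodule, imageSubmodule, imageSubmodule, ← Submodule.map_comp,
    ← Matrix.toLin'_mul, Subgroup.coe_mul, Units.val_mul]

theorem totallySingular_simImage (g : GO Q) {U : Submodule F (ι → F)} (hU : TotallySingular Q U) :
    TotallySingular Q (simImage g U) := by
  rintro _ ⟨u, hu, rfl⟩
  rw [Matrix.toLin'_apply, mult_spec, hU u hu, mul_zero]

/-- A maximal totally singular subspace has dimension `k`, if one of dimension `k` exists. -/
theorem finrank_maxSingular (E : EvenForm Q k) {U0 U : Submodule F (ι → F)}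
    (h0 : TotallySingular Q U0) (h0k : finrank F U0 = k) (hU : IsMaxTotallySingular ⇑Q U) :
    finrank F U = k := by
  have hUs : TotallySingular Q U := hU.1
  have hle : finrank F U ≤ k := by
    have h1 := Submodule.finrank_mono hUs.le_orthogonal
    rw [LinearMap.BilinForm.finrank_orthogonal E.nondeg, E.finrank_eq] at h1
    have h2 : finrank F U ≤ finrank F (ι → F) := Submodule.finrank_le U
    rw [E.finrank_eq] at h2
    omega
  let bU := Module.finBasis F U
  let b0 := Module.finBasisOfFinrankEq F U0 h0k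
  let φ : U →ₗ[F] (ι → F) := bU.constr F fun i => (b0 (Fin.castLE hle i) : ι → F)
  have hφli : LinearIndependent F fun i => φ (bU i) := by
    simp only [φ, Module.Basis.constr_basis]
    exact ((b0.linearIndependent.map' U0.subtype U0.ker_subtype).comp _ (Fin.castLE_injective hle))
  have hinj : Function.Injective φ := by
    refine (injective_iff_map_eq_zero φ).2 fun x hx => bU.ext_elem fun i => ?_
    rw [map_zero, Finsupp.zero_apply]
    refine Fintype.linearIndependent_iff.1 hφli (fun i => bU.repr x i) ?_ i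
    rw [← hx]
    conv_rhs => rw [← bU.sum_repr x, map_sum]
    simp
  have hφ0 : ∀ x : U, φ x ∈ U0 := fun x => by
    rw [Module.Basis.constr_apply_fintype]
    exact Submodule.sum_mem _ fun i _ => Submodule.smul_mem _ _ (b0 _).2
  obtain ⟨h, hh⟩ := QForm.exists_act_extend E.nondeg U φ hinj fun x => by rw [h0 _ (hφ0 x), hUs _ x.2]
  have hsub : U ≤ QForm.image h⁻¹ U0 := fun u hu => (QForm.mem_image _).2
    ⟨φ ⟨u, hu⟩, hφ0 _, by rw [← hh ⟨u, hu⟩]; exact QForm.act_inv_act Q h u⟩
  rw [← hU.2 _ (QForm.totallySingular_image _ h0) hsub, QForm.finrank_image, h0k]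

/-- A similarity fixes the two classes iff its sign is one. -/
theorem preserves_iff_dsign (E : EvenForm Q k) {U0 : Submodule F (ι → F)}
    (h0 : TotallySingular Q U0) (h0k : finrank F U0 = k) (g d : GO Q)
    (hd : mult d = mult g) (hdU : simImage d U0 = U0) (hds : dsign k d = 1) :
    PreservesSingularClasses ⇑Q (g.1 : Matrix ι ι F) ↔ dsign k g = 1 := by
  have hV := E.finrank_eq
  set h : GO Q := d⁻¹ * g
  have hg : g = d * h := (mul_inv_cancel_left d g).symm
  have hm : (mult h : F) = 1 := by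
    rw [show mult h = (mult d)⁻¹ * mult g from (map_mul (multHom E) d⁻¹ g).trans
      (congrArg (· * mult g) (map_inv (multHom E) d)), hd, inv_mul_cancel, Units.val_one]
  let hi : isometryGroup F ⇑Q := ⟨h.1, (mult_isometry E h).2 hm⟩
  have himg : ∀ U, simImage h U = QForm.image hi U := fun U => rfl
  have key : Even (k - finrank F ↥(U0 ⊓ simImage g U0)) ↔ dsign k g = 1 := by
    have e : finrank F ↥(U0 ⊓ simImage g U0) = finrank F ↥(U0 ⊓ simImage h U0) := by
      have hi := simImage_inf d U0 (simImage h U0)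
      rw [hdU] at hi
      rw [hg, simImage_mul, ← hi, finrank_simImage]
    rw [e, himg, QForm.family_iff_det E.nondeg hV E.two h0 h0k hi, hg, dsign_mul E, hds, one_mul,
      dsign_isometry E h hm]
  constructor
  · intro hp
    have hmax : IsMaxTotallySingular ⇑Q U0 := ⟨h0, fun W hW hle => by
      refine (Submodule.eq_of_le_of_finrank_le hle ?_).symm
      have hWs : TotallySingular Q W := hW
      have h1 := Submodule.finrank_mono hWs.le_orthogonal
      rw [LinearMap.BilinForm.finrank_orthogonal E.nondeg, hV] at h1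
      have h2 : finrank F W ≤ finrank F (ι → F) := Submodule.finrank_le W
      rw [hV] at h2
      omega⟩
    have := hp U0 hmax
    rw [SameParityClass, h0k] at this
    exact key.1 this
  · intro hs U hU
    have hUk := finrank_maxSingular E h0 h0k hU
    rw [SameParityClass, hUk]
    have hUs : TotallySingular Q U := hU.1
    have h1 := QForm.finrank_inf_parity E.nondeg hV hUs hUk h0 h0k
      (totallySingular_simImage g h0) ((finrank_simImage g U0).trans h0k)
    have h2 := QForm.finrank_inf_parity E.nondeg hV hUs hUk (totallySingular_simImage g h0)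
      ((finrank_simImage g U0).trans h0k) (totallySingular_simImage g hUs)
      ((finrank_simImage g U).trans hUk)
    have h3 : finrank F ↥(simImage g U0 ⊓ simImage g U) = finrank F ↥(U ⊓ U0) := by
      rw [← simImage_inf, finrank_simImage, inf_comm]
    have h4 := key.2 hs
    have b1 : finrank F ↥(U ⊓ simImage g U) ≤ k := (Submodule.finrank_mono inf_le_left).trans_eq hUk
    have b2 : finrank F ↥(U0 ⊓ simImage g U0) ≤ k := (Submodule.finrank_mono inf_le_left).trans_eq h0k
    show Even (k - finrank F ↥(U ⊓ simImage g U))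
    rw [Nat.even_iff] at h4 ⊢
    omega

/-- Matrices with inverse up to a scalar as similarities. -/
theorem exists_GO_of_matrix (Q : QuadraticForm F (ι → F)) (M : Matrix ι ι F) (hM : M.det ≠ 0) (ν : F)
    (hν : ν ≠ 0) (h : ∀ v, Q (M *ᵥ v) = ν * Q v) : ∃ g : GO Q, (g.1 : Matrix ι ι F) = M :=
  ⟨⟨Matrix.GeneralLinearGroup.mkOfDetNeZero M hM, Units.mk0 ν hν, h⟩, rfl⟩

theorem dsign_eq_of_det (E : EvenForm Q k) (g : GO Q) {ν s : F}
    (hm : (mult g : F) = ν) (hd : (g.1 : Matrix ι ι F).det = s * ν ^ k) : dsign k g = s := by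
  rw [dsign, hd, Units.val_pow_eq_pow_val, Units.val_inv_eq_inv_val, hm, inv_pow, mul_assoc,
    mul_inv_cancel₀ (pow_ne_zero _ (hm ▸ (mult g).ne_zero)), mul_one]

theorem exists_nonsquare' (E : EvenForm Q k) : ∃ ν : F, ν ≠ 0 ∧ ¬ IsSquare ν := by
  have hF : ringChar F ≠ 2 := fun hc => E.two (by
    have : CharP F 2 := ringChar.of_eq hc
    exact CharTwo.two_eq_zero)
  obtain ⟨ν, hν⟩ := FiniteField.exists_nonsquare hF
  exact ⟨ν, fun e => hν (e ▸ IsSquare.zero), hν⟩

end Classes

section Blocks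

variable {F : Type*} [Field F]

/-- `(x, y) ↦ (ν x, y)`. -/
def diagBlock (m : ℕ) (ν : F) : Matrix (Fin m ⊕ Fin m) (Fin m ⊕ Fin m) F :=
  Matrix.fromBlocks (ν • 1) 0 0 1

/-- `(x, y) ↦ (ν y, x)`. -/
def swapBlock (m : ℕ) (ν : F) : Matrix (Fin m ⊕ Fin m) (Fin m ⊕ Fin m) F :=
  Matrix.fromBlocks 0 (ν • 1) 1 0

theorem det_diagBlock (m : ℕ) (ν : F) : (diagBlock m ν).det = ν ^ m := by
  rw [diagBlock, Matrix.det_fromBlocks_zero₁₂, Matrix.det_smul, Matrix.det_one,
    Fintype.card_fin, mul_one, mul_one]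

theorem det_swapBlock (m : ℕ) (ν : F) : (swapBlock m ν).det = (-1) ^ m * ν ^ m := by
  have e : swapBlock m ν = Matrix.fromBlocks 0 1 1 0 * Matrix.fromBlocks 1 0 0 (ν • 1) := by
    simp [swapBlock, Matrix.fromBlocks_multiply]
  rw [e, Matrix.det_mul, QForm.det_hyperbolic, Matrix.det_fromBlocks_zero₁₂, Matrix.det_smul,
    Matrix.det_one, Fintype.card_fin, one_mul, mul_one]

theorem quad_diagBlock (m : ℕ) (ν : F) (v : Fin m ⊕ Fin m → F) :
    quadFormPlus m F (diagBlock m ν *ᵥ v) = ν * quadFormPlus m F v := by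
  simp [quadFormPlus, diagBlock, Matrix.fromBlocks_mulVec, Matrix.smul_mulVec, Finset.mul_sum,
    mul_assoc]

theorem quad_swapBlock (m : ℕ) (ν : F) (v : Fin m ⊕ Fin m → F) :
    quadFormPlus m F (swapBlock m ν *ᵥ v) = ν * quadFormPlus m F v := by
  simp [quadFormPlus, swapBlock, Matrix.fromBlocks_mulVec, Matrix.smul_mulVec, Finset.mul_sum]
  exact Finset.sum_congr rfl fun i _ => by ring

theorem swapBlock_sq (m : ℕ) (ν : F) : swapBlock m ν * swapBlock m ν = ν • 1 := by
  simp [swapBlock, Matrix.fromBlocks_multiply, ← Matrix.fromBlocks_one, Matrix.fromBlocks_smul]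

/-- Multiplication by `x + θ y`. -/
def normMul (a b x y : F) : Matrix (Fin 2) (Fin 2) F := !![x, -(b * y); y, x + a * y]

/-- Conjugation followed by multiplication by `x + θ y`. -/
def normConj (a b x y : F) : Matrix (Fin 2) (Fin 2) F := !![x, a * x + b * y; y, -x]

variable (a b : F)

/-- The similarity of the minus form of multiplier `N(x + θ y)` preserving the classes. -/
def minusDiag (m : ℕ) (x y : F) : Matrix ((Fin m ⊕ Fin m) ⊕ Fin 2) ((Fin m ⊕ Fin m) ⊕ Fin 2) F :=
  Matrix.fromBlocks (diagBlock m (x ^ 2 + a * x * y + b * y ^ 2)) 0 0 (normMul a b x y)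

/-- The similarity of the minus form of multiplier `N(x + θ y)` squaring to a scalar. -/
def minusSwap (m : ℕ) (x y : F) : Matrix ((Fin m ⊕ Fin m) ⊕ Fin 2) ((Fin m ⊕ Fin m) ⊕ Fin 2) F :=
  Matrix.fromBlocks (swapBlock m (x ^ 2 + a * x * y + b * y ^ 2)) 0 0 (normConj a b x y)

theorem quadFormMinus_eq (m : ℕ) (v : (Fin m ⊕ Fin m) ⊕ Fin 2 → F) :
    quadFormMinus m F a b v = quadFormPlus m F (v ∘ Sum.inl) +
      (v (.inr 0) ^ 2 + a * v (.inr 0) * v (.inr 1) + b * v (.inr 1) ^ 2) := rfl

theorem quad_minusDiag (m : ℕ) (x y : F) (v : (Fin m ⊕ Fin m) ⊕ Fin 2 → F) :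
    quadFormMinus m F a b (minusDiag a b m x y *ᵥ v) =
      (x ^ 2 + a * x * y + b * y ^ 2) * quadFormMinus m F a b v := by
  rw [quadFormMinus_eq, quadFormMinus_eq, mul_add, ← quad_diagBlock]
  congr 1
  · congr 1
    funext i
    simp [minusDiag, Matrix.fromBlocks_mulVec]
  · simp [minusDiag, normMul, Matrix.fromBlocks_mulVec, Matrix.mulVec, dotProduct, Fin.sum_univ_two]
    ring

theorem quad_minusSwap (m : ℕ) (x y : F) (v : (Fin m ⊕ Fin m) ⊕ Fin 2 → F) :
    quadFormMinus m F a b (minusSwap a b m x y *ᵥ v) =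
      (x ^ 2 + a * x * y + b * y ^ 2) * quadFormMinus m F a b v := by
  rw [quadFormMinus_eq, quadFormMinus_eq, mul_add, ← quad_swapBlock]
  congr 1
  · congr 1
    funext i
    simp [minusSwap, Matrix.fromBlocks_mulVec]
  · simp [minusSwap, normConj, Matrix.fromBlocks_mulVec, Matrix.mulVec, dotProduct, Fin.sum_univ_two]
    ring

theorem det_minusDiag (m : ℕ) (x y : F) :
    (minusDiag a b m x y).det = 1 * (x ^ 2 + a * x * y + b * y ^ 2) ^ (m + 1) := by
  rw [minusDiag, Matrix.det_fromBlocks_zero₁₂, det_diagBlock, normMul, Matrix.det_fin_two_of]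
  ring

theorem det_minusSwap (m : ℕ) (x y : F) :
    (minusSwap a b m x y).det = (-1) ^ (m + 1) * (x ^ 2 + a * x * y + b * y ^ 2) ^ (m + 1) := by
  rw [minusSwap, Matrix.det_fromBlocks_zero₁₂, det_swapBlock, normConj, Matrix.det_fin_two_of]
  ring

theorem minusSwap_sq (m : ℕ) (x y : F) :
    minusSwap a b m x y * minusSwap a b m x y = (x ^ 2 + a * x * y + b * y ^ 2) • 1 := by
  rw [minusSwap, Matrix.fromBlocks_multiply, ← Matrix.fromBlocks_one, Matrix.fromBlocks_smul]
  simp only [Matrix.mul_zero, Matrix.zero_mul, add_zero, zero_add, smul_zero, swapBlock_sq]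
  congr 1
  ext i j
  fin_cases i <;> fin_cases j <;> simp [normConj, Matrix.mul_apply, Fin.sum_univ_two] <;> ring

/-- A maximal singular subspace of the plus form, with the splitting similarities fixing it. -/
theorem exists_plus_fixed [Fintype F] (m : ℕ) :
    ∃ U0, TotallySingular (plusForm F m) U0 ∧ finrank F U0 = m ∧
      ∀ ν : F, ∀ u ∈ U0, diagBlock m ν *ᵥ u ∈ U0 := by
  let g : (Fin m → F) →ₗ[F] (Fin m ⊕ Fin m → F) :=
    { toFun := fun x => Sum.elim x 0
      map_add' := fun x y => by funext j; rcases j with i | i <;> simp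
      map_smul' := fun c x => by funext j; rcases j with i | i <;> simp }
  refine ⟨LinearMap.range g, ?_, ?_, ?_⟩
  · rintro _ ⟨x, rfl⟩
    rw [QForm.plusForm_apply]
    simp [quadFormPlus, g]
  · rw [LinearMap.finrank_range_of_inj (f := g) fun x y h => funext fun i => congrFun h (Sum.inl i)]
    simp
  · rintro ν _ ⟨x, rfl⟩
    exact ⟨ν • x, by
      funext j
      rcases j with i | i <;> simp [g, diagBlock, Matrix.fromBlocks_mulVec, Matrix.smul_mulVec]⟩

/-- Over a field where the binary part splits: a maximal singular subspace fixed by `minusDiag`. -/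
theorem exists_minus_fixed (m : ℕ) (θ : F) (hθ : θ ^ 2 - a * θ + b = 0) :
    ∃ U0, TotallySingular (minusForm F m a b) U0 ∧ finrank F U0 = m + 1 ∧
      ∀ x y : F, ∀ u ∈ U0, minusDiag a b m x y *ᵥ u ∈ U0 := by
  let g : ((Fin m → F) × F) →ₗ[F] ((Fin m ⊕ Fin m) ⊕ Fin 2 → F) :=
    { toFun := fun p => Sum.elim (Sum.elim p.1 0) ![-θ * p.2, p.2]
      map_add' := fun p p' => by
        funext j
        rcases j with (i | i) | i
        · simp
        · simp
        · fin_cases i <;> simp <;> ring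
      map_smul' := fun c p => by
        funext j
        rcases j with (i | i) | i
        · simp
        · simp
        · fin_cases i <;> simp <;> ring }
  refine ⟨LinearMap.range g, ?_, ?_, ?_⟩
  · rintro _ ⟨p, rfl⟩
    rw [QForm.minusForm_apply]
    simp [quadFormMinus, g]
    linear_combination p.2 ^ 2 * hθ
  · rw [LinearMap.finrank_range_of_inj (f := g) fun p p' h => Prod.ext
      (funext fun i => congrFun h (Sum.inl (Sum.inl i))) (congrFun h (Sum.inr 1))]
    simp
  · rintro x y _ ⟨p, rfl⟩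
    refine ⟨((x ^ 2 + a * x * y + b * y ^ 2) • p.1, (x + y * (a - θ)) * p.2), ?_⟩
    funext j
    rcases j with (i | i) | i
    · simp [g, minusDiag, diagBlock, Matrix.fromBlocks_mulVec, Matrix.smul_mulVec,
        Function.comp_def]
    · simp [g, minusDiag, diagBlock, Matrix.fromBlocks_mulVec, Function.comp_def]
    · fin_cases i
      · simp [g, minusDiag, normMul, Matrix.fromBlocks_mulVec, Matrix.mulVec, dotProduct,
          Fin.sum_univ_two]
        linear_combination (y * p.2) * hθ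
      · simp [g, minusDiag, normMul, Matrix.fromBlocks_mulVec, Matrix.mulVec, dotProduct,
          Fin.sum_univ_two]
        ring

end Blocks

section Plus

variable {F : Type*} [Field F] [Fintype F] {m : ℕ}

theorem evenForm_plus (hodd : Odd (Fintype.card F)) (hm : 3 ≤ m) : EvenForm (plusForm F m) m :=
  ⟨QForm.two_ne_zero_of_odd rfl hodd, QForm.plusForm_nondegenerate F m,
    by simp [two_mul], hm⟩

theorem twist_plus (E : EvenForm (plusForm F m) m) : Nonempty (Twist E) := by
  obtain ⟨ν, hν0, hν⟩ := exists_nonsquare' E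
  have hq : ∀ v, plusForm F m (swapBlock m ν *ᵥ v) = ν * plusForm F m v := fun v => by
    rw [QForm.plusForm_apply, QForm.plusForm_apply, quad_swapBlock]
  obtain ⟨g, hg⟩ := exists_GO_of_matrix (plusForm F m) _
    (by rw [det_swapBlock]
        exact mul_ne_zero (pow_ne_zero _ (neg_ne_zero.2 (one_ne_zero (α := F)))) (pow_ne_zero _ hν0))
    ν hν0 hq
  have hm' : (mult g : F) = ν := mult_eq E g ν fun v => by rw [hg]; exact hq v
  refine ⟨⟨g, (Geo.mem_scalars_iff _).2 ⟨Units.mk0 ν hν0, ?_⟩, hm' ▸ hν,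
    dsign_eq_of_det E g hm' (by rw [hg, det_swapBlock])⟩⟩
  show ((g.1 * g.1 : GL (Fin m ⊕ Fin m) F) : Matrix (Fin m ⊕ Fin m) (Fin m ⊕ Fin m) F) = _
  rw [Units.val_mul, hg, swapBlock_sq, Units.val_mk0]

theorem preserves_plus (E : EvenForm (plusForm F m) m) (g : GO (plusForm F m)) :
    PreservesSingularClasses ⇑(plusForm F m) (g.1 : Matrix _ _ F) ↔ dsign m g = 1 := by
  obtain ⟨U0, h0, h0k, hfix⟩ := exists_plus_fixed (F := F) m
  set ν : F := (mult g : F)
  have hν0 : ν ≠ 0 := (mult g).ne_zero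
  have hq : ∀ v, plusForm F m (diagBlock m ν *ᵥ v) = ν * plusForm F m v := fun v => by
    rw [QForm.plusForm_apply, QForm.plusForm_apply, quad_diagBlock]
  obtain ⟨d, hd⟩ := exists_GO_of_matrix (plusForm F m) _
    (by rw [det_diagBlock]; exact pow_ne_zero _ hν0) ν hν0 hq
  have hm' : (mult d : F) = ν := mult_eq E d ν fun v => by rw [hd]; exact hq v
  refine preserves_iff_dsign E h0 h0k g d (Units.ext hm') ?_
    (dsign_eq_of_det E d hm' (by rw [hd, det_diagBlock, one_mul]))
  refine Submodule.eq_of_le_of_finrank_eq ?_ (finrank_simImage d U0)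
  rintro _ ⟨u, hu, rfl⟩
  rw [Matrix.toLin'_apply, hd]
  exact hfix ν u hu

theorem inndiag_plus (E : EvenForm (plusForm F m) m) :
    autSubgroupOf (fun β : MulAut (POmega F ⇑(plusForm F m)) =>
      ∃ g : GL (Fin m ⊕ Fin m) F, g ∈ GO (plusForm F m) ∧
        PreservesSingularClasses ⇑(plusForm F m) (g : Matrix _ _ F) ∧
        IsInducedBySemilinearPOmega ⇑(plusForm F m) g (RingEquiv.refl F) β) = innDiag E := by
  have := autSubgroupOf_eq_map (plusForm F m)
    (fun g => g ∈ GO (plusForm F m) ∧ PreservesSingularClasses ⇑(plusForm F m) (g : Matrix _ _ F))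
    (dsub E) (fun g => by rw [and_iff_right g.2, preserves_plus E g, mem_dsub]) (fun g hg => hg.1)
  simp only [and_assoc] at this
  exact this

theorem negOne_plus (hodd : Odd (Fintype.card F)) :
    NegOneOmega (plusForm F m) ↔ ¬ (Odd m ∧ Fintype.card F % 4 = 3) := by
  rw [NegOneOmega, QForm.neg_one_mem_omega_iff (QForm.two_ne_zero_of_odd rfl hodd)
    (QForm.plusForm_nondegenerate F m) ⟨m, by simp⟩ (Pi.basisFun F _), QForm.det_gram_plus]
  rcases Nat.even_or_odd m with he | ho
  · rw [he.neg_one_pow]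
    exact iff_of_true IsSquare.one fun h => (Nat.not_odd_iff_even.2 he) h.1
  · rw [ho.neg_one_pow, FiniteField.isSquare_neg_one_iff]
    simp [ho]

end Plus

section Minus

universe u

variable {F : Type u} [Field F] [Fintype F] {m : ℕ} {a b : F}

theorem minus_nondegenerate (K : Type*) [Field K] (a b : K) (h : a ^ 2 - 4 * b ≠ 0) :
    (QuadraticMap.polarBilin (minusForm K m a b)).Nondegenerate := by
  refine (LinearMap.BilinForm.nondegenerate_iff_det_ne_zero (Pi.basisFun K _)).2 ?_
  rw [← QForm.gram_eq_toMatrix, QForm.det_gram_minus]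
  exact mul_ne_zero (pow_ne_zero _ (neg_ne_zero.2 one_ne_zero)) h

theorem evenForm_minus (hodd : Odd (Fintype.card F)) (hm : 2 ≤ m)
    (hab : ∀ z₁ z₂ : F, z₁ ^ 2 + a * z₁ * z₂ + b * z₂ ^ 2 = 0 → z₁ = 0 ∧ z₂ = 0) :
    EvenForm (minusForm F m a b) (m + 1) :=
  ⟨QForm.two_ne_zero_of_odd rfl hodd,
    minus_nondegenerate F a b fun e => QForm.not_isSquare_disc (QForm.two_ne_zero_of_odd rfl hodd) hab
      (e ▸ IsSquare.zero),
    by simp; omega, by omega⟩

theorem exists_norm_eq (h2 : (2 : F) ≠ 0) (hd : a ^ 2 - 4 * b ≠ 0) {ν : F} (hν : ν ≠ 0) :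
    ∃ x y : F, x ^ 2 + a * x * y + b * y ^ 2 = ν := by
  obtain ⟨s, t, hst⟩ := QForm.exists_two_squares_eq_one h2 (a := ν⁻¹)
    (b := -(a ^ 2 - 4 * b) / (4 * ν)) (inv_ne_zero hν)
    (div_ne_zero (neg_ne_zero.2 hd) (mul_ne_zero (by
      rw [show (4 : F) = 2 * 2 by norm_num]; exact mul_ne_zero h2 h2) hν))
  refine ⟨s - a * t / 2, t, ?_⟩
  have h4 : (4 : F) ≠ 0 := by
    rw [show (4 : F) = 2 * 2 by norm_num]; exact mul_ne_zero h2 h2
  have hst' : 4 * (s * s) - (a ^ 2 - 4 * b) * (t * t) = 4 * ν := by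
    field_simp at hst
    linear_combination hst
  field_simp
  linear_combination hst'

theorem twist_minus (E : EvenForm (minusForm F m a b) (m + 1))
    (hab : ∀ z₁ z₂ : F, z₁ ^ 2 + a * z₁ * z₂ + b * z₂ ^ 2 = 0 → z₁ = 0 ∧ z₂ = 0) :
    Nonempty (Twist E) := by
  obtain ⟨ν, hν0, hν⟩ := exists_nonsquare' E
  obtain ⟨x, y, hxy⟩ := exists_norm_eq E.two
    (fun e => QForm.not_isSquare_disc E.two hab (e ▸ IsSquare.zero)) hν0
  have hq : ∀ v, minusForm F m a b (minusSwap a b m x y *ᵥ v) = ν * minusForm F m a b v := fun v => by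
    rw [QForm.minusForm_apply, QForm.minusForm_apply, quad_minusSwap, hxy]
  obtain ⟨g, hg⟩ := exists_GO_of_matrix (minusForm F m a b) _
    (by rw [det_minusSwap, hxy]
        exact mul_ne_zero (pow_ne_zero _ (neg_ne_zero.2 (one_ne_zero (α := F)))) (pow_ne_zero _ hν0))
    ν hν0 hq
  have hm' : (mult g : F) = ν := mult_eq E g ν fun v => by rw [hg]; exact hq v
  refine ⟨⟨g, (Geo.mem_scalars_iff _).2 ⟨Units.mk0 ν hν0, ?_⟩, hm' ▸ hν,
    dsign_eq_of_det E g hm' (by rw [hg, det_minusSwap, hxy])⟩⟩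
  show ((g.1 * g.1 : GL ((Fin m ⊕ Fin m) ⊕ Fin 2) F) :
    Matrix ((Fin m ⊕ Fin m) ⊕ Fin 2) ((Fin m ⊕ Fin m) ⊕ Fin 2) F) = _
  rw [Units.val_mul, hg, minusSwap_sq, hxy, Units.val_mk0]

theorem negOne_minus (hodd : Odd (Fintype.card F))
    (hab : ∀ z₁ z₂ : F, z₁ ^ 2 + a * z₁ * z₂ + b * z₂ ^ 2 = 0 → z₁ = 0 ∧ z₂ = 0) :
    NegOneOmega (minusForm F m a b) ↔ Even m ∧ Fintype.card F % 4 = 3 := by
  have h2 := QForm.two_ne_zero_of_odd rfl hodd
  have hd := QForm.not_isSquare_disc h2 hab
  rw [NegOneOmega, QForm.neg_one_mem_omega_iff h2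
    (minus_nondegenerate F a b fun e => hd (e ▸ IsSquare.zero)) ⟨m + 1, by simp; omega⟩
    (Pi.basisFun F _), QForm.det_gram_minus,
    QForm.isSquare_mul_nonsquare_iff (pow_ne_zero _ (neg_ne_zero.2 one_ne_zero)) hd]
  rcases Nat.even_or_odd m with he | ho
  · rw [he.add_one.neg_one_pow, FiniteField.isSquare_neg_one_iff]
    simp [he]
  · rw [ho.add_one.neg_one_pow]
    exact iff_of_false (not_not.2 IsSquare.one) fun h => (Nat.not_even_iff_odd.2 ho) h.1

theorem preserves_minus (E : EvenForm (minusForm F m a b) (m + 1))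
    (g : GO (minusForm F m a b)) (K : Type u) [Field K] [Algebra F K] (hK : finrank F K = 2) :
    PreservesSingularClasses (quadFormMinus m K (algebraMap F K a) (algebraMap F K b))
      ((g.1 : Matrix ((Fin m ⊕ Fin m) ⊕ Fin 2) ((Fin m ⊕ Fin m) ⊕ Fin 2) F).map (algebraMap F K)) ↔ dsign (m + 1) g = 1 := by
  haveI : Module.Finite F K := Module.finite_of_finrank_pos (by omega)
  haveI : Finite K := Module.finite_of_finite F
  letI : Fintype K := Fintype.ofFinite K
  set f := algebraMap F K with hf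
  obtain ⟨θ, hθ⟩ := FieldExt.exists_root hK (-a) b
  rw [map_neg] at hθ
  have h2K : (2 : K) ≠ 0 := by
    rw [← map_ofNat f 2]
    exact (map_ne_zero f).2 E.two
  have hdisc : f a ^ 2 - 4 * f b ≠ 0 := by
    have hne : a ^ 2 - 4 * b ≠ 0 := fun e => by
      have hg := LinearMap.BilinForm.nondegenerate_iff_det_ne_zero
        (Pi.basisFun F ((Fin m ⊕ Fin m) ⊕ Fin 2)) |>.1 E.nondeg
      rw [← QForm.gram_eq_toMatrix, QForm.det_gram_minus, e, mul_zero] at hg
      exact hg rfl
    rw [← map_ofNat f 4, ← map_pow, ← map_mul, ← map_sub]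
    exact (map_ne_zero f).2 hne
  have EK : EvenForm (minusForm K m (f a) (f b)) (m + 1) :=
    ⟨h2K, minus_nondegenerate K _ _ hdisc, E.card, E.three⟩
  obtain ⟨U0, h0, h0k, hfix⟩ := exists_minus_fixed (f a) (f b) m θ (by linear_combination hθ)
  set M : Matrix ((Fin m ⊕ Fin m) ⊕ Fin 2) ((Fin m ⊕ Fin m) ⊕ Fin 2) K := (g.1 : Matrix ((Fin m ⊕ Fin m) ⊕ Fin 2) ((Fin m ⊕ Fin m) ⊕ Fin 2) F).map f
  have hdet : M.det = f (g.1 : Matrix ((Fin m ⊕ Fin m) ⊕ Fin 2) ((Fin m ⊕ Fin m) ⊕ Fin 2) F).det := (RingHom.map_det f _).symm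
  have hMv : ∀ w : (Fin m ⊕ Fin m) ⊕ Fin 2 → F, M *ᵥ (f ∘ w) = f ∘ ((g.1 : Matrix ((Fin m ⊕ Fin m) ⊕ Fin 2) ((Fin m ⊕ Fin m) ⊕ Fin 2) F) *ᵥ w) :=
    fun w => funext fun i => (RingHom.map_mulVec f _ w i).symm
  have hQv : ∀ w : (Fin m ⊕ Fin m) ⊕ Fin 2 → F,
      minusForm K m (f a) (f b) (f ∘ w) = f (minusForm F m a b w) := fun w => by
    simp [QForm.minusForm_apply, quadFormMinus, map_sum]
  have hsim : ∀ v, minusForm K m (f a) (f b) (M *ᵥ v) = f (mult g : F) * minusForm K m (f a) (f b) v := by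
    intro v
    set QK := minusForm K m (f a) (f b)
    have hB : LinearMap.BilinForm.comp (QuadraticMap.polarBilin QK) (Matrix.toLin' M) (Matrix.toLin' M) =
        f (mult g : F) • QuadraticMap.polarBilin QK := by
      refine LinearMap.ext_basis (Pi.basisFun K _) (Pi.basisFun K _) fun i j => ?_
      have hs : ∀ i : (Fin m ⊕ Fin m) ⊕ Fin 2, (Pi.basisFun K _) i = f ∘ Pi.single i 1 := fun i => by
        funext l; by_cases h : l = i <;> simp [h, Pi.single_apply]
      simp only [LinearMap.BilinForm.comp_apply, LinearMap.smul_apply, Matrix.toLin'_apply,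
        QuadraticMap.polarBilin_apply_apply, QuadraticMap.polar, smul_eq_mul]
      rw [hs i, hs j, ← Matrix.mulVec_add]
      have hadd : f ∘ Pi.single i 1 + f ∘ Pi.single j 1 =
          f ∘ (Pi.single i 1 + Pi.single j 1 : (Fin m ⊕ Fin m) ⊕ Fin 2 → F) := by
        funext l; simp
      rw [hadd]
      simp only [hMv, hQv, mult_spec, map_mul]
      ring
    have h := congrArg (fun B => B v v) hB
    simp only [LinearMap.BilinForm.comp_apply, LinearMap.smul_apply, Matrix.toLin'_apply,
      QuadraticMap.polarBilin_apply_apply, QuadraticMap.polar_self, smul_eq_mul, nsmul_eq_mul,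
      Nat.cast_ofNat] at h
    exact mul_left_cancel₀ h2K (by linear_combination h)
  have hν0 : f (mult g : F) ≠ 0 := (map_ne_zero f).2 (mult g).ne_zero
  obtain ⟨gK, hgK⟩ := exists_GO_of_matrix (minusForm K m (f a) (f b)) M
    (by rw [hdet]; exact (map_ne_zero f).2 (Matrix.GeneralLinearGroup.det g.1).ne_zero) _ hν0 hsim
  have hmK : (mult gK : K) = f (mult g : F) := mult_eq EK gK _ fun v => by rw [hgK]; exact hsim v
  have hdg : (g.1 : Matrix ((Fin m ⊕ Fin m) ⊕ Fin 2) ((Fin m ⊕ Fin m) ⊕ Fin 2) F).det = dsign (m + 1) g * (mult g : F) ^ (m + 1) := by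
    rw [dsign, Units.val_pow_eq_pow_val, Units.val_inv_eq_inv_val, inv_pow, mul_assoc,
      inv_mul_cancel₀ (pow_ne_zero _ (mult g).ne_zero), mul_one]
  have hdK : dsign (m + 1) gK = f (dsign (m + 1) g) :=
    dsign_eq_of_det EK gK hmK (by rw [hgK, hdet, ← map_pow, ← map_mul, ← hdg])
  obtain ⟨x, y, hxy⟩ := exists_norm_eq (F := K) h2K hdisc hν0
  have hq : ∀ v, minusForm K m (f a) (f b) (minusDiag (f a) (f b) m x y *ᵥ v) =
      f (mult g : F) * minusForm K m (f a) (f b) v := fun v => by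
    rw [QForm.minusForm_apply, QForm.minusForm_apply, quad_minusDiag, hxy]
  obtain ⟨d, hd⟩ := exists_GO_of_matrix (minusForm K m (f a) (f b)) _
    (by rw [det_minusDiag, hxy, one_mul]; exact pow_ne_zero _ hν0) _ hν0 hq
  have hmd : (mult d : K) = f (mult g : F) := mult_eq EK d _ fun v => by rw [hd]; exact hq v
  have h := preserves_iff_dsign EK h0 h0k gK d (Units.ext (hmd.trans hmK.symm))
    (Submodule.eq_of_le_of_finrank_eq (by
      rintro _ ⟨u, hu, rfl⟩
      rw [Matrix.toLin'_apply, hd]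
      exact hfix x y u hu) (finrank_simImage d U0))
    (dsign_eq_of_det EK d hmd (by rw [hd, det_minusDiag, hxy]))
  rw [hgK, hdK, map_eq_one_iff f f.injective, QForm.coe_minusForm] at h
  exact h

theorem exists_quadratic_field (hab : ∀ z₁ z₂ : F, z₁ ^ 2 + a * z₁ * z₂ + b * z₂ ^ 2 = 0 → z₁ = 0 ∧ z₂ = 0) :
    ∃ (K : Type u) (_ : Field K) (_ : Algebra F K), finrank F K = 2 := by
  classical
  let p : Polynomial F := Polynomial.X ^ 2 + Polynomial.C (-a) * Polynomial.X + Polynomial.C b
  have hdeg : p.natDegree = 2 := by simp only [p]; compute_degree!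
  have hirr : Irreducible p := by
    refine (Polynomial.irreducible_iff_roots_eq_zero_of_degree_le_three (by omega) (by omega)).2 ?_
    refine Multiset.eq_zero_of_forall_notMem fun x hx => one_ne_zero (hab (-x) 1 ?_).2
    have := Polynomial.isRoot_of_mem_roots hx
    simp [p] at this
    linear_combination this
  haveI := Fact.mk hirr
  exact ⟨AdjoinRoot p, inferInstance, inferInstance, by
    rw [(AdjoinRoot.powerBasis hirr.ne_zero).finrank, AdjoinRoot.powerBasis_dim, hdeg]⟩

theorem inndiag_minus (E : EvenForm (minusForm F m a b) (m + 1))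
    (hab : ∀ z₁ z₂ : F, z₁ ^ 2 + a * z₁ * z₂ + b * z₂ ^ 2 = 0 → z₁ = 0 ∧ z₂ = 0) :
    autSubgroupOf (fun β : MulAut (POmega F ⇑(minusForm F m a b)) =>
      ∃ g : GL ((Fin m ⊕ Fin m) ⊕ Fin 2) F, g ∈ GO (minusForm F m a b) ∧
        PreservesSingularClassesMinus m a b (g : Matrix _ _ F) ∧
        IsInducedBySemilinearPOmega ⇑(minusForm F m a b) g (RingEquiv.refl F) β) = innDiag E := by
  have key : ∀ g : GO (minusForm F m a b),
      PreservesSingularClassesMinus m a b (g.1 : Matrix ((Fin m ⊕ Fin m) ⊕ Fin 2) ((Fin m ⊕ Fin m) ⊕ Fin 2) F) ↔ dsign (m + 1) g = 1 := by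
    intro g
    constructor
    · rintro ⟨K, hKf, hKa, hK, hp⟩
      exact (preserves_minus E g K hK).1 hp
    · intro h
      obtain ⟨K, hKf, hKa, hK⟩ := exists_quadratic_field hab
      exact ⟨K, hKf, hKa, hK, (preserves_minus E g K hK).2 h⟩
  have := autSubgroupOf_eq_map (minusForm F m a b)
    (fun g => g ∈ GO (minusForm F m a b) ∧ PreservesSingularClassesMinus m a b (g : Matrix _ _ F))
    (dsub E) (fun g => by rw [and_iff_right g.2, key g, mem_dsub]) (fun g hg => hg.1)
  simp only [and_assoc] at this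
  exact this

end Minus

end Cfsg.Agent.ClassicalSimple
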