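import Cfsg.Agent.Lib.ClassicalSimple.PGOQuot

/-!
The projective similarity group and the inner-diagonal group of an even-dimensional orthogonal group of odd
order field, modulo the inner automorphisms.
-/

set_option autoImplicit false

namespace Cfsg.Agent.ClassicalSimple

open scoped Matrix MatrixGroups
open QForm (act refl sphereSign)

variable {ι : Type} [Fintype ι] [DecidableEq ι] {F : Type*} [Field F] [Fintype F] [DecidableEq F]
variable {Q : QuadraticForm F (ι → F)} {k : ℕ}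

theorem orderOf_eq_four {W : Type*} [Group W] (a : W) (h2 : a * a ≠ 1) (h4 : a * a * (a * a) = 1) :
    orderOf a = 2 ^ (1 + 1) :=
  orderOf_eq_prime_pow (by rwa [pow_one, pow_two])
    (by rw [show 2 ^ (1 + 1) = 2 * 2 by norm_num, pow_mul, pow_two, pow_two, h4])

theorem ker_comp_equiv {G H K : Type*} [Group G] [Group H] [Group K] (f : G →* H) (e : H ≃* K) :
    (e.toMonoidHom.comp f).ker = f.ker :=
  Subgroup.ext fun x => by
    rw [MonoidHom.mem_ker, MonoidHom.mem_ker, MonoidHom.comp_apply, MulEquiv.coe_toMonoidHom,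
      EmbeddingLike.map_eq_one_iff]

/-- `-1` lies in `Omega`. -/
def NegOneOmega (Q : QuadraticForm F (ι → F)) : Prop :=
  ∃ g : isometryGroup F ⇑Q, g ∈ Omega F ⇑Q ∧ ((g : GL ι F) : Matrix ι ι F) = -1

/-- The sphere sign on the special isometries. -/
noncomputable def spin (Q : QuadraticForm F (ι → F)) : soSub Q →* ℤˣ :=
  (sphereSign Q).comp
    { toFun := fun g => ⟨g.1.1, g.2.1⟩
      map_one' := rfl
      map_mul' := fun _ _ => rfl }

theorem spin_apply (g : soSub Q) : spin Q g = sphereSign Q ⟨g.1.1, g.2.1⟩ := rfl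

theorem mem_omegaSub (E : EvenForm Q k) (g : soSub Q) : g.1 ∈ omegaSub Q ↔ spin Q g = 1 := by
  classical
  have hdet : ((g.1.1 : GL ι F) : Matrix ι ι F).det = 1 := by
    have h := (mem_soSub E g.1).1 g.2
    rw [← dsign_isometry E _ h.1]
    exact h.2
  constructor
  · rintro ⟨t, ht, htg⟩
    obtain rfl : t = ⟨g.1.1, g.2.1⟩ := Subtype.ext htg
    exact ((QForm.mem_omega_iff_invariants E.two E.nondeg _).1 ht).1
  · intro h
    exact ⟨⟨g.1.1, g.2.1⟩,
      (QForm.mem_omega_iff_invariants E.two E.nondeg _).2 ⟨h, hdet⟩, rfl⟩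

theorem omegaSub_le_soSub (E : EvenForm Q k) : omegaSub Q ≤ soSub Q := by
  classical
  rintro g ⟨t, ht, htg⟩
  refine (mem_soSub E g).2 ?_
  have hiso : g.1 ∈ isometryGroup F ⇑Q := by
    have : g.1 = t.1 := htg.symm
    rw [this]; exact t.2
  have hm : (mult g : F) = 1 := (mult_isometry E g).1 hiso
  refine ⟨hm, ?_⟩
  rw [dsign_isometry E g hm, show g.1 = t.1 from htg.symm]
  exact ((QForm.mem_omega_iff_invariants E.two E.nondeg t).1 ht).2

theorem inn_le_pso (E : EvenForm Q k) : Inn (POmega F ⇑Q) ≤ psoAut F ⇑Q := by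
  rw [inn_eq, psoAut_eq]
  exact Subgroup.map_mono (omegaSub_le_soSub E)

theorem scalar_soSub (E : EvenForm Q k) {g : GO Q} (hg : g ∈ scalarSub Q) (h : g ∈ soSub Q) :
    g = 1 ∨ (g.1 : Matrix ι ι F) = -1 := by
  obtain ⟨a, ha, hm, -⟩ := scalar_classes E hg
  rw [((mem_soSub E g).1 h).1] at hm
  rcases mul_self_eq_one_iff.1 hm.symm with e | e
  · exact Or.inl (Subtype.ext (Units.ext (by rw [ha, e, one_smul]; rfl)))
  · exact Or.inr (by rw [ha, e, neg_smul, one_smul])

theorem scalar_neg (E : EvenForm Q k) :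
    ∃ n : GO Q, n ∈ soSub Q ∧ n ∈ scalarSub Q ∧ (n.1 : Matrix ι ι F) = -1 := by
  obtain ⟨a, ha, hm, hd⟩ := scalar_classes E (scalarGO_mem (Q := Q) (-1 : Fˣ))
  have hv : ((scalarGO Q (-1 : Fˣ)).1 : Matrix ι ι F) = -1 := by
    show Matrix.scalar ι ((-1 : Fˣ) : F) = -1
    rw [Units.val_neg, Units.val_one, map_neg, map_one]
  refine ⟨_, (mem_soSub E _).2 ⟨mult_eq E _ 1 fun v => ?_, hd⟩, scalarGO_mem _, hv⟩
  rw [hv, Matrix.neg_mulVec, Matrix.one_mulVec, QuadraticMap.map_neg, one_mul]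

theorem pso_eq_inn (E : EvenForm Q k) (hneg : ¬ NegOneOmega Q) :
    psoAut F ⇑Q = Inn (POmega F ⇑Q) := by
  refine le_antisymm ?_ (inn_le_pso E)
  rw [psoAut_eq, inn_eq]
  rintro _ ⟨g, hg, rfl⟩
  by_cases h : spin Q ⟨g, hg⟩ = 1
  · exact Subgroup.mem_map_of_mem _ ((mem_omegaSub E ⟨g, hg⟩).2 h)
  · obtain ⟨n, hn, hns, hnv⟩ := scalar_neg E
    have hn1 : spin Q ⟨n, hn⟩ ≠ 1 := fun e => by
      obtain ⟨t, ht, htn⟩ := (mem_omegaSub E ⟨n, hn⟩).2 e
      exact hneg ⟨t, ht, by rw [show (t : GL ι F) = n.1 from htn]; exact hnv⟩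
    have hp : spin Q ((⟨g, hg⟩ : soSub Q) * (⟨n, hn⟩ : soSub Q)) = 1 := by
      rcases Int.units_eq_one_or (spin Q ⟨g, hg⟩) with e | e
      · exact absurd e h
      · rcases Int.units_eq_one_or (spin Q ⟨n, hn⟩) with e' | e'
        · exact absurd e' hn1
        · rw [map_mul, e, e']; rfl
    have hmem := (mem_omegaSub E ((⟨g, hg⟩ : soSub Q) * (⟨n, hn⟩ : soSub Q))).2 hp
    rw [Subgroup.coe_mul] at hmem
    refine ⟨g * n, hmem, ?_⟩
    have hk1 : n ∈ (simAut Q).ker := by rw [ker_simAut Q E.nondeg E.five]; exact hns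
    rw [map_mul, MonoidHom.mem_ker.1 hk1, mul_one]

/-- The commutator of a twist with a reflection. -/
theorem exists_spin_neg (E : EvenForm Q k) (T : Twist E) :
    ∃ (v : ι → F) (hv : Q v ≠ 0) (t : soSub Q),
      t.1 = T.g * reflGO v hv * T.g⁻¹ * reflGO v hv ∧ spin Q t = -1 := by
  classical
  obtain ⟨v, hv, hv1, hd, hm⟩ := exists_refl E
  obtain ⟨hv', e⟩ := conj_reflGO T.g v hv
  have hd' := dsign_refl E _ hv'
  have hm' := mult_refl E _ hv'
  have hmem : T.g * reflGO v hv * T.g⁻¹ * reflGO v hv ∈ soSub Q := by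
    rw [e, mem_soSub E]
    refine ⟨?_, ?_⟩
    · rw [show mult (reflGO _ hv' * reflGO v hv) = _ from map_mul (multHom E) _ _]
      show ((mult _ * mult _ : Fˣ) : F) = 1
      rw [Units.val_mul, hm, hm', one_mul]
    · rw [dsign_mul E, hd, hd', neg_one_mul, neg_neg]
  refine ⟨v, hv, ⟨_, hmem⟩, rfl, Units.ext ?_⟩
  have hsplit : spin Q ⟨_, hmem⟩ =
      sphereSign Q (refl Q _ hv') * sphereSign Q (refl Q v hv) := by
    rw [spin_apply, ← map_mul]
    congr 1
    refine Subtype.ext ?_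
    show (T.g * reflGO v hv * T.g⁻¹ * reflGO v hv : GO Q).1 = _
    rw [e]
    rfl
  rw [hsplit, Units.val_mul, QForm.sphereSign_refl Q E.two, QForm.sphereSign_refl Q E.two, mult_spec,
    hv1, mul_one, (quadraticChar_neg_one_iff_not_isSquare).2 T.nonsquare, map_one]
  rfl

theorem inn_mem_iff (E : EvenForm Q k) (hneg : NegOneOmega Q) (g : soSub Q) :
    simAut Q g.1 ∈ Inn (POmega F ⇑Q) ↔ spin Q g = 1 := by
  rw [← mem_omegaSub E, inn_eq, ← Subgroup.mem_comap, Subgroup.comap_map_eq]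
  refine ⟨fun h => ?_, fun h => Subgroup.mem_sup_left h⟩
  rw [Subgroup.mem_sup_of_normal_right] at h
  obtain ⟨a, ha, b, hb, hab⟩ := h
  rw [← hab]
  refine mul_mem ha ?_
  rw [ker_simAut Q E.nondeg E.five] at hb
  have hbso : b ∈ soSub Q := by
    have : b = a⁻¹ * g.1 := by rw [← hab, inv_mul_cancel_left]
    rw [this]
    exact mul_mem (inv_mem (omegaSub_le_soSub E ha)) g.2
  rcases scalar_soSub E hb hbso with rfl | h1
  · exact one_mem _
  · obtain ⟨t, ht, ht1⟩ := hneg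
    exact ⟨t, ht, Units.ext (ht1.trans h1.symm)⟩

theorem inn_relIndex_pso (E : EvenForm Q k) (T : Twist E) (hneg : NegOneOmega Q) :
    (Inn (POmega F ⇑Q)).relIndex (psoAut F ⇑Q) = 2 := by
  have hsurj : Function.Surjective (spin Q) := by
    intro x
    rcases Int.units_eq_one_or x with rfl | rfl
    · exact ⟨1, map_one _⟩
    · obtain ⟨-, -, t, -, ht⟩ := exists_spin_neg E T
      exact ⟨t, ht⟩
  have hker : (spin Q).ker = (omegaSub Q).subgroupOf (soSub Q) ⊔
      ((simAut Q).comp (soSub Q).subtype).ker := by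
    refine le_antisymm (fun g hg => ?_) (sup_le (fun g hg => ?_) fun g hg => ?_)
    · exact Subgroup.mem_sup_left ((mem_omegaSub E g).2 hg)
    · exact (mem_omegaSub E g).1 hg
    · refine (inn_mem_iff E hneg g).1 ?_
      rw [show simAut Q g.1 = 1 from MonoidHom.mem_ker.1 hg]
      exact one_mem _
  obtain ⟨φ, h1, h2, -⟩ := exists_quot ((simAut Q).comp (soSub Q).subtype) (spin Q) hsurj
    ((omegaSub Q).subgroupOf (soSub Q)) hker (R := psoAut F ⇑Q) (M := Inn (POmega F ⇑Q))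
    (by rw [MonoidHom.range_comp, Subgroup.range_subtype, psoAut_eq])
    (by rw [← Subgroup.map_map, Subgroup.subgroupOf_map_subtype,
      inf_of_le_left (omegaSub_le_soSub E), inn_eq])
  rw [relIndex_eq_of_hom φ h1 h2]
  simp

theorem mem_pso_iff (E : EvenForm Q k) (g : GO Q) :
    simAut Q g ∈ psoAut F ⇑Q ↔ IsSquare (mult g : F) ∧ dsign k g = 1 := by
  rw [psoAut_eq, ← Subgroup.mem_comap, Subgroup.comap_map_eq, ← ker_pgoClass E, MonoidHom.mem_ker,
    pgoClass_eq_one E]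

variable (E : EvenForm Q k) (T : Twist E)

include T in
theorem pgo_inn_four (hneg : ¬ NegOneOmega Q) :
    ∃ φ : pgoAut F ⇑Q →* Multiplicative (ZMod 2 × ZMod 2),
      Function.Surjective φ ∧ φ.ker = (Inn (POmega F ⇑Q)).subgroupOf (pgoAut F ⇑Q) := by
  rw [← pso_eq_inn E hneg]
  exact exists_pgo_pso E T

include T in
theorem inndiag_inn_two (hneg : ¬ NegOneOmega Q) :
    ∃ φ : innDiag E →* Multiplicative (ZMod 2),
      Function.Surjective φ ∧ φ.ker = (Inn (POmega F ⇑Q)).subgroupOf (innDiag E) := by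
  rw [← pso_eq_inn E hneg]
  exact exists_inndiag_pso E T

include T in
theorem inn_relIndex_innDiag (hneg : NegOneOmega Q) :
    (Inn (POmega F ⇑Q)).relIndex (innDiag E) = 4 := by
  obtain ⟨φ, h1, h2⟩ := exists_inndiag_pso E T
  rw [← Subgroup.relIndex_mul_relIndex _ _ _ (inn_le_pso E) (psoAut_le_innDiag E),
    inn_relIndex_pso E T hneg, relIndex_eq_of_hom φ h1 h2]
  simp

include T in
theorem inn_relIndex_pgo (hneg : NegOneOmega Q) :
    (Inn (POmega F ⇑Q)).relIndex (pgoAut F ⇑Q) = 8 := by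
  obtain ⟨φ, h1, h2⟩ := exists_pgo_pso E T
  rw [← Subgroup.relIndex_mul_relIndex _ _ _ (inn_le_pso E)
      ((psoAut_le_innDiag E).trans (innDiag_le_pgoAut E)),
    inn_relIndex_pso E T hneg, relIndex_eq_of_hom φ h1 h2]
  simp

/-- The two involutions in the action of a twist and a reflection, and their product's square. -/
theorem exists_pair : ∃ (v : ι → F) (hv : Q v ≠ 0) (t : soSub Q),
    spin Q t = -1 ∧ dsign k (reflGO v hv) = -1 ∧ (mult (reflGO v hv) : F) = 1 ∧
    simAut Q T.g * simAut Q T.g = 1 ∧ simAut Q (reflGO v hv) * simAut Q (reflGO v hv) = 1 ∧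
    simAut Q t.1 = simAut Q (T.g * reflGO v hv) * simAut Q (T.g * reflGO v hv) := by
  obtain ⟨v, hv, t, ht, hts⟩ := exists_spin_neg E T
  have hg2 : simAut Q T.g * simAut Q T.g = 1 := by
    rw [← map_mul, ← MonoidHom.mem_ker, ker_simAut Q E.nondeg E.five]
    exact T.sq
  have hr2 : simAut Q (reflGO v hv) * simAut Q (reflGO v hv) = 1 := by
    rw [← map_mul, reflGO_mul_self, map_one]
  refine ⟨v, hv, t, hts, dsign_refl E v hv, mult_refl E v hv, hg2, hr2, ?_⟩
  rw [ht]
  simp only [map_mul, map_inv, inv_eq_of_mul_eq_one_right hg2, mul_assoc]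

theorem inn_mem_sq (E : EvenForm Q k) (hneg : NegOneOmega Q) (t : soSub Q) :
    simAut Q t.1 * simAut Q t.1 ∈ Inn (POmega F ⇑Q) := by
  rw [← map_mul, ← Subgroup.coe_mul, inn_mem_iff E hneg, map_mul]
  rcases Int.units_eq_one_or (spin Q t) with e | e <;> rw [e] <;> rfl

set_option maxHeartbeats 1600000 in
include T in
theorem pgo_inn_dihedral (hneg : NegOneOmega Q) :
    ∃ φ : pgoAut F ⇑Q →* DihedralGroup 4,
      Function.Surjective φ ∧ φ.ker = (Inn (POmega F ⇑Q)).subgroupOf (pgoAut F ⇑Q) := by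
  obtain ⟨v, hv, t, hts, -, -, hg2, hr2, ht⟩ := exists_pair E T
  set A := pgoAut F ⇑Q
  set N := (Inn (POmega F ⇑Q)).subgroupOf A with hN
  have hmem : ∀ g, simAut Q g ∈ A := fun g => by rw [show A = _ from pgoAut_eq Q]; exact ⟨g, rfl⟩
  have hcard : Nat.card (A ⧸ N) = 8 := inn_relIndex_pgo E T hneg
  haveI : Finite (A ⧸ N) := Nat.finite_of_card_ne_zero (by omega)
  let x : A := ⟨_, hmem (T.g * reflGO v hv)⟩
  let y : A := ⟨_, hmem (reflGO v hv)⟩
  have hx2 : (x * x : A) ∉ N := fun h => by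
    rw [hN, Subgroup.mem_subgroupOf, Subgroup.coe_mul, ← ht, inn_mem_iff E hneg, hts] at h
    exact absurd h (by decide)
  have hx4 : (x * x) * (x * x) ∈ N := by
    rw [hN, Subgroup.mem_subgroupOf, Subgroup.coe_mul, Subgroup.coe_mul, ← ht]
    exact inn_mem_sq E hneg t
  have hyx : y * x * y * x = 1 := Subtype.ext (by
    show simAut Q (reflGO v hv) * simAut Q (T.g * reflGO v hv) * simAut Q (reflGO v hv) *
      simAut Q (T.g * reflGO v hv) = 1
    simp only [map_mul, mul_assoc]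
    rw [← mul_assoc (simAut Q (reflGO v hv)) (simAut Q (reflGO v hv)), hr2, one_mul,
      ← mul_assoc (simAut Q T.g) (simAut Q T.g), hg2, one_mul, hr2])
  have ha : orderOf (x : A ⧸ N) = 2 ^ (1 + 1) := by
    refine orderOf_eq_four _ (fun h => hx2 ?_) ?_
    · rw [← QuotientGroup.mk_mul] at h
      exact (QuotientGroup.eq_one_iff _).1 h
    · rw [← QuotientGroup.mk_mul, ← QuotientGroup.mk_mul]
      exact (QuotientGroup.eq_one_iff _).2 hx4
  have hb : (y : A ⧸ N) * (y : A ⧸ N) = 1 := by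
    rw [← QuotientGroup.mk_mul]
    refine (QuotientGroup.eq_one_iff _).2 ?_
    rw [hN, Subgroup.mem_subgroupOf]
    show simAut Q (reflGO v hv) * simAut Q (reflGO v hv) ∈ _
    rw [hr2]
    exact one_mem _
  have hab : (y : A ⧸ N) * x * y = (x : A ⧸ N)⁻¹ := by
    have h0 := congrArg (QuotientGroup.mk' N) hyx
    rw [map_mul, map_mul, map_mul, map_one] at h0
    exact eq_inv_of_mul_eq_one_left h0
  obtain ⟨e⟩ := exists_dihedral_equiv hcard (x : A ⧸ N) (y : A ⧸ N) (by rw [ha]; norm_num) hb hab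
  refine ⟨e.symm.toMonoidHom.comp (QuotientGroup.mk' N),
    e.symm.surjective.comp (QuotientGroup.mk'_surjective N), ?_⟩
  rw [ker_comp_equiv, QuotientGroup.ker_mk']

include T in
theorem inndiag_inn_cyclic (hneg : NegOneOmega Q) (hk : Odd k) :
    ∃ φ : innDiag E →* Multiplicative (ZMod 4),
      Function.Surjective φ ∧ φ.ker = (Inn (POmega F ⇑Q)).subgroupOf (innDiag E) := by
  obtain ⟨v, hv, t, hts, hd, -, -, -, ht⟩ := exists_pair E T
  set A := innDiag E
  set N := (Inn (POmega F ⇑Q)).subgroupOf A with hN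
  have hcard : Nat.card (A ⧸ N) = 4 := inn_relIndex_innDiag E T hneg
  haveI : Finite (A ⧸ N) := Nat.finite_of_card_ne_zero (by omega)
  let x : A := ⟨_, Subgroup.mem_map_of_mem (simAut Q) (show T.g * reflGO v hv ∈ dsub E by
    rw [mem_dsub, dsign_mul E, T.sign, hd, hk.neg_one_pow, neg_one_mul, neg_neg])⟩
  have ha : orderOf (x : A ⧸ N) = 2 ^ (1 + 1) := by
    refine orderOf_eq_four _ (fun h => ?_) ?_
    · rw [← QuotientGroup.mk_mul] at h
      have h' := (QuotientGroup.eq_one_iff _).1 h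
      rw [hN, Subgroup.mem_subgroupOf, Subgroup.coe_mul, ← ht, inn_mem_iff E hneg, hts] at h'
      exact absurd h' (by decide)
    · rw [← QuotientGroup.mk_mul, ← QuotientGroup.mk_mul]
      refine (QuotientGroup.eq_one_iff _).2 ?_
      rw [hN, Subgroup.mem_subgroupOf, Subgroup.coe_mul, Subgroup.coe_mul, ← ht]
      exact inn_mem_sq E hneg t
  haveI hcyc : IsCyclic (A ⧸ N) := isCyclic_of_orderOf_eq_card _ (by rw [ha, hcard]; norm_num)
  let e : Multiplicative (ZMod 4) ≃* A ⧸ N :=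
    mulEquivOfCyclicCardEq (by rw [hcard, Nat.card_congr Multiplicative.toAdd, Nat.card_zmod])
  refine ⟨e.symm.toMonoidHom.comp (QuotientGroup.mk' N),
    e.symm.surjective.comp (QuotientGroup.mk'_surjective N), ?_⟩
  rw [ker_comp_equiv, QuotientGroup.ker_mk']

include T in
theorem inndiag_inn_klein (hneg : NegOneOmega Q) (hk : Even k) :
    ∃ φ : innDiag E →* Multiplicative (ZMod 2 × ZMod 2),
      Function.Surjective φ ∧ φ.ker = (Inn (POmega F ⇑Q)).subgroupOf (innDiag E) := by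
  obtain ⟨v, hv, t, hts, -, -, hg2, -, -⟩ := exists_pair E T
  set A := innDiag E
  set N := (Inn (POmega F ⇑Q)).subgroupOf A with hN
  have hcard : Nat.card (A ⧸ N) = 4 := inn_relIndex_innDiag E T hneg
  haveI : Finite (A ⧸ N) := Nat.finite_of_card_ne_zero (by omega)
  let y : A := ⟨_, Subgroup.mem_map_of_mem (simAut Q) (show T.g ∈ dsub E by
    rw [mem_dsub, T.sign, hk.neg_one_pow])⟩
  let s : A := ⟨_, Subgroup.mem_map_of_mem (simAut Q) (soSub_le_dsub E t.2)⟩
  have hy : simAut Q T.g ∉ psoAut F ⇑Q := fun h => T.nonsquare ((mem_pso_iff E _).1 h).1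
  have hs1 : (s : A ⧸ N) ≠ 1 := fun h => by
    rw [QuotientGroup.eq_one_iff, hN, Subgroup.mem_subgroupOf, inn_mem_iff E hneg, hts] at h
    exact absurd h (by decide)
  have hy1 : (y : A ⧸ N) ≠ 1 := fun h => by
    rw [QuotientGroup.eq_one_iff, hN, Subgroup.mem_subgroupOf] at h
    exact hy (inn_le_pso E h)
  have hsy : (s : A ⧸ N) ≠ y := fun h => by
    rw [QuotientGroup.eq, hN, Subgroup.mem_subgroupOf] at h
    have hmul : simAut Q t.1 * ((s⁻¹ * y : A) : MulAut (POmega F ⇑Q)) = simAut Q T.g := by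
      show simAut Q t.1 * ((simAut Q t.1)⁻¹ * simAut Q T.g) = _
      rw [mul_inv_cancel_left]
    refine hy (hmul ▸ mul_mem ?_ (inn_le_pso E h))
    rw [psoAut_eq]
    exact Subgroup.mem_map_of_mem _ t.2
  haveI : IsKleinFour (A ⧸ N) := isKleinFour_of_two hcard (s : A ⧸ N) (y : A ⧸ N)
    (by rw [← QuotientGroup.mk_mul, QuotientGroup.eq_one_iff, hN, Subgroup.mem_subgroupOf]
        exact inn_mem_sq E hneg t)
    (by rw [← QuotientGroup.mk_mul, show y * y = 1 from Subtype.ext hg2, QuotientGroup.mk_one])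
    hs1 hy1 hsy
  haveI : IsKleinFour (Multiplicative (ZMod 2 × ZMod 2)) :=
    isKleinFour_of_two (by rw [Nat.card_congr Multiplicative.toAdd, Nat.card_prod, Nat.card_zmod])
      (Multiplicative.ofAdd (1, 0)) (Multiplicative.ofAdd (0, 1))
      (by decide) (by decide) (by decide) (by decide) (by decide)
  obtain ⟨e⟩ := IsKleinFour.nonempty_mulEquiv (G₁ := A ⧸ N) (G₂ := Multiplicative (ZMod 2 × ZMod 2))
  refine ⟨e.toMonoidHom.comp (QuotientGroup.mk' N),
    e.surjective.comp (QuotientGroup.mk'_surjective N), ?_⟩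
  rw [ker_comp_equiv, QuotientGroup.ker_mk']

end Cfsg.Agent.ClassicalSimple
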