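import Cfsg.Agent.Lib.ClassicalSimple.PGOModels
import Cfsg.Agent.Lib.QForm.ReflectionClasses
import Cfsg.Agent.Lib.AutPSL.Split

/-!
Splitting of the classes of involutory graph automorphisms induced by similarities of even-dimensional
orthogonal groups over fields of odd order.
-/

set_option autoImplicit false

namespace Cfsg.Agent.ClassicalSimple

open scoped Matrix MatrixGroups
open QForm (act refl)
open Module (finrank)

variable {ι : Type} [Fintype ι] [DecidableEq ι] {F : Type*} [Field F] [Fintype F] [DecidableEq F]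
variable {Q : QuadraticForm F (ι → F)} {k : ℕ}

theorem polar_sim (g : GO Q) (x y : ι → F) :
    QuadraticMap.polar ⇑Q ((g.1 : Matrix ι ι F) *ᵥ x) ((g.1 : Matrix ι ι F) *ᵥ y) =
      (mult g : F) * QuadraticMap.polar ⇑Q x y := by
  simp only [QuadraticMap.polar, ← Matrix.mulVec_add, mult_spec]
  ring

theorem reflGO_congr {v w : ι → F} (hv : Q v ≠ 0) (hw : Q w ≠ 0) {c : F} (h : w = c • v) :
    reflGO w hw = reflGO v hv :=
  Subtype.ext (show ((refl Q w hw).1 : GL ι F) = (refl Q v hv).1 from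
    congrArg Subtype.val (QForm.refl_congr Q hv hw h))

theorem reflGO_apply (v : ι → F) (hv : Q v ≠ 0) (x : ι → F) :
    ((reflGO v hv).1 : Matrix ι ι F) *ᵥ x = x - ((Q v)⁻¹ * QuadraticMap.polar ⇑Q v x) • v :=
  QForm.act_refl Q v hv x

/-- A product of two reflections and its spinor sign. -/
theorem exists_pair_so (E : EvenForm Q k) (v w : ι → F) (hv : Q v ≠ 0) (hw : Q w ≠ 0) :
    ∃ t : soSub Q, t.1 = reflGO v hv * reflGO w hw ∧
      (spin Q t : ℤ) = quadraticChar F (Q v) * quadraticChar F (Q w) := by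
  have hmem : reflGO v hv * reflGO w hw ∈ soSub Q := by
    refine (mem_soSub E _).2 ⟨?_, ?_⟩
    · rw [show mult (reflGO v hv * reflGO w hw) = _ from map_mul (multHom E) _ _]
      show ((mult _ * mult _ : Fˣ) : F) = 1
      rw [Units.val_mul, mult_refl E, mult_refl E, one_mul]
    · rw [dsign_mul E, dsign_refl E, dsign_refl E, neg_one_mul, neg_neg]
  refine ⟨⟨_, hmem⟩, rfl, ?_⟩
  have hsplit : spin Q ⟨_, hmem⟩ = QForm.sphereSign Q (refl Q v hv) * QForm.sphereSign Q (refl Q w hw) := by
    rw [spin_apply, ← map_mul]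
    rfl
  rw [hsplit, Units.val_mul, QForm.sphereSign_refl Q E.two, QForm.sphereSign_refl Q E.two]
  ring

theorem spin_eq_neg {t : soSub Q} (h : (spin Q t : ℤ) = -1) : spin Q t = -1 :=
  Units.ext (by rw [h]; rfl)

/-- Two reflection pairs in the same plane. -/
theorem pair_eq_of_plane {G : Type*} [Group G] {a a' b b' : G} (ha : a * a = 1) (hb : b * b = 1)
    (hb' : b' * b' = 1) (h : a * a' = b * b') (hc : b * b' = b' * b) : a' * b' = a * b := by
  have e1 : a' = a * (b * b') := by rw [← h, ← mul_assoc, ha, one_mul]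
  rw [e1, hc]
  simp only [mul_assoc]
  rw [hc, ← mul_assoc b' b', hb', one_mul]

variable (E : EvenForm Q k)
include E

theorem isotropic_pair {g : GO Q} {lam : F} (hlam : (g.1 : Matrix ι ι F) * g.1 = lam • 1)
    (hne : lam ≠ (mult g : F)) (v : ι → F) :
    QuadraticMap.polar ⇑Q v ((g.1 : Matrix ι ι F) *ᵥ v) = 0 := by
  have e := polar_sim g v ((g.1 : Matrix ι ι F) *ᵥ v)
  rw [Matrix.mulVec_mulVec, hlam, Matrix.smul_mulVec, Matrix.one_mulVec,
    QuadraticMap.polar_smul_right, QuadraticMap.polar_comm, smul_eq_mul] at e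
  have : (lam - (mult g : F)) * QuadraticMap.polar ⇑Q v ((g.1 : Matrix ι ι F) *ᵥ v) = 0 := by
    linear_combination e
  exact (mul_eq_zero.1 this).resolve_left (sub_ne_zero.2 hne)

/-- A vector orthogonal to its image and anisotropic, for a self-adjoint twist of non-square multiplier. -/
theorem exists_orth_anisotropic {g : GO Q} {lam : F} (hlam : (g.1 : Matrix ι ι F) * g.1 = lam • 1)
    (hns : ¬ IsSquare (mult g : F)) :
    ∃ v, Q v ≠ 0 ∧ QuadraticMap.polar ⇑Q v ((g.1 : Matrix ι ι F) *ᵥ v) = 0 := by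
  by_cases hne : lam = (mult g : F)
  swap
  · obtain ⟨v, hv⟩ := E.exists_value one_ne_zero
    exact ⟨v, hv ▸ one_ne_zero, isotropic_pair E hlam hne v⟩
  subst hne
  set M : Matrix ι ι F := (g.1 : Matrix ι ι F)
  set μ : F := (mult g : F)
  have hμ : μ ≠ 0 := (mult g).ne_zero
  have hMM : ∀ x, M *ᵥ (M *ᵥ x) = μ • x := fun x => by
    rw [Matrix.mulVec_mulVec, hlam, Matrix.smul_mulVec, Matrix.one_mulVec]
  have hself : ∀ x y, QuadraticMap.polar ⇑Q (M *ᵥ x) y = QuadraticMap.polar ⇑Q x (M *ᵥ y) := by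
    intro x y
    have e := polar_sim g x (M *ᵥ y)
    rw [hMM, QuadraticMap.polar_smul_right, smul_eq_mul] at e
    exact mul_left_cancel₀ hμ e
  let B : LinearMap.BilinForm F (ι → F) :=
    LinearMap.compl₂ (QuadraticMap.polarBilin Q) (Matrix.toLin' M)
  let R : QuadraticForm F (ι → F) := LinearMap.BilinMap.toQuadraticMap B
  have hR : ∀ x, R x = QuadraticMap.polar ⇑Q x (M *ᵥ x) := fun x => rfl
  have hRp : ∀ x y, bil R x y = 2 * QuadraticMap.polar ⇑Q x (M *ᵥ y) := fun x y => by
    rw [bil_apply]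
    show QuadraticMap.polar ⇑(LinearMap.BilinMap.toQuadraticMap B) x y = _
    rw [LinearMap.BilinMap.polar_toQuadraticMap]
    show QuadraticMap.polar ⇑Q x (M *ᵥ y) + QuadraticMap.polar ⇑Q y (M *ᵥ x) = _
    rw [← hself y x, QuadraticMap.polar_comm (⇑Q) (M *ᵥ y) x]
    ring
  have hN := bil_nondegenerate Q E.nondeg
  have hRN : (bil R).Nondegenerate := by
    have hsep : ∀ x, (∀ y, bil R x y = 0) → x = 0 := fun x hx => E.nondeg.1 x fun z => by
      have := hx (μ⁻¹ • M *ᵥ z)
      rw [hRp, Matrix.mulVec_smul, hMM, smul_smul, inv_mul_cancel₀ hμ, one_smul] at this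
      exact (mul_eq_zero.1 this).resolve_left E.two
    exact ⟨hsep, fun y hy => hsep y fun x => (bil_comm y x).trans (hy x)⟩
  have h5 : 5 ≤ finrank F (ι → F) := by rw [Module.finrank_fintype_fun_eq_card]; exact E.five
  obtain ⟨u, hu0, hu⟩ := exists_singular' hRN h5
  rw [hR] at hu
  by_cases hQu : Q u = 0
  swap
  · exact ⟨u, hQu, hu⟩
  have hli : LinearIndependent F ![u, M *ᵥ u] :=
    (LinearIndependent.pair_iff' hu0).2 fun a ha => hns ⟨a, by
      have e := hMM u
      rw [← ha, Matrix.mulVec_smul, ← ha, smul_smul] at e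
      exact (smul_left_injective F hu0 e).symm⟩
  obtain ⟨w, hw0, hw1⟩ := exists_bil_pair hN hli 0 1
  rw [bil_apply] at hw0 hw1
  set s : F := 1 - Q w
  set t : F := -(QuadraticMap.polar ⇑Q w (M *ᵥ w)) / 2
  refine ⟨w + s • M *ᵥ u + t • u, ?_, ?_⟩
  · have hQg : Q (M *ᵥ u) = 0 := by
      show Q ((g.1 : Matrix ι ι F) *ᵥ u) = 0
      rw [mult_spec, hQu, mul_zero]
    simp only [QuadraticMap.map_add (⇑Q), QuadraticMap.polar_add_left, QuadraticMap.polar_smul_left,
      QuadraticMap.polar_smul_right, QuadraticMap.map_smul, hQu, hQg, smul_eq_mul]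
    rw [QuadraticMap.polar_comm (⇑Q) w (M *ᵥ u), hw1, QuadraticMap.polar_comm (⇑Q) w u, hw0,
      QuadraticMap.polar_comm (⇑Q) (M *ᵥ u) u, hu]
    simp [s]
  · have hgg : QuadraticMap.polar ⇑Q (M *ᵥ u) u = 0 := by rw [QuadraticMap.polar_comm, hu]
    have h00 : QuadraticMap.polar ⇑Q u u = 0 := by rw [QuadraticMap.polar_self, hQu, smul_zero]
    have hg0 : QuadraticMap.polar ⇑Q (M *ᵥ u) (M *ᵥ u) = 0 := by
      rw [hself, hMM, QuadraticMap.polar_smul_right, h00, smul_zero]
    simp only [Matrix.mulVec_add, Matrix.mulVec_smul, hMM, QuadraticMap.polar_add_left,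
      QuadraticMap.polar_add_right, QuadraticMap.polar_smul_left, QuadraticMap.polar_smul_right,
      smul_eq_mul, hgg, hu, h00, hg0]
    rw [QuadraticMap.polar_comm (⇑Q) w (M *ᵥ u), hw1, QuadraticMap.polar_comm (⇑Q) w u, hw0,
      hself u w |>.symm, hw1, hself (M *ᵥ u) w |>.symm, hMM, QuadraticMap.polar_smul_left, hw0]
    simp only [t, smul_eq_mul]
    have h2' := E.two
    field_simp
    ring

/-- An involution induced by a similarity commutes with an element of the special group of spinor sign `-1`. -/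
theorem exists_comm_spin (g : GO Q) (hgg : g * g ∈ scalarSub Q) :
    ∃ t : soSub Q, spin Q t = -1 ∧ simAut Q g * simAut Q t.1 = simAut Q t.1 * simAut Q g := by
  have hZ : ∀ z ∈ scalarSub Q, simAut Q z = 1 := fun z hz =>
    MonoidHom.mem_ker.1 (by rw [ker_simAut Q E.nondeg E.five]; exact hz)
  have suff : ∀ t : soSub Q, g * t.1 * g⁻¹ = t.1 →
      simAut Q g * simAut Q t.1 = simAut Q t.1 * simAut Q g := fun t ht => by
    rw [← map_mul, ← map_mul, ← mul_inv_eq_iff_eq_mul.1 ht]
  obtain ⟨lam, hlam'⟩ := (Geo.mem_scalars_iff _).1 hgg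
  by_cases hsq : IsSquare (mult g : F)
  swap
  · have hlam : (g.1 : Matrix ι ι F) * g.1 = (lam : F) • 1 := hlam'
    obtain ⟨v, hv, hperp⟩ := exists_orth_anisotropic E hlam hsq
    obtain ⟨hgv, e1⟩ := conj_reflGO g v hv
    obtain ⟨hggv, e2⟩ := conj_reflGO g _ hgv
    obtain ⟨t, ht, hts⟩ := exists_pair_so E _ v hgv hv
    have e2' : g * reflGO _ hgv * g⁻¹ = reflGO v hv := by
      rw [e2, reflGO_congr hv hggv (c := (lam : F))]
      rw [Matrix.mulVec_mulVec, hlam, Matrix.smul_mulVec, Matrix.one_mulVec]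
    have hcomm : reflGO v hv * reflGO _ hgv = reflGO _ hgv * reflGO v hv := by
      obtain ⟨h', e3⟩ := conj_reflGO (reflGO v hv) _ hgv
      rw [reflGO_congr hgv h' (c := 1) (by rw [reflGO_apply, hperp, mul_zero, zero_smul, sub_zero,
        one_smul])] at e3
      exact mul_inv_eq_iff_eq_mul.1 e3
    refine ⟨t, spin_eq_neg ?_, suff t ?_⟩
    · rw [hts, mult_spec, map_mul, (quadraticChar_neg_one_iff_not_isSquare).2 hsq, mul_assoc,
        ← pow_two, quadraticChar_sq_one hv, mul_one]
    · rw [ht, show g * (reflGO _ hgv * reflGO v hv) * g⁻¹ =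
        (g * reflGO _ hgv * g⁻¹) * (g * reflGO v hv * g⁻¹) by group, e1, e2', hcomm]
  obtain ⟨r, hr⟩ := hsq
  have hr0 : r ≠ 0 := by
    rintro rfl
    exact (mult g).ne_zero (by simpa using hr)
  set s := scalarGO Q (Units.mk0 r hr0)
  set h := g * s⁻¹ with hh
  have hsv : (s.1 : Matrix ι ι F) = r • 1 := (Matrix.smul_one_eq_diagonal _).symm
  have hhs : simAut Q h = simAut Q g := by
    rw [hh, map_mul, map_inv, hZ s (scalarGO_mem _), inv_one, mul_one]
  have hh2 : h * h ∈ scalarSub Q := by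
    rw [← ker_simAut Q E.nondeg E.five, MonoidHom.mem_ker, map_mul, hhs, ← map_mul]
    exact hZ _ hgg
  have hms : (mult s : F) = r * r := mult_eq E s _ fun v => by
    rw [hsv, Matrix.smul_mulVec, Matrix.one_mulVec, QuadraticMap.map_smul, smul_eq_mul]
  have hm : (mult h : F) = 1 := by
    rw [show mult h = mult g * (mult s)⁻¹ from
      (map_mul (multHom E) g s⁻¹).trans (congrArg (mult g * ·) (map_inv (multHom E) s)),
      Units.val_mul, Units.val_inv_eq_inv_val, hr, hms, mul_inv_cancel₀ (mul_ne_zero hr0 hr0)]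
  obtain ⟨a, ha, hma, -⟩ := scalar_classes E hh2
  rw [show mult (h * h) = mult h * mult h from map_mul (multHom E) h h, Units.val_mul, hm, one_mul]
    at hma
  have hh' : (h.1 : Matrix ι ι F) * h.1 = (a : F) • 1 := ha
  suffices ∃ t : soSub Q, spin Q t = -1 ∧ h * t.1 * h⁻¹ = t.1 by
    obtain ⟨t, h1, h2⟩ := this
    exact ⟨t, h1, by rw [← hhs, ← map_mul, ← map_mul, ← mul_inv_eq_iff_eq_mul.1 h2]⟩
  obtain ⟨ν, hν0, hν⟩ := exists_nonsquare' E
  rcases mul_self_eq_one_iff.1 hma.symm with ha1 | ha1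
  · rw [ha1, one_smul] at hh'
    have eig : ∀ ε : F, ε * ε = 1 → 2 ≤ finrank F (LinearMap.ker
        (Matrix.toLin' (h.1 : Matrix ι ι F) - ε • LinearMap.id)) →
        ∃ t : soSub Q, spin Q t = -1 ∧ h * t.1 * h⁻¹ = t.1 := by
      intro ε hε hd
      set U := LinearMap.ker (Matrix.toLin' (h.1 : Matrix ι ι F) - ε • LinearMap.id) with hU
      have hmem : ∀ x, x ∈ U ↔ (h.1 : Matrix ι ι F) *ᵥ x = ε • x := fun x => by
        rw [hU, LinearMap.mem_ker, LinearMap.sub_apply, LinearMap.smul_apply, LinearMap.id_apply,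
          sub_eq_zero, Matrix.toLin'_apply]
      have hUU : U ⊓ (QForm.pB Q).orthogonal U = ⊥ := by
        refine eq_bot_iff.2 fun x hx => (Submodule.mem_bot F).2 (E.nondeg.1 x fun y => ?_)
        have hmemy : y + ε • (h.1 : Matrix ι ι F) *ᵥ y ∈ U := by
          rw [hmem, Matrix.mulVec_add, Matrix.mulVec_smul, Matrix.mulVec_mulVec, hh', Matrix.one_mulVec,
            smul_add, smul_smul, hε, one_smul, add_comm]
        have e1 := hx.2 _ hmemy
        have e2 := polar_sim h x y
        rw [(hmem x).1 hx.1, QuadraticMap.polar_smul_left, hm, one_mul, smul_eq_mul] at e2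
        rw [show (QForm.pB Q) (y + ε • (h.1 : Matrix ι ι F) *ᵥ y) x =
          QuadraticMap.polar ⇑Q (y + ε • (h.1 : Matrix ι ι F) *ᵥ y) x from rfl,
          QuadraticMap.polar_comm, QuadraticMap.polar_add_right, QuadraticMap.polar_smul_right,
          smul_eq_mul, e2] at e1
        have : 2 * QuadraticMap.polar ⇑Q x y = 0 := by linear_combination e1
        exact (mul_eq_zero.1 this).resolve_left E.two
      obtain ⟨v, hvU, hv⟩ := QForm.exists_norm_eq Q E.two hUU hd 1
      obtain ⟨w, hwU, hw⟩ := QForm.exists_norm_eq Q E.two hUU hd ν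
      have hv0 : Q v ≠ 0 := hv ▸ one_ne_zero
      have hw0 : Q w ≠ 0 := hw ▸ hν0
      obtain ⟨t, ht, hts⟩ := exists_pair_so E v w hv0 hw0
      obtain ⟨hv', e1⟩ := conj_reflGO h v hv0
      obtain ⟨hw', e2⟩ := conj_reflGO h w hw0
      refine ⟨t, spin_eq_neg ?_, ?_⟩
      · rw [hts, hv, hw, map_one, one_mul, (quadraticChar_neg_one_iff_not_isSquare).2 hν]
      · rw [ht, show h * (reflGO v hv0 * reflGO w hw0) * h⁻¹ =
          (h * reflGO v hv0 * h⁻¹) * (h * reflGO w hw0 * h⁻¹) by group, e1, e2,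
          reflGO_congr hv0 hv' ((hmem v).1 hvU), reflGO_congr hw0 hw' ((hmem w).1 hwU)]
    by_cases hp : 2 ≤ finrank F (LinearMap.ker
        (Matrix.toLin' (h.1 : Matrix ι ι F) - (1 : F) • LinearMap.id))
    · exact eig 1 (one_mul 1) hp
    refine eig (-1) (by rw [neg_one_mul, neg_neg]) ?_
    set f := Matrix.toLin' (h.1 : Matrix ι ι F)
    set U := LinearMap.ker (f - (1 : F) • LinearMap.id)
    set W := LinearMap.ker (f - (-1 : F) • LinearMap.id)
    have hff : ∀ x, f (f x) = x := fun x => by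
      simp only [f, Matrix.toLin'_apply, Matrix.mulVec_mulVec, hh', Matrix.one_mulVec]
    have htop : (⊤ : Submodule F (ι → F)) ≤ U ⊔ W := by
      intro x _
      have e : x = (2 : F)⁻¹ • (x + f x) + (2 : F)⁻¹ • (x - f x) := by
        rw [← smul_add, show x + f x + (x - f x) = (2 : F) • x by module, smul_smul,
          inv_mul_cancel₀ E.two, one_smul]
      rw [e]
      refine add_mem (Submodule.mem_sup_left (U.smul_mem _ ?_)) (Submodule.mem_sup_right (W.smul_mem _ ?_))
      · simp [U, LinearMap.mem_ker, hff, sub_eq_zero, add_comm]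
      · simp [W, LinearMap.mem_ker, hff, sub_eq_zero]
    have h1 := Submodule.finrank_mono htop
    have h2 := Submodule.finrank_add_le_finrank_add_finrank U W
    rw [finrank_top, E.finrank_eq] at h1
    have := E.three
    omega
  · rw [ha1] at hh'
    obtain ⟨x, y, hxy⟩ := QForm.exists_two_squares_eq_one E.two (a := ν⁻¹) (b := ν⁻¹)
      (inv_ne_zero hν0) (inv_ne_zero hν0)
    have hxy' : x * x + y * y = ν := by
      field_simp at hxy
      linear_combination hxy
    obtain ⟨v, hv⟩ := E.exists_value one_ne_zero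
    set M : Matrix ι ι F := (h.1 : Matrix ι ι F)
    have hperp : QuadraticMap.polar ⇑Q v (M *ᵥ v) = 0 :=
      isotropic_pair E hh' (by rw [hm]; exact fun e => E.two (by linear_combination -e)) v
    have hgv : Q (M *ᵥ v) = 1 := by rw [mult_spec, hm, hv, one_mul]
    set w := x • v + y • M *ᵥ v with hwdef
    have hMw : M *ᵥ w = x • M *ᵥ v + (-y) • v := by
      rw [hwdef, Matrix.mulVec_add, Matrix.mulVec_smul, Matrix.mulVec_smul, Matrix.mulVec_mulVec, hh',
        Matrix.smul_mulVec, Matrix.one_mulVec, smul_smul, mul_neg_one]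
    have hQw : Q w = ν := by
      simp only [hwdef, QuadraticMap.map_add (⇑Q), QuadraticMap.map_smul, QuadraticMap.polar_smul_left,
        QuadraticMap.polar_smul_right, hperp, hv, hgv, smul_eq_mul]
      linear_combination hxy'
    have hQMw : Q (M *ᵥ w) = ν := by rw [mult_spec, hm, hQw, one_mul]
    have hv0 : Q v ≠ 0 := hv ▸ one_ne_zero
    have hw0 : Q w ≠ 0 := hQw ▸ hν0
    obtain ⟨hgv0, e1⟩ := conj_reflGO h v hv0
    obtain ⟨hgw0, e2⟩ := conj_reflGO h w hw0
    have hperpw : QuadraticMap.polar ⇑Q w (M *ᵥ w) = 0 :=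
      isotropic_pair E hh' (by rw [hm]; exact fun e => E.two (by linear_combination -e)) w
    have hcw : reflGO w hw0 * reflGO _ hgw0 = reflGO _ hgw0 * reflGO w hw0 := by
      obtain ⟨h', e3⟩ := conj_reflGO (reflGO w hw0) _ hgw0
      rw [reflGO_congr hgw0 h' (c := 1) (by rw [reflGO_apply, hperpw, mul_zero, zero_smul, sub_zero,
        one_smul])] at e3
      exact mul_inv_eq_iff_eq_mul.1 e3
    have hplane : reflGO v hv0 * reflGO _ hgv0 = reflGO w hw0 * reflGO _ hgw0 := by
      refine Subtype.ext (Units.ext (Matrix.ext_iff_mulVec.2 fun z => ?_))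
      simp only [Subgroup.coe_mul, Units.val_mul, ← Matrix.mulVec_mulVec]
      have hpz : ∀ u : ι → F, QuadraticMap.polar ⇑Q u (M *ᵥ u) = 0 →
          ∀ (hu : Q u ≠ 0) (hu' : Q (M *ᵥ u) ≠ 0),
          ((reflGO u hu).1 : Matrix ι ι F) *ᵥ (((reflGO _ hu').1 : Matrix ι ι F) *ᵥ z) =
            z - ((Q (M *ᵥ u))⁻¹ * QuadraticMap.polar ⇑Q (M *ᵥ u) z) • M *ᵥ u -
              ((Q u)⁻¹ * QuadraticMap.polar ⇑Q u z) • u := by
        intro u hu0 hu hu'
        rw [reflGO_apply, reflGO_apply, QuadraticMap.polar_sub_right, QuadraticMap.polar_smul_right, hu0,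
          smul_zero, sub_zero]
      rw [hpz v hperp, hpz w hperpw, hgv, hQMw, hv, hQw, hMw, hwdef]
      simp only [QuadraticMap.polar_add_left, QuadraticMap.polar_smul_left, smul_eq_mul]
      rw [← hxy']
      have hn : x * x + y * y ≠ 0 := hxy' ▸ hν0
      have hn' : y ^ 2 + x ^ 2 ≠ 0 := fun e => hn (by linear_combination e)
      have hn'' : x ^ 2 + y ^ 2 ≠ 0 := fun e => hn (by linear_combination e)
      match_scalars
      all_goals field_simp
      all_goals ring
    obtain ⟨t, ht, hts⟩ := exists_pair_so E v w hv0 hw0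
    refine ⟨t, spin_eq_neg ?_, ?_⟩
    · rw [hts, hv, hQw, map_one, one_mul, (quadraticChar_neg_one_iff_not_isSquare).2 hν]
    · rw [ht, show h * (reflGO v hv0 * reflGO w hw0) * h⁻¹ =
        (h * reflGO v hv0 * h⁻¹) * (h * reflGO w hw0 * h⁻¹) by group, e1, e2]
      exact pair_eq_of_plane (reflGO_mul_self v hv0) (reflGO_mul_self w hw0)
        (reflGO_mul_self _ hgw0) hplane hcw

set_option maxHeartbeats 1600000 in
/-- The class of an involutory graph automorphism from a similarity splits into at most two classes, and into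
exactly two when `-1` is in `Omega`. -/
theorem graph_split (T : Twist E) (g : GO Q) (hgg : g * g ∈ scalarSub Q) (hd : dsign k g = -1) :
    (Cfsg.splitClassCount (innDiag E) (Inn (POmega F ⇑Q)) (simAut Q g) = 1 ∨
      Cfsg.splitClassCount (innDiag E) (Inn (POmega F ⇑Q)) (simAut Q g) = 2) ∧
    (NegOneOmega Q →
      Cfsg.splitClassCount (innDiag E) (Inn (POmega F ⇑Q)) (simAut Q g) = 2) := by
  rw [AutPSL.splitClassCount_eq _ _ ((inn_le_pso E).trans (psoAut_le_innDiag E))]
  set T' := Inn (POmega F ⇑Q)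
  set C := Subgroup.centralizer ({simAut Q g} : Set (MulAut (POmega F ⇑Q)))
  set L := T' ⊔ (innDiag E ⊓ C)
  have hdvd : L.relIndex (innDiag E) ∣ T'.relIndex (innDiag E) :=
    Subgroup.relIndex_dvd_of_le_left (innDiag E) le_sup_left
  by_cases hneg : NegOneOmega Q
  swap
  · refine ⟨(Nat.dvd_prime Nat.prime_two).1 ?_, fun h => absurd h hneg⟩
    obtain ⟨φ, h1, h2⟩ := inndiag_inn_two E T hneg
    rw [relIndex_eq_of_hom φ h1 h2] at hdvd
    simpa using hdvd
  suffices L.relIndex (innDiag E) = 2 from ⟨Or.inr this, fun _ => this⟩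
  have h4 := inn_relIndex_innDiag E T hneg
  rw [h4] at hdvd
  obtain ⟨j, hj, hjL⟩ := (Nat.dvd_prime_pow Nat.prime_two).1 (show L.relIndex (innDiag E) ∣ 2 ^ 2 from hdvd)
  obtain ⟨t, hts, htc⟩ := exists_comm_spin E g hgg
  have htI : simAut Q t.1 ∈ innDiag E := Subgroup.mem_map_of_mem _ (soSub_le_dsub E t.2)
  have htT : simAut Q t.1 ∉ T' := fun h => by
    rw [inn_mem_iff E hneg, hts] at h
    exact absurd h (by decide)
  have hne4 : j ≠ 2 := by
    rintro rfl
    have hL : L ≤ innDiag E := sup_le ((inn_le_pso E).trans (psoAut_le_innDiag E)) inf_le_left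
    have hm := Subgroup.relIndex_mul_relIndex T' L (innDiag E) le_sup_left hL
    rw [h4, hjL] at hm
    have h1 : T'.relIndex L = 1 := by omega
    exact htT (Subgroup.relIndex_eq_one.1 h1 (Subgroup.mem_sup_right
      ⟨htI, Subgroup.mem_centralizer_singleton_iff.2 htc.symm⟩))
  have hne1 : j ≠ 0 := by
    rintro rfl
    rw [pow_zero, Subgroup.relIndex_eq_one] at hjL
    let π := QuotientGroup.mk' T'
    have hLC : L ≤ (Subgroup.centralizer ({π (simAut Q g)} : Set _)).comap π := by
      refine sup_le (fun x hx => ?_) fun x hx => ?_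
      · rw [Subgroup.mem_comap, show π x = 1 from (QuotientGroup.eq_one_iff x).2 hx]
        exact one_mem _
      · rw [Subgroup.mem_comap, Subgroup.mem_centralizer_singleton_iff, ← map_mul, ← map_mul,
          Subgroup.mem_centralizer_singleton_iff.1 hx.2]
    have hcI : ∀ a ∈ innDiag E, ∀ b ∈ innDiag E, π a * π b = π b * π a := by
      intro a ha b hb
      haveI : Fact (Nat.Prime 2) := ⟨Nat.prime_two⟩
      set N := T'.subgroupOf (innDiag E)
      have hc := IsPGroup.commutative_of_card_eq_prime_sq (G := innDiag E ⧸ N) (p := 2)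
        (show N.index = 2 ^ 2 from h4) ((⟨a, ha⟩ : innDiag E) : innDiag E ⧸ N)
        ((⟨b, hb⟩ : innDiag E) : innDiag E ⧸ N)
      rw [← QuotientGroup.mk_mul, ← QuotientGroup.mk_mul, QuotientGroup.eq,
        Subgroup.mem_subgroupOf] at hc
      rw [← map_mul, ← map_mul]
      exact QuotientGroup.eq.2 hc
    obtain ⟨v, hv, u, hus, hrd, -, hg2, hr2, hu⟩ := exists_pair E T
    set y := π (simAut Q T.g) with hy
    set r := π (simAut Q (reflGO v hv)) with hr
    have hr2' : r * r = 1 := by rw [hr, ← map_mul, hr2, map_one]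
    have hy2' : y * y = 1 := by rw [hy, ← map_mul, hg2, map_one]
    have key : ∀ z ∈ innDiag E, π z * r = r * π z := by
      intro z hz
      have h0I : simAut Q (reflGO v hv * g) ∈ innDiag E :=
        Subgroup.mem_map_of_mem _ (show reflGO v hv * g ∈ dsub E by
          rw [mem_dsub, dsign_mul E, hrd, hd, neg_one_mul, neg_neg])
      have e1 := hcI z hz _ h0I
      have e2 : π z * π (simAut Q g) = π (simAut Q g) * π z :=
        Subgroup.mem_centralizer_singleton_iff.1 (hLC (hjL hz))
      rw [map_mul, map_mul] at e1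
      have e3 : π z * r * π (simAut Q g) = r * π z * π (simAut Q g) := by
        rw [mul_assoc, e1, mul_assoc, ← e2, mul_assoc]
      exact mul_right_cancel e3
    have hcom : y * r = r * y := by
      rcases Nat.even_or_odd k with hk | hk
      · exact key _ (Subgroup.mem_map_of_mem _ (show T.g ∈ dsub E by
          rw [mem_dsub, T.sign, hk.neg_one_pow]))
      · have := key _ (Subgroup.mem_map_of_mem (simAut Q) (show T.g * reflGO v hv ∈ dsub E by
          rw [mem_dsub, dsign_mul E, T.sign, hrd, hk.neg_one_pow, neg_one_mul, neg_neg]))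
        rw [map_mul, map_mul] at this
        exact mul_right_cancel (show y * r * r = r * y * r by rw [this, mul_assoc])
    have h1 : π (simAut Q u.1) = 1 := by
      rw [hu, map_mul, map_mul, map_mul]
      show y * r * (y * r) = 1
      nth_rewrite 2 [hcom]
      rw [mul_assoc, ← mul_assoc r r, hr2', one_mul, hy2']
    have h2 := (inn_mem_iff E hneg u).1 ((QuotientGroup.eq_one_iff _).1 h1)
    rw [hus] at h2
    exact absurd h2 (by decide)
  obtain rfl : j = 1 := by omega
  rw [hjL]
  norm_num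

end Cfsg.Agent.ClassicalSimple
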