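import Cfsg.Agent.Lib.ClassicalSimple.OrthSimple
import Cfsg.Prelude.Def_ClassicalGeometry

/-!
Transfer to the matrix groups `Cfsg.isometryGroup`, `Cfsg.Omega`, `Cfsg.POmega`.
-/

namespace Cfsg.Agent.ClassicalSimple

open scoped Matrix

section Quotient

variable {G H : Type*} [Group G] [Group H]

theorem center_map_equiv (e : G ≃* H) :
    (Subgroup.center G).map e.toMonoidHom = Subgroup.center H := by
  ext x
  constructor
  · rintro ⟨g, hg, rfl⟩
    refine Subgroup.mem_center_iff.2 fun y => ?_
    have h := congrArg e (Subgroup.mem_center_iff.1 hg (e.symm y))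
    simp only [map_mul, MulEquiv.apply_symm_apply] at h
    simpa using h
  · intro hx
    refine ⟨e.symm x, Subgroup.mem_center_iff.2 fun y => e.injective ?_, by simp⟩
    simpa using Subgroup.mem_center_iff.1 hx (e y)

/-- An isomorphism induces one of central quotients. -/
def centerQuotientCongr (e : G ≃* H) : G ⧸ Subgroup.center G ≃* H ⧸ Subgroup.center H :=
  QuotientGroup.congr _ _ e (center_map_equiv e)

theorem isSimpleGroup_of_equiv (e : G ≃* H) [IsSimpleGroup H] : IsSimpleGroup G :=
  have : Nontrivial G := e.toEquiv.nontrivial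
  IsSimpleGroup.isSimpleGroup_of_surjective (G := H) e.symm.toMonoidHom e.symm.surjective

theorem map_commutator_top (e : G ≃* H) : (commutator G).map e.toMonoidHom = commutator H := by
  rw [commutator_def, Subgroup.map_commutator,
    Subgroup.map_top_of_surjective e.toMonoidHom e.surjective, ← commutator_def]

end Quotient

variable {ι : Type} [Fintype ι] [DecidableEq ι] {F : Type*} [Field F]
variable (Q : QuadraticForm F (ι → F))

/-- The matrix isometry group as `OQ Q`. -/
noncomputable def isometryEquiv : Cfsg.isometryGroup F ⇑Q ≃* OQ Q :=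
  Forms.isometryGroupEquiv ⇑Q

theorem isometryEquiv_smul (g : Cfsg.isometryGroup F ⇑Q) (x : ι → F) :
    isometryEquiv Q g • x = ((g : Matrix.GeneralLinearGroup ι F) : Matrix ι ι F) *ᵥ x :=
  rfl

/-- An element with a prescribed matrix has a prescribed image. -/
theorem isometryEquiv_eq_iff (g : Cfsg.isometryGroup F ⇑Q) (h : OQ Q) (M : Matrix ι ι F)
    (hM : ∀ x, M *ᵥ x = h • x) :
    isometryEquiv Q g = h ↔ ((g : Matrix.GeneralLinearGroup ι F) : Matrix ι ι F) = M := by
  constructor
  · intro e
    refine Matrix.toLin'.injective (LinearMap.ext fun x => ?_)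
    rw [Matrix.toLin'_apply, Matrix.toLin'_apply, hM, ← isometryEquiv_smul, e]
  · intro e
    exact OQ.ext' fun x => by rw [isometryEquiv_smul, e, hM]

theorem polarVec_dotProduct (v x : ι → F) : polarVec ⇑Q v ⬝ᵥ x = bil Q v x := by
  conv_rhs => rw [pi_eq_sum_univ' x, map_sum]
  simp only [dotProduct, polarVec, bil_apply, map_smul, smul_eq_mul, mul_comm]

theorem reflectionMatrix_mulVec {v : ι → F} (hv : Q v ≠ 0) (x : ι → F) :
    reflectionMatrix ⇑Q v *ᵥ x = orefl hv • x := by
  rw [reflectionMatrix, Matrix.sub_mulVec, Matrix.one_mulVec, Matrix.smul_mulVec,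
    Matrix.vecMulVec_mulVec, orefl_smul, op_smul_eq_smul, smul_smul, polarVec_dotProduct,
    bil_comm]

theorem siegelMatrix_mulVec {u v : ι → F} (hu : Q u = 0) (hv : Q v = 0) (huv : bil Q u v = 0)
    (c : F) (x : ι → F) :
    siegelMatrix ⇑Q u v c *ᵥ x = siegel hu (w := c • v) (by simp [huv]) • x := by
  rw [siegelMatrix, Matrix.add_mulVec, Matrix.one_mulVec, Matrix.smul_mulVec,
    Matrix.sub_mulVec, Matrix.vecMulVec_mulVec, Matrix.vecMulVec_mulVec, op_smul_eq_smul,
    op_smul_eq_smul, polarVec_dotProduct, polarVec_dotProduct, siegel_smul, map_smul,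
    quad_smul_vec, hv, bil_comm u x, bil_comm v x, smul_eq_mul]
  module

/-- The reflections of the matrix isometry group. -/
def reflectionSet : Set (Cfsg.isometryGroup F ⇑Q) :=
  {g | ∃ v : ι → F, Q v ≠ 0 ∧
    ((g : Matrix.GeneralLinearGroup ι F) : Matrix ι ι F) = reflectionMatrix ⇑Q v}

theorem image_reflectionSet : isometryEquiv Q '' reflectionSet Q = oreflSet Q := by
  ext g
  constructor
  · rintro ⟨g, ⟨v, hv, e⟩, rfl⟩
    exact ⟨v, hv, (isometryEquiv_eq_iff Q g _ _ (reflectionMatrix_mulVec Q hv)).2 e⟩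
  · rintro ⟨v, hv, rfl⟩
    exact ⟨(isometryEquiv Q).symm (orefl hv), ⟨v, hv,
      (isometryEquiv_eq_iff Q _ _ _ (reflectionMatrix_mulVec Q hv)).1
        (MulEquiv.apply_symm_apply _ _)⟩, MulEquiv.apply_symm_apply _ _⟩

/-- The Siegel elements `T_(u,v)(c)` of the matrix isometry group. -/
def siegelMatrixSet : Set (Cfsg.isometryGroup F ⇑Q) :=
  {g | ∃ (u v : ι → F) (c : F), Q u = 0 ∧ Q v = 0 ∧ QuadraticMap.polar ⇑Q u v = 0 ∧
    ((g : Matrix.GeneralLinearGroup ι F) : Matrix ι ι F) = siegelMatrix ⇑Q u v c}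

theorem image_siegelMatrixSet : isometryEquiv Q '' siegelMatrixSet Q = longRootSet Q := by
  ext g
  constructor
  · rintro ⟨g, ⟨u, v, c, hu, hv, huv, e⟩, rfl⟩
    have huv' : bil Q u v = 0 := huv
    exact ⟨u, c • v, hu, by rw [quad_smul_vec, hv, mul_zero], by simp [huv'],
      (isometryEquiv_eq_iff Q g _ _ (siegelMatrix_mulVec Q hu hv huv' c)).2 e⟩
  · rintro ⟨u, s, hu, hs, hus, rfl⟩
    refine ⟨(isometryEquiv Q).symm (siegel hu hus), ⟨u, s, 1, hu, hs, hus, ?_⟩,
      MulEquiv.apply_symm_apply _ _⟩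
    refine (isometryEquiv_eq_iff Q _ _ _ (siegelMatrix_mulVec Q hu hs hus 1)).1 ?_
    rw [MulEquiv.apply_symm_apply]
    exact siegel_congr _ _ _ _ rfl (one_smul _ _).symm

theorem bil_nondegenerate (hQ : (QuadraticMap.polarBilin Q).Nondegenerate) :
    (bil Q).Nondegenerate := hQ

theorem closure_reflection_union_siegel (hN : (bil Q).Nondegenerate) :
    Subgroup.closure (isometryEquiv Q ⁻¹' (oreflSet Q ∪ siegelSet Q)) = ⊤ := by
  apply Subgroup.map_injective (f := (isometryEquiv Q).toMonoidHom) (isometryEquiv Q).injective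
  rw [MonoidHom.map_closure,
    Subgroup.map_top_of_surjective (isometryEquiv Q).toMonoidHom (isometryEquiv Q).surjective,
    MulEquiv.coe_toMonoidHom, Set.image_preimage_eq _ (isometryEquiv Q).surjective,
    orefl_siegel_generate hN]

variable [Finite F] (hN : (bil Q).Nondegenerate) (h5 : 5 ≤ Fintype.card ι)
include hN h5

/-- `Ω` is generated by the Siegel matrices. -/
theorem Omega_eq_closure_siegelMatrixSet :
    Cfsg.Omega F ⇑Q = Subgroup.closure (siegelMatrixSet Q) := by
  have h5' : 5 ≤ Module.finrank F (ι → F) := by rwa [Module.finrank_fintype_fun_eq_card]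
  apply Subgroup.map_injective (f := (isometryEquiv Q).toMonoidHom) (isometryEquiv Q).injective
  rw [map_commutator_top, MonoidHom.map_closure, MulEquiv.coe_toMonoidHom,
    image_siegelMatrixSet, commutator_eq_siegelGroup hN h5', siegelGroup_eq_long hN h5']

/-- `Ω(Q) ≅` the commutator group of `OQ Q`. -/
theorem POmega_isSimpleGroup : IsSimpleGroup (Cfsg.POmega F ⇑Q) := by
  have h5' : 5 ≤ Module.finrank F (ι → F) := by rwa [Module.finrank_fintype_fun_eq_card]
  have e : Cfsg.Omega F ⇑Q ≃* commutator (OQ Q) :=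
    ((isometryEquiv Q).subgroupMap _).trans
      (MulEquiv.subgroupCongr (map_commutator_top (isometryEquiv Q)))
  have := omega_isSimpleGroup hN h5'
  exact isSimpleGroup_of_equiv (centerQuotientCongr e)

/-- `Ω(Q)` is perfect. -/
theorem Omega_perfect : commutator (Cfsg.Omega F ⇑Q) = ⊤ := by
  have h5' : 5 ≤ Module.finrank F (ι → F) := by rwa [Module.finrank_fintype_fun_eq_card]
  let e : Cfsg.Omega F ⇑Q ≃* siegelGroup Q :=
    ((isometryEquiv Q).subgroupMap _).trans
      (MulEquiv.subgroupCongr ((map_commutator_top (isometryEquiv Q)).trans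
        (commutator_eq_siegelGroup hN h5')))
  apply Subgroup.map_injective (f := e.toMonoidHom) e.injective
  rw [map_commutator_top, siegelGroup_perfect hN h5',
    Subgroup.map_top_of_surjective e.toMonoidHom e.surjective]

end Cfsg.Agent.ClassicalSimple
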