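import Cfsg.Prelude.Def_LieTypeDatum
import Cfsg.Agent.Lib.ClassicalSimple.OrthMatrix

/-!
The similarities of a quadratic form acting on `POmega`: the homomorphism to the automorphism group, its
image and its kernel (the scalars).
-/

set_option autoImplicit false

namespace Cfsg.Agent.ClassicalSimple

open scoped Matrix MatrixGroups

section AutFunctors

variable {G : Type*} [Group G]

/-- Automorphisms restricted to the derived subgroup. -/
def commutatorAut : MulAut G →* MulAut (commutator G) where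
  toFun e := (e.subgroupMap _).trans (MulEquiv.subgroupCongr (map_commutator_top e))
  map_one' := MulEquiv.ext fun _ => rfl
  map_mul' _ _ := MulEquiv.ext fun _ => rfl

/-- Automorphisms acting on the central quotient. -/
noncomputable def centreQuotAut : MulAut G →* MulAut (G ⧸ Subgroup.center G) where
  toFun e := centerQuotientCongr e
  map_one' := MulEquiv.ext fun x => QuotientGroup.induction_on x fun _ => rfl
  map_mul' _ _ := MulEquiv.ext fun x => QuotientGroup.induction_on x fun _ => rfl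

/-- An automorphism of a perfect group acting trivially modulo the centre is trivial. -/
theorem centreQuotAut_injective (hperf : commutator G = ⊤) :
    Function.Injective (centreQuotAut : MulAut G → MulAut (G ⧸ Subgroup.center G)) := by
  refine (injective_iff_map_eq_one _).2 fun e he => ?_
  have hq : ∀ s : G, (QuotientGroup.mk (e s) : G ⧸ Subgroup.center G) = QuotientGroup.mk s := by
    intro s
    have := MulEquiv.congr_fun he (QuotientGroup.mk s : G ⧸ Subgroup.center G)
    rw [MulAut.one_apply] at this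
    exact this
  have hmem : ∀ s, s⁻¹ * e s ∈ Subgroup.center G := fun s => QuotientGroup.eq.1 (hq s).symm
  let z : G →* Subgroup.center G :=
    { toFun := fun s => ⟨s⁻¹ * e s, hmem s⟩
      map_one' := Subtype.ext (by simp)
      map_mul' := fun s t => Subtype.ext (by
        have hc := Subgroup.mem_center_iff.1 (hmem s) t⁻¹
        show (s * t)⁻¹ * e (s * t) = s⁻¹ * e s * (t⁻¹ * e t)
        rw [map_mul, mul_inv_rev, mul_assoc t⁻¹, ← mul_assoc s⁻¹, ← mul_assoc, hc, mul_assoc]) }
  refine MulEquiv.ext fun s => ?_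
  have hle : commutator G ≤ z.ker := by
    rw [commutator_def, Subgroup.commutator_le]
    intro a _ b _
    rw [MonoidHom.mem_ker, map_commutatorElement, commutatorElement_eq_one_iff_mul_comm]
    exact Subtype.ext (Subgroup.mem_center_iff.1 (z b).2 (z a))
  have hs : s ∈ z.ker := hle (hperf.symm ▸ Subgroup.mem_top s)
  have hs' : (z s : G) = 1 := by rw [MonoidHom.mem_ker.1 hs, Subgroup.coe_one]
  have hs'' : s⁻¹ * e s = 1 := hs'
  exact (inv_mul_eq_one.1 hs'').symm

end AutFunctors

variable {ι : Type} [Fintype ι] [DecidableEq ι]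

/-- A similarity fixing all singular lines is a scalar. -/
theorem similitude_scalar_of_sameLine {F V : Type*} [Field F] [AddCommGroup V] [Module F V]
    [Finite F] [FiniteDimensional F V] {Q : QuadraticForm F V} (hN : (bil Q).Nondegenerate)
    (h5 : 5 ≤ Module.finrank F V) (f : V →ₗ[F] V) {c : F} (hc0 : c ≠ 0)
    (hsim : ∀ x, Q (f x) = c * Q x)
    (h : ∀ v : V, v ≠ 0 → Q v = 0 → SameLine F v (f v)) : ∃ a : F, ∀ x : V, f x = a • x := by
  have hb : ∀ x y, bil Q (f x) (f y) = c * bil Q x y := fun x y => by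
    simp only [bil_apply, QuadraticMap.polar, ← map_add, hsim]
    ring
  have pair : ∀ v w : V, bil Q v w ≠ 0 → ∀ a b : F, a • v = f v → b • w = f w → a * b = c := by
    intro v w hvw a b ha hb'
    have e := hb v w
    rw [← ha, ← hb', map_smul, map_smul, LinearMap.smul_apply, smul_eq_mul, smul_eq_mul] at e
    refine mul_right_cancel₀ hvw ?_
    linear_combination e
  obtain ⟨s, hs0, hs⟩ := exists_singular' hN h5
  obtain ⟨a, ha⟩ := h s hs0 hs
  refine ⟨a, eq_smul_of_span (span_singular hN h5) f a fun v hv => ?_⟩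
  by_cases hv0 : v = 0
  · simp [hv0]
  obtain ⟨b, hb'⟩ := h v hv0 hv
  obtain ⟨z, hz, h1, h2⟩ := orth_exists_nonorth hN h5 hs0 hv0 hs hv
  obtain ⟨d, hd⟩ := h z (fun e => h1 (by simp [e])) hz
  have e1 := pair s z h1 a d ha hd
  have e2 := pair v z h2 b d hb' hd
  rw [← hb', mul_right_cancel₀ (right_ne_zero_of_mul (e1 ▸ hc0 : a * d ≠ 0)) (e2.trans e1.symm)]

/-- An invertible linear map commuting with the Siegel group fixes all singular lines. -/
theorem sameLine_of_commute {F V : Type*} [Field F] [AddCommGroup V] [Module F V] [Finite F]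
    [FiniteDimensional F V] {Q : QuadraticForm F V} (hN : (bil Q).Nondegenerate)
    (h5 : 5 ≤ Module.finrank F V) (f : V →ₗ[F] V) (hg : ∀ k ∈ siegelGroup Q, ∀ x, f (k • x) = k • f x)
    (u : V) (hu0 : u ≠ 0) (hu : Q u = 0) : SameLine F u (f u) := by
  set x := f u
  have fixed : ∀ w (hw : bil Q u w = 0), siegel hu hw • x = x := fun w hw => by
    rw [← hg _ (siegel_mem hu hw)]
    congr 1
    simp [siegel_smul, bil_self_of_singular hu, hw]
  obtain ⟨w, hw, hwl⟩ := exists_forall_eq_zero_notMem ![bil Q u] (Submodule.span F {u})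
    (by rw [finrank_span_singleton hu0, Fintype.card_fin]; omega)
  have hw' : bil Q u w = 0 := hw 0
  have hxu : bil Q x u = 0 := by
    have e := fixed w hw'
    rw [siegel_smul] at e
    by_contra hne
    refine hwl (Submodule.mem_span_singleton.2
      ⟨(bil Q x u)⁻¹ * (bil Q x w + Q w * bil Q x u), ?_⟩)
    rw [add_sub_assoc, add_eq_left, sub_eq_zero] at e
    rw [mul_smul, ← e, inv_smul_smul₀ hne]
  by_contra hl
  obtain ⟨w, h1, h2⟩ := exists_bil_pair hN
    ((LinearIndependent.pair_iff' hu0).2 fun a e => hl ⟨a, e⟩) 0 1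
  have e := fixed w h1
  simp [siegel_smul, hxu, h2, hu0] at e

section Action

variable {F : Type*} [Field F] (Q : QuadraticForm F (ι → F))

/-- The similarity group. -/
abbrev GO : Subgroup (GL ι F) := Cfsg.Geo.quadSimilarityGroup (F := F) ⇑Q

theorem isometry_le_GO : isometryGroup F ⇑Q ≤ GO Q := fun _ hg =>
  ⟨1, fun v => (hg v v).trans (one_mul _).symm⟩

theorem mem_isometry_iff {g : GL ι F} :
    g ∈ isometryGroup F ⇑Q ↔ ∀ v, Q ((g : Matrix ι ι F) *ᵥ v) = Q v :=
  ⟨fun h v => h v v, fun h u _ => h u⟩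

theorem mulVec_inv_cancel (g : GL ι F) (v : ι → F) :
    (g : Matrix ι ι F) *ᵥ ((g⁻¹ : GL ι F) : Matrix ι ι F) *ᵥ v = v := by
  rw [Matrix.mulVec_mulVec, ← Units.val_mul, mul_inv_cancel, Units.val_one, Matrix.one_mulVec]

theorem conj_mem_isometry {g s : GL ι F} (hg : g ∈ GO Q) (hs : s ∈ isometryGroup F ⇑Q) :
    g * s * g⁻¹ ∈ isometryGroup F ⇑Q := by
  obtain ⟨c, hc⟩ := hg
  refine (mem_isometry_iff Q).2 fun v => ?_
  rw [Units.val_mul, Units.val_mul, ← Matrix.mulVec_mulVec, ← Matrix.mulVec_mulVec, hc,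
    (mem_isometry_iff Q).1 hs, ← hc, mulVec_inv_cancel]

/-- Similarities normalise the isometry group. -/
def conjIsometry : GO Q →* MulAut (isometryGroup F ⇑Q) where
  toFun g :=
    { toFun := fun s => ⟨g.1 * s.1 * g.1⁻¹, conj_mem_isometry Q g.2 s.2⟩
      invFun := fun s => ⟨g.1⁻¹ * s.1 * g.1, by
        simpa using conj_mem_isometry Q (inv_mem g.2) s.2⟩
      left_inv := fun s => Subtype.ext (by simp [mul_assoc])
      right_inv := fun s => Subtype.ext (by simp [mul_assoc])
      map_mul' := fun s t => Subtype.ext (by simp [mul_assoc]) }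
  map_one' := MulEquiv.ext fun s => Subtype.ext (by simp)
  map_mul' g h := MulEquiv.ext fun s => Subtype.ext (by simp [mul_assoc])

/-- The action of the similarities on `POmega`. -/
noncomputable def simAut : GO Q →* MulAut (POmega F ⇑Q) :=
  centreQuotAut.comp (commutatorAut.comp (conjIsometry Q))

theorem simAut_mk (g : GO Q) (s : Omega F ⇑Q) :
    simAut Q g (QuotientGroup.mk s) =
      QuotientGroup.mk (commutatorAut (conjIsometry Q g) s) := rfl

theorem commutatorAut_coe (g : GO Q) (s : Omega F ⇑Q) :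
    ((commutatorAut (conjIsometry Q g) s).1 : GL ι F) = g.1 * s.1.1 * g.1⁻¹ := rfl

theorem induced_iff {g : GL ι F} (hg : g ∈ GO Q) {β : MulAut (POmega F ⇑Q)} :
    IsInducedBySemilinearPOmega ⇑Q g (RingEquiv.refl F) β ↔ β = simAut Q ⟨g, hg⟩ := by
  constructor
  · intro h
    refine MulEquiv.ext fun x => QuotientGroup.induction_on x fun s => ?_
    rw [simAut_mk]
    refine h s _ ?_
    rw [commutatorAut_coe, Units.val_mul, Units.val_mul]
    simp
  · rintro rfl s s' e
    rw [simAut_mk]
    congr 1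
    refine Subtype.ext (Subtype.ext (Units.ext ?_))
    rw [commutatorAut_coe, Units.val_mul, Units.val_mul, e]
    simp

theorem autSubgroupOf_eq_map (P : GL ι F → Prop) (H : Subgroup (GO Q))
    (hP : ∀ g : GO Q, P g.1 ↔ g ∈ H) (hP' : ∀ g, P g → g ∈ GO Q) :
    autSubgroupOf (fun β : MulAut (POmega F ⇑Q) =>
      ∃ g, P g ∧ IsInducedBySemilinearPOmega ⇑Q g (RingEquiv.refl F) β) = H.map (simAut Q) := by
  rw [autSubgroupOf, ← (H.map (simAut Q)).closure_eq]
  congr 1
  ext β
  constructor
  · rintro ⟨g, hg, hi⟩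
    exact ⟨⟨g, hP' g hg⟩, (hP _).1 hg, ((induced_iff Q _).1 hi).symm⟩
  · rintro ⟨g, hg, rfl⟩
    exact ⟨g.1, (hP g).2 hg, (induced_iff Q g.2).2 rfl⟩

/-- The special isometries inside the similarities. -/
def soSub : Subgroup (GO Q) := (specialIsometryGL F ⇑Q).subgroupOf (GO Q)

/-- `Omega` inside the similarities. -/
def omegaSub : Subgroup (GO Q) :=
  ((Omega F ⇑Q).map (isometryGroup F ⇑Q).subtype).subgroupOf (GO Q)

/-- The scalars inside the similarities. -/
def scalarSub : Subgroup (GO Q) := (Geo.scalars ι F).subgroupOf (GO Q)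

theorem pgoAut_eq : pgoAut F ⇑Q = (simAut Q).range := by
  rw [MonoidHom.range_eq_map]
  exact autSubgroupOf_eq_map Q _ ⊤ (fun g => iff_of_true g.2 trivial) fun g hg => hg

theorem poAut_eq : poAut F ⇑Q = ((isometryGroup F ⇑Q).subgroupOf (GO Q)).map (simAut Q) :=
  autSubgroupOf_eq_map Q _ _ (fun _ => Iff.rfl) fun _ hg => isometry_le_GO Q hg

theorem psoAut_eq : psoAut F ⇑Q = (soSub Q).map (simAut Q) :=
  autSubgroupOf_eq_map Q _ _ (fun _ => Iff.rfl) fun _ hg => isometry_le_GO Q hg.1

theorem inn_eq : Inn (POmega F ⇑Q) = (omegaSub Q).map (simAut Q) := by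
  ext β
  constructor
  · rintro ⟨x, rfl⟩
    obtain ⟨t, rfl⟩ := QuotientGroup.mk_surjective x
    refine ⟨⟨t.1.1, isometry_le_GO Q t.1.2⟩, ⟨t.1, t.2, rfl⟩, MulEquiv.ext fun y => ?_⟩
    exact QuotientGroup.induction_on y fun s => rfl
  · rintro ⟨g, ⟨t, ht, htg⟩, rfl⟩
    refine ⟨QuotientGroup.mk ⟨t, ht⟩, MulEquiv.ext fun y => ?_⟩
    refine QuotientGroup.induction_on y fun s => ?_
    rw [simAut_mk, MulAut.conj_apply, ← QuotientGroup.mk_inv, ← QuotientGroup.mk_mul,
      ← QuotientGroup.mk_mul]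
    congr 1
    refine Subtype.ext (Subtype.ext ?_)
    have htg' : (t.1 : GL ι F) = g.1 := htg
    simp only [commutatorAut_coe, Subgroup.coe_mul, InvMemClass.coe_inv]
    rw [htg']

variable [Finite F] (hQ : (QuadraticMap.polarBilin Q).Nondegenerate) (h5 : 5 ≤ Fintype.card ι)
include hQ h5

theorem scalar_conj {g : GO Q} (hg : g ∈ scalarSub Q) (s : GL ι F) : g.1 * s * g.1⁻¹ = s := by
  obtain ⟨c, hc⟩ := (Geo.mem_scalars_iff _).1 hg
  rw [mul_inv_eq_iff_eq_mul]
  exact Units.ext (by simp [show (g.1 : Matrix ι ι F) = _ from hc])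

/-- The kernel of the action on `POmega` consists of the scalars. -/
theorem ker_simAut : (simAut Q).ker = scalarSub Q := by
  refine le_antisymm (fun g hg => ?_) fun g hg => ?_
  · have he : commutatorAut (conjIsometry Q g) = 1 :=
      centreQuotAut_injective (Omega_perfect Q (bil_nondegenerate Q hQ) h5)
        ((MonoidHom.mem_ker.1 hg).trans (map_one _).symm)
    have hcomm : ∀ t : isometryGroup F ⇑Q, t ∈ Omega F ⇑Q → g.1 * t.1 = t.1 * g.1 := by
      intro t ht
      have := congrArg (fun x : Omega F ⇑Q => (x.1 : GL ι F)) (DFunLike.congr_fun he ⟨t, ht⟩)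
      simp only [commutatorAut_coe, MulAut.one_apply] at this
      rwa [mul_inv_eq_iff_eq_mul] at this
    obtain ⟨c, hc⟩ := g.2
    have hN := bil_nondegenerate Q hQ
    have h5' : 5 ≤ Module.finrank F (ι → F) := by rwa [Module.finrank_fintype_fun_eq_card]
    have hk : ∀ k ∈ siegelGroup Q, ∀ x, Matrix.toLin' (g.1 : Matrix ι ι F) (k • x) =
        k • Matrix.toLin' (g.1 : Matrix ι ι F) x := by
      intro k hk x
      rw [← commutator_eq_siegelGroup hN h5', ← map_commutator_top (isometryEquiv Q)] at hk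
      obtain ⟨t, ht, rfl⟩ := Subgroup.mem_map.1 hk
      simp only [MulEquiv.coe_toMonoidHom, Matrix.toLin'_apply, isometryEquiv_smul,
        Matrix.mulVec_mulVec, ← Units.val_mul, hcomm t ht]
    obtain ⟨a, ha⟩ := similitude_scalar_of_sameLine hN h5' _ c.ne_zero
      (fun x => by rw [Matrix.toLin'_apply]; exact hc x) (sameLine_of_commute hN h5' _ hk)
    have ha0 : a ≠ 0 := by
      rintro rfl
      obtain ⟨s, hs, -⟩ := exists_singular' hN h5'
      refine hs ?_
      have := mulVec_inv_cancel g.1⁻¹ s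
      rw [inv_inv, ← Matrix.toLin'_apply (g.1 : Matrix ι ι F), ha, zero_smul, Matrix.mulVec_zero] at this
      exact this.symm
    refine (Geo.mem_scalars_iff _).2 ⟨Units.mk0 a ha0, Matrix.ext_of_mulVec_single fun i => ?_⟩
    show (g.1 : Matrix ι ι F) *ᵥ _ = _
    rw [Matrix.smul_mulVec, Matrix.one_mulVec, Units.val_mk0, ← Matrix.toLin'_apply, ha]
  · refine MonoidHom.mem_ker.2 (MulEquiv.ext fun y => QuotientGroup.induction_on y fun s => ?_)
    rw [simAut_mk]
    exact congrArg _ (Subtype.ext (Subtype.ext (scalar_conj Q hQ h5 hg _)))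

end Action

end Cfsg.Agent.ClassicalSimple
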