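import Cfsg.Agent.Lib.ClassicalSimple.UnitarySimple
import Cfsg.Agent.Lib.ClassicalSimple.OrthMatrix
import Cfsg.Agent.Lib.Forms.Herm

/-!
Transfer to `Cfsg.SU` and `Cfsg.PSU`.
-/

namespace Cfsg.Agent.ClassicalSimple

open scoped Matrix

variable {F : Type*} [Field F] [Fintype F] {q : ℕ} (hF : Fintype.card F = q ^ 2) {n : ℕ}
include hF

theorem hermB_isUnitary : IsUnitaryForm (Forms.qEnd hF) (Forms.hermB hF n) := by
  refine ⟨fun x y => (Forms.hermB_polar hF n).swap x y |>.trans (one_mul _),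
    Forms.qEnd_qEnd hF, ?_, (Forms.hermB_polar hF n).sep⟩
  by_contra hc
  push Not at hc
  exact Forms.qEnd_ne_id hF (RingHom.ext hc)

theorem mem_SU_iff (g : Matrix.SpecialLinearGroup (Fin n) F) :
    g ∈ Cfsg.SU n F q ↔
      ∀ x y : Fin n → F, Forms.hermB hF n (g.1 *ᵥ x) (g.1 *ᵥ y) = Forms.hermB hF n x y :=
  ⟨fun h x y => h y x, fun h u v => h v u⟩

/-- An element of `Cfsg.SU` as a linear isometry. -/
noncomputable def suToSUH : Cfsg.SU n F q →* SUH (Forms.hermB hF n) where
  toFun g := ⟨⟨Matrix.SpecialLinearGroup.toLin'_equiv g.1,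
      fun x y => (mem_SU_iff hF g.1).1 g.2 x y⟩, by
    rw [mem_SUH]
    change LinearMap.det (Matrix.toLin' g.1.1) = 1
    rw [LinearMap.det_toLin', g.1.2]⟩
  map_one' := Subtype.ext (UH.ext' fun x => Matrix.one_mulVec x)
  map_mul' a b := Subtype.ext (UH.ext' fun x => (Matrix.mulVec_mulVec x a.1.1 b.1.1).symm)

theorem suToSUH_smul (g : Cfsg.SU n F q) (x : Fin n → F) :
    suToSUH hF g • x = g.1.1 *ᵥ x := rfl

theorem suToSUH_bijective : Function.Bijective (suToSUH hF (n := n)) := by
  constructor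
  · intro a b h
    refine Subtype.ext (Subtype.ext (Matrix.toLin'.injective (LinearMap.ext fun x => ?_)))
    rw [Matrix.toLin'_apply, Matrix.toLin'_apply, ← suToSUH_smul hF, ← suToSUH_smul hF, h]
  · intro g
    set T : (Fin n → F) →ₗ[F] (Fin n → F) :=
      (((g : UH (Forms.hermB hF n)) : (Fin n → F) ≃ₗ[F] (Fin n → F)) : (Fin n → F) →ₗ[F] (Fin n → F)) with hT
    have hmul : ∀ x, LinearMap.toMatrix' T *ᵥ x = g • x :=
      fun x => by rw [LinearMap.toMatrix'_mulVec]; rfl
    have hdet : (LinearMap.toMatrix' T).det = 1 := by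
      rw [LinearMap.det_toMatrix']
      exact mem_SUH.1 g.2
    have hmem : (⟨LinearMap.toMatrix' T, hdet⟩ : Matrix.SpecialLinearGroup (Fin n) F) ∈
        Cfsg.SU n F q := (mem_SU_iff hF _).2 fun x y => by
      rw [hmul, hmul]
      exact (g : UH (Forms.hermB hF n)).2 x y
    exact ⟨⟨_, hmem⟩, Subtype.ext (UH.ext' fun x => hmul x)⟩

/-- `Cfsg.SU` is `SUH` of `hermB`. -/
noncomputable def suEquiv : Cfsg.SU n F q ≃* SUH (Forms.hermB hF n) :=
  MulEquiv.ofBijective (suToSUH hF) (suToSUH_bijective hF)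

theorem suEquiv_smul (g : Cfsg.SU n F q) (x : Fin n → F) :
    suEquiv hF g • x = g.1.1 *ᵥ x := rfl

theorem unitaryTransvection_mulVec (v : Fin n → F) (c : F) (x : Fin n → F) :
    Cfsg.unitaryTransvection n q v c *ᵥ x = x + (c * Forms.hermB hF n v x) • v := by
  rw [Cfsg.unitaryTransvection, Matrix.add_mulVec, Matrix.one_mulVec, Matrix.smul_mulVec,
    Matrix.vecMulVec_mulVec, op_smul_eq_smul, smul_smul, Forms.hermB_apply, hermForm,
    dotProduct]
  congr 3
  exact Finset.sum_congr rfl fun i _ => mul_comm _ _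

theorem exists_l_pow_four (hq : q ≠ 2) : ∃ l : F, l ≠ 0 ∧ l ^ 4 ≠ l := by
  classical
  by_contra hc
  push Not at hc
  have h1 := Forms.one_lt_q hF
  have h9 : 9 ≤ Fintype.card F := by
    rw [hF]; exact Nat.pow_le_pow_left (by omega : 3 ≤ q) 2
  have hall : ∀ l : F, l ^ 4 = l := fun l => by
    by_cases h : l = 0
    · simp [h]
    · exact hc l h
  have := Polynomial.card_le_degree_of_subset_roots (p := (Polynomial.X ^ 4 - Polynomial.X : Polynomial F))
    (Z := Finset.univ) (fun l _ => by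
      rw [Polynomial.mem_roots (FiniteField.X_pow_card_sub_X_ne_zero F (by norm_num))]
      simp [hall l])
  rw [Finset.card_univ, FiniteField.X_pow_card_sub_X_natDegree_eq F (by norm_num)] at this
  omega

theorem SU_perfect (hn : 3 ≤ n) (h32 : ¬ (n = 3 ∧ q = 2)) :
    commutator (Cfsg.SU n F q) = ⊤ := by
  have h3 : 3 ≤ Module.finrank F (Fin n → F) := by simpa using hn
  have hcase : 4 ≤ Module.finrank F (Fin n → F) ∨ ∃ l : F, l ≠ 0 ∧ l ^ 4 ≠ l := by
    by_cases h : n = 3
    · exact Or.inr (exists_l_pow_four hF fun e => h32 ⟨h, e⟩)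
    · exact Or.inl (by simp; omega)
  have h := map_commutator_top (suEquiv hF (n := n)).symm
  rw [SUH_perfect (hermB_isUnitary hF) h3 hcase,
    Subgroup.map_top_of_surjective (suEquiv hF (n := n)).symm.toMonoidHom
      (suEquiv hF (n := n)).symm.surjective] at h
  exact h.symm

theorem PSU_isSimpleGroup (hn : 3 ≤ n) (h32 : ¬ (n = 3 ∧ q = 2)) :
    IsSimpleGroup (Cfsg.PSU n F q) := by
  have h3 : 3 ≤ Module.finrank F (Fin n → F) := by simpa using hn
  have hperf : commutator (SUH (Forms.hermB hF n)) = ⊤ := by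
    rw [← map_commutator_top (suEquiv hF (n := n)), SU_perfect hF hn h32,
      Subgroup.map_top_of_surjective (suEquiv hF (n := n)).toMonoidHom (suEquiv hF).surjective]
  have := SUH_isSimpleGroup (hermB_isUnitary hF) h3 hperf
  exact isSimpleGroup_of_equiv (centerQuotientCongr (suEquiv hF))

theorem SU_normal_eq_top_or_le_center (hn : 3 ≤ n) (h32 : ¬ (n = 3 ∧ q = 2))
    (N : Subgroup (Cfsg.SU n F q)) [N.Normal] :
    N = ⊤ ∨ N ≤ Subgroup.center (Cfsg.SU n F q) := by
  have h3 : 3 ≤ Module.finrank F (Fin n → F) := by simpa using hn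
  let e := suEquiv hF (n := n)
  have hperf : commutator (SUH (Forms.hermB hF n)) = ⊤ := by
    rw [← map_commutator_top e, SU_perfect hF hn h32,
      Subgroup.map_top_of_surjective e.toMonoidHom e.surjective]
  have : (N.map e.toMonoidHom).Normal := Subgroup.Normal.map inferInstance _ e.surjective
  rcases SUH_normal_eq_top_or_le_center (hermB_isUnitary hF) h3 hperf (N.map e.toMonoidHom)
    with h | h
  · exact Or.inl (Subgroup.map_injective e.injective
      (h.trans (Subgroup.map_top_of_surjective e.toMonoidHom e.surjective).symm))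
  · refine Or.inr fun x hx => ?_
    have hx' := h ⟨x, hx, rfl⟩
    refine Subgroup.mem_center_iff.2 fun y => e.injective ?_
    rw [map_mul, map_mul]
    exact Subgroup.mem_center_iff.1 hx' (e y)

theorem unitaryTransvection_isometry_iff {v : Fin n → F} (hv : v ≠ 0)
    (hv0 : Forms.hermB hF n v v = 0) (c : F) :
    (∀ x y : Fin n → F, Forms.hermB hF n (Cfsg.unitaryTransvection n q v c *ᵥ x)
      (Cfsg.unitaryTransvection n q v c *ᵥ y) = Forms.hermB hF n x y) ↔ c + c ^ q = 0 := by
  have hh := hermB_isUnitary hF (n := n)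
  constructor
  · intro H
    obtain ⟨y, hy⟩ := exists_h_ne_zero hh hv
    have e := H y y
    simp only [unitaryTransvection_mulVec hF, map_add, map_smulₛₗ, LinearMap.add_apply,
      LinearMap.smul_apply, smul_eq_mul, RingHom.id_apply, map_mul, hv0, hh.swap v y] at e
    have h2 : Forms.qEnd hF (Forms.hermB hF n v y) * Forms.hermB hF n v y * (c + c ^ q) = 0 := by
      rw [← Forms.qEnd_apply hF c]
      linear_combination e
    exact (mul_eq_zero.1 h2).resolve_left (mul_ne_zero ((map_ne_zero _).2 hy) hy)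
  · intro hc x y
    have hc' : c + Forms.qEnd hF c + Forms.hermB hF n (0 : Fin n → F) 0 = 0 := by
      simpa [Forms.qEnd_apply] using hc
    have h := uh_smul_smul (uRootElt hh v 0 c hv0 (map_zero _) hc') x y
    simpa [unitaryTransvection_mulVec hF, uRootElt_smul] using h

theorem suEquiv_eq_transvection (hh : IsUnitaryForm (Forms.qEnd hF) (Forms.hermB hF n))
    (A : Cfsg.SU n F q) {v : Fin n → F} {c : F} (hv0 : Forms.hermB hF n v v = 0)
    (hA : A.1.1 = Cfsg.unitaryTransvection n q v c)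
    (hc : c + Forms.qEnd hF c + Forms.hermB hF n (0 : Fin n → F) 0 = 0) :
    (suEquiv hF A : UH (Forms.hermB hF n)) = uRootElt hh v 0 c hv0 (map_zero _) hc := by
  refine UH.ext' fun x => ?_
  change suEquiv hF A • x = _
  rw [suEquiv_smul, hA, unitaryTransvection_mulVec hF, uRootElt_smul]
  simp

/-- The transvections of `Cfsg.SU`. -/
def unitaryTransvectionSet (n : ℕ) (F : Type*) [Field F] (q : ℕ) : Set (Cfsg.SU n F q) :=
  {A | ∃ (v : Fin n → F) (c : F), Cfsg.hermForm n F q v v = 0 ∧
    ((A : Matrix.SpecialLinearGroup (Fin n) F) : Matrix (Fin n) (Fin n) F) =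
      Cfsg.unitaryTransvection n q v c}

theorem closure_unitaryTransvectionSet (hn : 3 ≤ n) (h32 : ¬ (n = 3 ∧ q = 2)) :
    Subgroup.closure (unitaryTransvectionSet n F q) = ⊤ := by
  have hh := hermB_isUnitary hF (n := n)
  have h3 : 3 ≤ Module.finrank F (Fin n → F) := by simpa using hn
  set T := Subgroup.closure (unitaryTransvectionSet n F q)
  have hnormal : T.Normal := by
    refine ⟨fun a ha g => ?_⟩
    have e : T.map (MulAut.conj g).toMonoidHom ≤ T := by
      rw [MonoidHom.map_closure, Subgroup.closure_le]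
      rintro _ ⟨A, ⟨v, c, hv0, hA⟩, rfl⟩
      refine Subgroup.subset_closure ⟨g.1.1 *ᵥ v, c, (g.2 v v).trans hv0, ?_⟩
      refine Matrix.toLin'.injective (LinearMap.ext fun x => ?_)
      rw [Matrix.toLin'_apply, Matrix.toLin'_apply, unitaryTransvection_mulVec hF,
        ← suEquiv_smul hF]
      have key : Forms.hermB hF n (g.1.1 *ᵥ v) x =
          Forms.hermB hF n v ((suEquiv hF g)⁻¹ • x) := by
        rw [← suEquiv_smul hF g v]
        conv_lhs => rw [← smul_inv_smul (suEquiv hF g) x]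
        exact uh_smul_smul (suEquiv hF g : UH (Forms.hermB hF n)) v _
      rw [key]
      simp only [MulEquiv.coe_toMonoidHom, MulAut.conj_apply, map_mul, map_inv, mul_smul]
      rw [suEquiv_smul hF A, hA, unitaryTransvection_mulVec hF, smul_add, smul_inv_smul,
        smul_comm (suEquiv hF g), suEquiv_smul hF g v, smul_smul]
    exact e ⟨a, ha, rfl⟩
  rcases SU_normal_eq_top_or_le_center hF hn h32 T with h | h
  · exact h
  exfalso
  obtain ⟨s, hs0, hs⟩ := exists_isotropic hh h3
  obtain ⟨θ, hθ0, hθ⟩ := hh.exists_skew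
  have hc : θ + Forms.qEnd hF θ + Forms.hermB hF n (0 : Fin n → F) 0 = 0 := by simpa using hθ
  obtain ⟨A, hA⟩ := (suEquiv hF (n := n)).surjective
    ⟨_, uRootElt_det hh hs (map_zero _) hc⟩
  have hAm : A.1.1 = Cfsg.unitaryTransvection n q s θ := by
    refine Matrix.toLin'.injective (LinearMap.ext fun x => ?_)
    rw [Matrix.toLin'_apply, Matrix.toLin'_apply, unitaryTransvection_mulVec hF, ← suEquiv_smul hF,
      hA]
    change uRootElt hh s 0 θ hs (map_zero _) hc • x = _
    simp [uRootElt_smul]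
  have hAc := h (Subgroup.subset_closure ⟨s, θ, hs, hAm⟩)
  have hAc' : suEquiv hF A ∈ Subgroup.center (SUH (Forms.hermB hF n)) := by
    rw [← center_map_equiv (suEquiv hF)]
    exact ⟨A, hAc, rfl⟩
  obtain ⟨a, -, ha⟩ := (SUH_mem_center_iff hh h3 _).1 hAc'
  have e1 := ha s
  rw [suEquiv_smul, hAm, unitaryTransvection_mulVec hF, hs, mul_zero, zero_smul, add_zero] at e1
  have ha1 : a = 1 := (smul_left_injective F hs0 (by simpa using e1)).symm
  obtain ⟨y, hy⟩ := exists_h_ne_zero hh hs0
  have e2 := ha y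
  rw [suEquiv_smul, hAm, unitaryTransvection_mulVec hF, ha1, one_smul, add_eq_left] at e2
  exact mul_ne_zero hθ0 hy ((smul_eq_zero.1 e2).resolve_right hs0)

end Cfsg.Agent.ClassicalSimple
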