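import Cfsg.Agent.Lib.ClassicalSimple.Symp
import Cfsg.Prelude.Def_ClassicalGeometry

/-!
Transfer of the results on `SpB` to Mathlib's `Matrix.symplecticGroup` and `Cfsg.PSp`.
-/

namespace Cfsg.Agent.ClassicalSimple

open scoped Matrix

variable {m : ℕ} {F : Type*} [Field F]

/-- `sympForm` as a bilinear form. -/
noncomputable def sympBilin (m : ℕ) (F : Type*) [Field F] :
    LinearMap.BilinForm F (Fin m ⊕ Fin m → F) :=
  Matrix.toBilin' (Matrix.J (Fin m) F)

theorem sympBilin_apply (u v : Fin m ⊕ Fin m → F) : sympBilin m F u v = sympForm m F u v :=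
  Matrix.toBilin'_apply' _ u v

theorem sympBilin_isAlt : LinearMap.IsAlt (sympBilin m F) := by
  intro u
  rw [sympBilin_apply, sympForm, Matrix.J, Matrix.fromBlocks_mulVec]
  simp [dotProduct, Fintype.sum_sum_type, Matrix.neg_mulVec]
  rw [neg_add_eq_zero]
  exact Finset.sum_congr rfl fun i _ => mul_comm _ _

theorem sympBilin_nondegenerate : (sympBilin m F).Nondegenerate :=
  LinearMap.BilinForm.nondegenerate_toBilin'_iff_det_ne_zero.mpr
    (Matrix.isUnit_det_J _ _).ne_zero

theorem mem_symplecticGroup_iff_form {A : Matrix (Fin m ⊕ Fin m) (Fin m ⊕ Fin m) F} :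
    A ∈ Matrix.symplecticGroup (Fin m) F ↔
      ∀ u v, sympBilin m F (A *ᵥ u) (A *ᵥ v) = sympBilin m F u v := by
  have hc : ∀ u v, sympBilin m F (A *ᵥ u) (A *ᵥ v) =
      Matrix.toBilin' (Aᵀ * Matrix.J (Fin m) F * A) u v := fun u v => by
    rw [← Matrix.toBilin'_comp, LinearMap.BilinForm.comp_apply, Matrix.toLin'_apply,
      Matrix.toLin'_apply]
    rfl
  rw [SymplecticGroup.mem_iff']
  refine ⟨fun h u v => by rw [hc, h]; rfl, fun h => ?_⟩
  refine Matrix.toBilin'.injective (LinearMap.ext₂ fun u v => ?_)
  rw [← hc]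
  exact h u v

/-- The linear automorphism of a symplectic matrix. -/
noncomputable def symplecticToIsom :
    Matrix.symplecticGroup (Fin m) F →* SpB (sympBilin m F) where
  toFun A := ⟨LinearEquiv.ofLinearMap (Matrix.toLin' A.1) (Matrix.toLin' (A⁻¹).1)
    (by rw [← Matrix.toLin'_mul, ← Submonoid.coe_mul, mul_inv_cancel, Submonoid.coe_one,
      Matrix.toLin'_one])
    (by rw [← Matrix.toLin'_mul, ← Submonoid.coe_mul, inv_mul_cancel, Submonoid.coe_one,
      Matrix.toLin'_one]), fun u v => by
      simpa using mem_symplecticGroup_iff_form.1 A.2 u v⟩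
  map_one' := SpB.ext' fun x => by simp [smul_eq_apply]
  map_mul' A B := SpB.ext' fun x => by simp [smul_eq_apply, mul_smul, Matrix.mulVec_mulVec]

theorem symplecticToIsom_smul (A : Matrix.symplecticGroup (Fin m) F) (x : Fin m ⊕ Fin m → F) :
    symplecticToIsom A • x = A.1 *ᵥ x := by
  simp [symplecticToIsom, smul_eq_apply]

theorem symplecticToIsom_bijective :
    Function.Bijective (symplecticToIsom (m := m) (F := F)) := by
  constructor
  · intro A B h
    refine Subtype.ext (Matrix.toLin'.injective (LinearMap.ext fun x => ?_))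
    rw [Matrix.toLin'_apply, Matrix.toLin'_apply, ← symplecticToIsom_smul,
      ← symplecticToIsom_smul, h]
  · intro g
    have hmul : ∀ x, LinearMap.toMatrix' (g.1 : (Fin m ⊕ Fin m → F) →ₗ[F] _) *ᵥ x = g • x :=
      fun x => by rw [LinearMap.toMatrix'_mulVec]; rfl
    refine ⟨⟨LinearMap.toMatrix' (g.1 : (Fin m ⊕ Fin m → F) →ₗ[F] _),
      mem_symplecticGroup_iff_form.2 fun u v => ?_⟩, SpB.ext' fun x => ?_⟩
    · rw [hmul, hmul]
      exact g.2 u v
    · rw [symplecticToIsom_smul, hmul]

/-- Mathlib's symplectic group is the isometry group of `sympBilin`. -/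
noncomputable def symplecticEquiv :
    Matrix.symplecticGroup (Fin m) F ≃* SpB (sympBilin m F) :=
  MulEquiv.ofBijective symplecticToIsom symplecticToIsom_bijective

theorem symplecticEquiv_smul (A : Matrix.symplecticGroup (Fin m) F) (x : Fin m ⊕ Fin m → F) :
    symplecticEquiv A • x = A.1 *ᵥ x :=
  symplecticToIsom_smul A x

theorem sympTransvection_mulVec (v : Fin m ⊕ Fin m → F) (c : F) (x : Fin m ⊕ Fin m → F) :
    sympTransvection m v c *ᵥ x = x + (c * sympBilin m F x v) • v := by
  rw [sympTransvection, Matrix.add_mulVec, Matrix.one_mulVec, Matrix.smul_mulVec,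
    Matrix.vecMulVec_mulVec, sympBilin_apply, sympForm, op_smul_eq_smul, smul_smul,
    dotProduct_comm]

theorem sympTransvection_mem (v : Fin m ⊕ Fin m → F) (c : F) :
    sympTransvection m v c ∈ Matrix.symplecticGroup (Fin m) F :=
  mem_symplecticGroup_iff_form.2 fun x y => by
    rw [sympTransvection_mulVec, sympTransvection_mulVec]
    simpa using form_smul (spTransv sympBilin_isAlt v c) x y

/-- The symplectic transvection as an element of Mathlib's symplectic group. -/
def sympTransvectionElt (v : Fin m ⊕ Fin m → F) (c : F) : Matrix.symplecticGroup (Fin m) F :=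
  ⟨sympTransvection m v c, sympTransvection_mem v c⟩

theorem symplecticEquiv_transvection (v : Fin m ⊕ Fin m → F) (c : F) :
    symplecticEquiv (sympTransvectionElt v c) = spTransv sympBilin_isAlt v c :=
  SpB.ext' fun x => by
    rw [symplecticEquiv_smul, spTransv_smul]
    exact sympTransvection_mulVec v c x

/-- The transvections of Mathlib's symplectic group. -/
def sympTransvectionSet (m : ℕ) (F : Type*) [Field F] : Set (Matrix.symplecticGroup (Fin m) F) :=
  {A | ∃ (w : Fin m ⊕ Fin m → F) (c : F),
    (A : Matrix (Fin m ⊕ Fin m) (Fin m ⊕ Fin m) F) = sympTransvection m w c}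

theorem map_closure_sympTransvectionSet :
    (Subgroup.closure (sympTransvectionSet m F)).map symplecticEquiv.toMonoidHom =
      spTransvGroup (sympBilin_isAlt (m := m) (F := F)) := by
  rw [MonoidHom.map_closure, spTransvGroup]
  congr 1
  ext g
  constructor
  · rintro ⟨A, ⟨w, c, hA⟩, rfl⟩
    refine ⟨(w, c), ?_⟩
    rw [show A = sympTransvectionElt w c from Subtype.ext hA]
    exact (symplecticEquiv_transvection w c).symm
  · rintro ⟨⟨w, c⟩, rfl⟩
    exact ⟨sympTransvectionElt w c, ⟨w, c, rfl⟩, symplecticEquiv_transvection w c⟩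

theorem closure_sympTransvectionSet : Subgroup.closure (sympTransvectionSet m F) = ⊤ := by
  apply Subgroup.map_injective (f := symplecticEquiv.toMonoidHom) symplecticEquiv.injective
  rw [map_closure_sympTransvectionSet, transvGroup_eq_top _ sympBilin_nondegenerate,
    Subgroup.map_top_of_surjective symplecticEquiv.toMonoidHom symplecticEquiv.surjective]

theorem exists_sq_ne_one (F : Type*) [Field F] [Fintype F] (h : 4 ≤ Fintype.card F) :
    ∃ a : F, a ≠ 0 ∧ a * a ≠ 1 := by
  classical
  by_contra hc
  push Not at hc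
  have hsub : (Finset.univ : Finset F) ⊆ {0, 1, -1} := fun a _ => by
    rcases eq_or_ne a 0 with rfl | ha
    · simp
    · rcases mul_self_eq_one_iff.1 (hc a ha) with rfl | rfl <;> simp
  have := (Finset.card_le_card hsub).trans Finset.card_le_three
  rw [Finset.card_univ] at this
  omega

theorem symplectic_commutator_eq_top [Fintype F]
    (h : 3 ≤ m ∨ (m = 2 ∧ 3 ≤ Fintype.card F) ∨ 4 ≤ Fintype.card F) :
    commutator (Matrix.symplecticGroup (Fin m) F) = ⊤ := by
  have hr : Module.finrank F (Fin m ⊕ Fin m → F) = 2 * m := by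
    simp [Module.finrank_fintype_fun_eq_card]; omega
  have hperf : commutator (SpB (sympBilin m F)) = ⊤ := by
    refine sp_commutator_eq_top sympBilin_isAlt sympBilin_nondegenerate ?_
    rw [hr]
    rcases h with h | ⟨h, hq⟩ | h
    · exact Or.inr (Or.inl (by omega))
    · by_cases h2 : (2 : F) = 0
      · refine Or.inl (exists_sq_ne_one F ?_)
        by_contra hlt
        have h3 : Fintype.card F = 3 := by omega
        have h30 : (3 : F) = 0 := by
          have := FiniteField.cast_card_eq_zero F
          rwa [h3] at this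
        exact one_ne_zero (by linear_combination h30 - h2 : (1 : F) = 0)
      · exact Or.inr (Or.inr ⟨by omega, h2⟩)
    · exact Or.inl (exists_sq_ne_one F h)
  have := congrArg (Subgroup.map (symplecticEquiv (m := m) (F := F)).symm.toMonoidHom) hperf
  rwa [commutator_def, Subgroup.map_commutator,
    Subgroup.map_top_of_surjective (symplecticEquiv (m := m) (F := F)).symm.toMonoidHom symplecticEquiv.symm.surjective, ← commutator_def] at this

theorem nontrivial_symplectic_space (hm : 1 ≤ m) : Nontrivial (Fin m ⊕ Fin m → F) :=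
  have : Nonempty (Fin m ⊕ Fin m) := ⟨Sum.inl ⟨0, by omega⟩⟩
  inferInstance

/-- Normal subgroups of `Sp_2m(F)` are central or everything, once perfect. -/
theorem symplectic_normal_eq_top_or_le_center [Fintype F]
    (h : 3 ≤ m ∨ (m = 2 ∧ 3 ≤ Fintype.card F) ∨ 4 ≤ Fintype.card F)
    (N : Subgroup (Matrix.symplecticGroup (Fin m) F)) [N.Normal] :
    N = ⊤ ∨ N ≤ Subgroup.center _ := by
  let e := symplecticEquiv (m := m) (F := F)
  have hperf : commutator (SpB (sympBilin m F)) = ⊤ := by
    have := congrArg (Subgroup.map e.toMonoidHom) (symplectic_commutator_eq_top h)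
    rwa [commutator_def, Subgroup.map_commutator,
      Subgroup.map_top_of_surjective e.toMonoidHom e.surjective, ← commutator_def] at this
  have : (N.map e.toMonoidHom).Normal := Subgroup.Normal.map inferInstance _ e.surjective
  rcases sp_normal_eq_top_or_le_center sympBilin_isAlt sympBilin_nondegenerate hperf
    (N.map e.toMonoidHom) with h1 | h1
  · exact Or.inl (Subgroup.map_injective e.injective
      (h1.trans (Subgroup.map_top_of_surjective e.toMonoidHom e.surjective).symm))
  · refine Or.inr fun x hx => Subgroup.mem_center_iff.2 fun y => e.injective ?_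
    rw [map_mul, map_mul]
    exact Subgroup.mem_center_iff.1 (h1 ⟨x, hx, rfl⟩) (e y)

theorem PSp_isSimpleGroup [Fintype F] (hm : 1 ≤ m)
    (h : 3 ≤ m ∨ (m = 2 ∧ 3 ≤ Fintype.card F) ∨ 4 ≤ Fintype.card F) :
    IsSimpleGroup (Cfsg.PSp m F) := by
  refine isSimpleGroup_quotient_center (symplectic_commutator_eq_top h) ?_
    fun N hN => symplectic_normal_eq_top_or_le_center h N
  refine ⟨⟨sympTransvectionElt (Pi.single (Sum.inl ⟨0, hm⟩) 1) 1, 1, fun e => ?_⟩⟩
  have h1 := congrArg (fun A : Matrix.symplecticGroup (Fin m) F =>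
    A.1 *ᵥ Pi.single (Sum.inr ⟨0, hm⟩) 1) e
  have h2 : sympBilin m F (Pi.single (Sum.inr ⟨0, hm⟩) 1) (Pi.single (Sum.inl ⟨0, hm⟩) 1) = 1 := by
    simp [sympBilin, Matrix.toBilin'_single, Matrix.J]
  simp only [sympTransvectionElt, sympTransvection_mulVec, h2, mul_one, one_smul,
    Submonoid.coe_one, Matrix.one_mulVec, add_eq_left] at h1
  simpa using congrFun h1 (Sum.inl ⟨0, hm⟩)

end Cfsg.Agent.ClassicalSimple
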