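import Cfsg.Agent.Lib.ClassicalSimple.Orth

/-!
`Omega = commutator O(Q)` for a finite field and dimension at least 5: it is the Siegel group,
perfect, generated by long root elements, and simple modulo its centre.
-/

namespace Cfsg.Agent.ClassicalSimple

open scoped commutatorElement

variable {F V : Type*} [Field F] [AddCommGroup V] [Module F V]
variable {Q : QuadraticForm F V}

omit [Field F] [AddCommGroup V] [Module F V] in
theorem forall_vec2 {α : Type*} {a b : α} {P : α → Prop} :
    (∀ i, P (![a, b] i)) ↔ P a ∧ P b := by simp [Fin.forall_fin_two]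

omit [Field F] [AddCommGroup V] [Module F V] in
theorem forall_vec3 {α : Type*} {a b c : α} {P : α → Prop} :
    (∀ i, P (![a, b, c] i)) ↔ P a ∧ P b ∧ P c := by simp [Fin.forall_fin_succ]

omit [Field F] [AddCommGroup V] [Module F V] in
theorem forall_vec4 {α : Type*} {a b c d : α} {P : α → Prop} :
    (∀ i, P (![a, b, c, d] i)) ↔ P a ∧ P b ∧ P c ∧ P d := by simp [Fin.forall_fin_succ]

/-- A space of dimension at least `#φ + 3` over a finite field has a singular vector killed by
the functionals `φ` (no nondegeneracy needed). -/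
theorem exists_singular [Finite F] [FiniteDimensional F V] {ι : Type*} [Fintype ι]
    (φ : ι → Module.Dual F V) (h : Fintype.card ι + 3 ≤ Module.finrank F V) :
    ∃ s, s ≠ 0 ∧ Q s = 0 ∧ ∀ i, φ i s = 0 := by
  classical
  obtain ⟨a, ha, ha0⟩ := exists_forall_eq_zero_notMem φ ⊥ (by rw [finrank_bot]; omega)
  rw [Submodule.mem_bot] at ha0
  by_cases hqa : Q a = 0
  · exact ⟨a, ha0, hqa, ha⟩
  obtain ⟨b, hb, hbl⟩ := exists_forall_eq_zero_notMem (Option.elim' (bil Q a) φ)
    (Submodule.span F {a}) (by rw [Fintype.card_option, finrank_span_singleton ha0]; omega)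
  have hab : bil Q a b = 0 := hb none
  have hb' : ∀ i, φ i b = 0 := fun i => hb (some i)
  rw [Submodule.mem_span_singleton] at hbl
  push Not at hbl
  have hb0 : b ≠ 0 := fun e => hbl 0 (by simp [e])
  by_cases hqb : Q b = 0
  · exact ⟨b, hb0, hqb, hb'⟩
  by_cases h2 : (2 : F) = 0
  · have := Fintype.ofFinite F
    have hc : ringChar F = 2 := by
      by_contra hne
      exact Ring.two_ne_zero hne h2
    obtain ⟨r, hr⟩ := FiniteField.isSquare_of_char_two hc (Q b / Q a)
    refine ⟨r • a + b, fun e => hbl (-r) ?_, ?_, fun i => by simp [ha, hb']⟩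
    · rw [neg_smul]
      exact neg_eq_of_add_eq_zero_right e
    · rw [quad_add, quad_smul_vec, map_smul, LinearMap.smul_apply, hab, smul_zero, add_zero, ← hr,
        div_mul_cancel₀ _ hqa]
      linear_combination Q b * h2
  · have := Fintype.ofFinite F
    obtain ⟨c, hc, hc0⟩ := exists_forall_eq_zero_notMem
      (Option.elim' (bil Q a) (Option.elim' (bil Q b) φ)) ⊥
      (by rw [Fintype.card_option, Fintype.card_option, finrank_bot]; omega)
    have hac : bil Q a c = 0 := hc none
    have hbc : bil Q b c = 0 := hc (some none)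
    have hc' : ∀ i, φ i c = 0 := fun i => hc (some (some i))
    rw [Submodule.mem_bot] at hc0
    obtain ⟨x, y, hxy⟩ := FiniteField.exists_root_sum_quadratic
      (f := Polynomial.C (Q a) * Polynomial.X ^ 2 + Polynomial.C (Q c))
      (g := Polynomial.C (Q b) * Polynomial.X ^ 2)
      (by rw [Polynomial.degree_add_C (by rw [Polynomial.degree_C_mul_X_pow 2 hqa]; decide),
        Polynomial.degree_C_mul_X_pow 2 hqa]; rfl)
      (by rw [Polynomial.degree_C_mul_X_pow 2 hqb]; rfl)
      (Nat.odd_iff.1 (by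
        refine Nat.not_even_iff_odd.1 fun he => h2 ?_
        obtain ⟨k, hk⟩ := he
        have h0 : ((Fintype.card F : ℕ) : F) = 0 := FiniteField.cast_card_eq_zero F
        have hchar : ringChar F = 2 := by
          by_contra hne
          have := FiniteField.odd_card_of_char_ne_two hne
          omega
        have : CharP F 2 := ringChar.of_eq hchar
        exact CharTwo.two_eq_zero))
    simp only [Polynomial.eval_add, Polynomial.eval_mul, Polynomial.eval_C, Polynomial.eval_pow,
      Polynomial.eval_X] at hxy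
    refine ⟨x • a + y • b + c, fun e => hc0 ?_, ?_, fun i => by simp [ha, hb', hc']⟩
    · have e1 : bil Q a (x • a + y • b + c) = 0 := by rw [e, map_zero]
      have e2 : bil Q b (x • a + y • b + c) = 0 := by rw [e, map_zero]
      simp only [map_add, map_smul, smul_eq_mul, hab, hac, hbc, bil_self,
        (bil_comm b a).trans hab, mul_zero, add_zero, zero_add, mul_eq_zero, h2, hqa, hqb,
        or_false, false_or] at e1 e2
      simpa [e1, e2] using e
    · simp only [quad_add, quad_smul_vec, map_add, map_smul, LinearMap.add_apply,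
        LinearMap.smul_apply, hab, hac, hbc, smul_eq_mul, mul_zero, add_zero]
      linear_combination hxy

variable (hN : (bil Q).Nondegenerate)
include hN

theorem exists_bil_pair {u v : V} (h : LinearIndependent F ![u, v]) (a b : F) :
    ∃ y, bil Q u y = a ∧ bil Q v y = b := by
  obtain ⟨y, hy⟩ := exists_eval_eq _ (linearIndependent_bil hN h) ![a, b]
  exact ⟨y, hy 0, hy 1⟩

theorem exists_bil_ne_ne {u v w : V} (hv : LinearIndependent F ![u, v])
    (hw : LinearIndependent F ![u, w]) :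
    ∃ y, bil Q u y = 0 ∧ bil Q v y ≠ 0 ∧ bil Q w y ≠ 0 := by
  obtain ⟨y₁, h₁, h₁'⟩ := exists_bil_pair hN hv 0 1
  obtain ⟨y₂, h₂, h₂'⟩ := exists_bil_pair hN hw 0 1
  by_cases hw1 : bil Q w y₁ = 0
  · by_cases hv2 : bil Q v y₂ = 0
    · exact ⟨y₁ + y₂, by simp [h₁, h₂], by simp [h₁', hv2], by simp [hw1, h₂']⟩
    · exact ⟨y₂, h₂, hv2, by simp [h₂']⟩
  · exact ⟨y₁, h₁, by simp [h₁'], hw1⟩

/-- A non-zero vector is not orthogonal to all singular vectors, once one exists. -/
theorem exists_singular_nonorth {s v : V} (hs : Q s = 0) (hs0 : s ≠ 0) (hv : v ≠ 0) :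
    ∃ z, Q z = 0 ∧ bil Q v z ≠ 0 := by
  by_cases h : bil Q v s = 0
  swap
  · exact ⟨s, hs, h⟩
  obtain ⟨y, hy⟩ := orth_exists_ne_zero hN hs0
  obtain ⟨y1, h1⟩ : ∃ y1, bil Q s y1 = 1 :=
    ⟨(bil Q s y)⁻¹ • y, by rw [map_smul, smul_eq_mul, inv_mul_cancel₀ hy]⟩
  set s' := y1 - Q y1 • s with hs'def
  have hs' : Q s' = 0 := by
    rw [hs'def, quad_sub, quad_smul_vec, hs, map_smul, smul_eq_mul, bil_comm y1 s, h1]
    ring
  have hss' : bil Q s s' = 1 := by simp [hs'def, h1, bil_self_of_singular hs]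
  by_cases h' : bil Q v s' = 0
  swap
  · exact ⟨s', hs', h'⟩
  have hi : LinearIndependent F ![v, s, s'] := by
    rw [Fintype.linearIndependent_iff]
    intro g hg
    have hb := congrArg (bil Q s) hg
    have hb' := congrArg (bil Q s') hg
    simp [Fin.sum_univ_three, bil_self_of_singular hs, bil_self_of_singular hs', hss',
      (bil_comm s v).trans h, (bil_comm s' v).trans h', (bil_comm s' s).trans hss'] at hb hb' hg
    simp [hb, hb', hv] at hg
    simp [Fin.forall_fin_succ, hb, hb', hg]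
  obtain ⟨t, ht⟩ := exists_eval_eq _ (linearIndependent_bil hN hi) ![1, 0, 0]
  have t0 : bil Q v t = 1 := ht 0
  have t1 : bil Q s t = 0 := ht 1
  have t2 : bil Q s' t = 0 := ht 2
  refine ⟨t + s + (-Q t) • s', ?_, by simp [t0, h, h']⟩
  simp only [quad_add, quad_smul_vec, map_add, map_smul, LinearMap.add_apply,
    LinearMap.smul_apply, hs, hs', hss', (bil_comm t s).trans t1, (bil_comm t s').trans t2,
    smul_eq_mul]
  ring

variable [Finite F] [FiniteDimensional F V] (h5 : 5 ≤ Module.finrank F V)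
include h5

theorem exists_singular' : ∃ s, s ≠ 0 ∧ Q s = 0 := by
  obtain ⟨s, h1, h2, -⟩ := exists_singular (Q := Q) (![] : Fin 0 → Module.Dual F V)
    (by simp only [Fintype.card_fin]; omega)
  exact ⟨s, h1, h2⟩

theorem span_singular : Submodule.span F {v | Q v = 0} = ⊤ := by
  by_contra hne
  obtain ⟨φ, hφ0, hφ⟩ := Submodule.exists_dual_map_eq_bot_of_lt_top (lt_top_iff_ne_top.2 hne)
    inferInstance
  obtain ⟨s, hs0, hs⟩ := exists_singular' hN h5
  obtain ⟨b, hb⟩ : ∃ b, bil Q b = φ := by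
    obtain ⟨b, hb⟩ := (LinearMap.injective_iff_surjective_of_finrank_eq_finrank
      Subspace.dual_finrank_eq.symm (f := bil Q)).1
      (LinearMap.ker_eq_bot.1 (LinearMap.ker_eq_bot'.2 fun m hm => hN.1 m fun y => by
        rw [hm]; rfl)) φ
    exact ⟨b, hb⟩
  have hb0 : b ≠ 0 := by rintro rfl; exact hφ0 (by rw [← hb, map_zero])
  obtain ⟨z, hz, hbz⟩ := exists_singular_nonorth hN hs hs0 hb0
  rw [hb] at hbz
  exact hbz ((Submodule.eq_bot_iff _).1 hφ _ ⟨z, Submodule.subset_span hz, rfl⟩)

/-- Inside the perp of a non-orthogonal singular pair, every value of `Q` occurs. -/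
theorem exists_orth_value {v v' : V} (hv : Q v = 0) (hv' : Q v' = 0) (hb : bil Q v v' ≠ 0)
    (c : F) : ∃ w, bil Q v w = 0 ∧ bil Q v' w = 0 ∧ Q w = c := by
  obtain ⟨s, hs0, hs, hsφ⟩ := exists_singular (Q := Q) ![bil Q v, bil Q v']
    (by simp only [Fintype.card_fin]; omega)
  rw [forall_vec2 (P := fun φ : Module.Dual F V => φ s = 0)] at hsφ
  obtain ⟨h1, h2⟩ := hsφ
  have hi : LinearIndependent F ![v, v', s] := by
    rw [Fintype.linearIndependent_iff]
    intro g hg
    have e1 := congrArg (bil Q v) hg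
    have e2 := congrArg (bil Q v') hg
    simp [Fin.sum_univ_three, bil_self_of_singular hv, bil_self_of_singular hv',
      (bil_comm v' v), hb, h1, h2] at e1 e2 hg
    simp [e1, e2, hs0] at hg
    simp [Fin.forall_fin_succ, e1, e2, hg]
  obtain ⟨y, hy⟩ := exists_eval_eq _ (linearIndependent_bil hN hi) ![0, 0, 1]
  have y0 : bil Q v y = 0 := hy 0
  have y1 : bil Q v' y = 0 := hy 1
  have y2 : bil Q s y = 1 := hy 2
  refine ⟨y + (c - Q y) • s, by simp [y0, h1], by simp [y1, h2], ?_⟩
  simp only [quad_add, quad_smul_vec, map_smul, hs, (bil_comm y s).trans y2, smul_eq_mul]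
  ring

/-- A vector pairing to one and the same non-zero value with two singular vectors. -/
theorem exists_common_partner {v v' : V} (hv : Q v = 0) (hv' : Q v' = 0) (hb : bil Q v v' ≠ 0) :
    ∃ z, Q z = 0 ∧ bil Q v z = bil Q v v' ∧ bil Q v' z = bil Q v v' := by
  obtain ⟨w, h1, h2, hw⟩ := exists_orth_value hN h5 hv hv' hb (-bil Q v v')
  refine ⟨w + v + v', ?_, by simp [h1, bil_self_of_singular hv],
    by simp [h2, bil_self_of_singular hv', bil_comm v' v]⟩
  simp only [quad_add, hv, hv', hw, map_add, LinearMap.add_apply, (bil_comm w v).trans h1,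
    (bil_comm w v').trans h2]
  ring

theorem orth_exists_nonorth {v v' : V} (hv0 : v ≠ 0) (hv'0 : v' ≠ 0) (hv : Q v = 0)
    (hv' : Q v' = 0) : ∃ z, Q z = 0 ∧ bil Q v z ≠ 0 ∧ bil Q v' z ≠ 0 := by
  by_cases hb : bil Q v v' = 0
  swap
  · obtain ⟨z, hz, e1, e2⟩ := exists_common_partner hN h5 hv hv' hb
    exact ⟨z, hz, by rwa [e1], by rwa [e2]⟩
  obtain ⟨s, hs0, hs⟩ := exists_singular' hN h5
  obtain ⟨y₁, h₁, h₁'⟩ := exists_singular_nonorth hN hs hs0 hv0
  obtain ⟨y₂, h₂, h₂'⟩ := exists_singular_nonorth hN hs hs0 hv'0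
  by_cases hw1 : bil Q v' y₁ = 0
  swap
  · exact ⟨y₁, h₁, h₁', hw1⟩
  by_cases hv2 : bil Q v y₂ = 0
  swap
  · exact ⟨y₂, h₂, hv2, h₂'⟩
  set y := y₁ + y₂ with hy
  have e1 : bil Q v y = bil Q v y₁ := by simp [hy, hv2]
  have e2 : bil Q v' y = bil Q v' y₂ := by simp [hy, hw1]
  refine ⟨y - (Q y / bil Q v y) • v, ?_, ?_, ?_⟩
  · rw [quad_sub, quad_smul_vec, hv, map_smul, bil_comm y v, smul_eq_mul,
      div_mul_cancel₀ _ (by rwa [e1])]
    ring
  · simp [bil_self_of_singular hv, e1, h₁']
  · simp [(bil_comm v' v).trans hb, e2, h₂']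

omit h5 [Finite F] [FiniteDimensional F V] in
/-- The root group of `u` is transitive on singular vectors pairing to 1 with `u`, and fixes
everything orthogonal to `u` and the difference. -/
theorem exists_siegel_map {u v v' : V} (hu : Q u = 0) (hv : Q v = 0) (hv' : Q v' = 0)
    (h1 : bil Q v u = 1) (h2 : bil Q v' u = 1) :
    ∃ g ∈ siegelGroup Q, g • v = v' ∧
      ∀ x, bil Q x u = 0 → bil Q x (v' - v) = 0 → g • x = x := by
  have hw : bil Q u (v' - v) = 0 := by
    rw [map_sub, bil_comm u v', bil_comm u v, h1, h2, sub_self]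
  refine ⟨siegel hu hw, siegel_mem _ _, ?_, fun x hx hx' => by simp [siegel_smul, hx, hx']⟩
  rw [siegel_smul, h1, quad_sub, hv, hv', map_sub, bil_self_of_singular hv, bil_comm v' v]
  module

/-- The Siegel group is transitive on singular vectors. -/
theorem siegel_trans {v v' : V} (hv0 : v ≠ 0) (hv'0 : v' ≠ 0) (hv : Q v = 0) (hv' : Q v' = 0) :
    ∃ g ∈ siegelGroup Q, g • v = v' := by
  have step : ∀ a b : V, Q a = 0 → Q b = 0 → bil Q a b ≠ 0 →
      ∃ g ∈ siegelGroup Q, g • a = b := by
    intro a b ha hb hab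
    obtain ⟨z, hz, e1, e2⟩ := exists_common_partner hN h5 ha hb hab
    obtain ⟨g, hg, hga, -⟩ := exists_siegel_map hN (u := (bil Q a b)⁻¹ • z)
      (by rw [quad_smul_vec, hz, mul_zero]) ha hb
      (by rw [map_smul, e1, smul_eq_mul, inv_mul_cancel₀ hab])
      (by rw [map_smul, e2, smul_eq_mul, inv_mul_cancel₀ hab])
    exact ⟨g, hg, hga⟩
  obtain ⟨z, hz, h1, h2⟩ := orth_exists_nonorth hN h5 hv0 hv'0 hv hv'
  obtain ⟨g, hg, hgv⟩ := step v z hv hz h1
  obtain ⟨g', hg', hgz⟩ := step z v' hz hv' (by rwa [bil_comm])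
  exact ⟨g' * g, mul_mem hg' hg, by rw [mul_smul, hgv, hgz]⟩

/-- The Siegel group is transitive on hyperbolic pairs. -/
theorem siegel_trans_pair {u v u' v' : V} (hu : Q u = 0) (hv : Q v = 0) (hu' : Q u' = 0)
    (hv' : Q v' = 0) (h : bil Q u v = 1) (h' : bil Q u' v' = 1) :
    ∃ g ∈ siegelGroup Q, g • u = u' ∧ g • v = v' := by
  obtain ⟨g, hg, hgu⟩ := siegel_trans hN h5 (v := u) (v' := u') (by rintro rfl; simp at h)
    (by rintro rfl; simp at h') hu hu'
  obtain ⟨k, hk, hkv, hk'⟩ := exists_siegel_map hN hu' (v := g • v) (v' := v')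
    (by rw [quad_smul, hv]) hv' (by rw [← hgu, bil_smul_smul, bil_comm, h])
    (by rw [bil_comm, h'])
  refine ⟨k * g, mul_mem hk hg, ?_, by rw [mul_smul, hkv]⟩
  rw [mul_smul, hgu, hk' u' (bil_self_of_singular hu') ?_]
  rw [map_sub, h', ← hgu, bil_smul_smul, h, sub_self]

/-- The Siegel group is transitive on the vectors of a given non-zero value of `Q`. -/
theorem siegel_trans_norm {b b' : V} (hb : Q b ≠ 0) (e : Q b = Q b') :
    ∃ g ∈ siegelGroup Q, g • b = b' := by
  have split : ∀ c : V, Q c ≠ 0 → ∃ u v, Q u = 0 ∧ Q v = 0 ∧ bil Q u v = 1 ∧ c = v + Q c • u := by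
    intro c hc
    obtain ⟨s, hs0, hs⟩ := exists_singular' hN h5
    obtain ⟨z, hz, hcz⟩ := exists_singular_nonorth hN hs hs0 (v := c) (by rintro rfl; simp at hc)
    obtain ⟨u, h1, hu0⟩ : ∃ u, bil Q c u = 1 ∧ Q u = 0 :=
      ⟨(bil Q c z)⁻¹ • z, by rw [map_smul, smul_eq_mul, inv_mul_cancel₀ hcz],
        by rw [quad_smul_vec, hz, mul_zero]⟩
    refine ⟨u, c - Q c • u, hu0, ?_, ?_, by rw [sub_add_cancel]⟩
    · rw [quad_sub, quad_smul_vec, hu0, map_smul, h1, smul_eq_mul]
      ring
    · rw [map_sub, map_smul, bil_self_of_singular hu0, bil_comm, h1, smul_zero, sub_zero]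
  obtain ⟨u, v, hu, hv, huv, hb1⟩ := split b hb
  obtain ⟨u', v', hu', hv', huv', hb1'⟩ := split b' (e ▸ hb)
  obtain ⟨g, hg, hgu, hgv⟩ := siegel_trans_pair hN h5 hu hv hu' hv' huv huv'
  refine ⟨g, hg, ?_⟩
  rw [hb1, hb1', smul_add, hgv, smul_comm g, hgu, e]

theorem reflection_commute_mod (a b : OQ Q) (ha : a ∈ oreflSet Q) (hb : b ∈ oreflSet Q) :
    a * b * a⁻¹ * b⁻¹ ∈ siegelGroup Q := by
  obtain ⟨x, hx, rfl⟩ := ha
  obtain ⟨y, hy, rfl⟩ := hb
  obtain ⟨g, hg, hgy⟩ := siegel_trans_norm hN h5 hy (b' := orefl hx • y) (quad_smul _ _).symm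
  have e : orefl hx * orefl hy * (orefl hx)⁻¹ = g * orefl hy * g⁻¹ := by
    rw [orefl_conj, orefl_conj]
    congr 1
    exact hgy.symm
  rw [e, mul_assoc, mul_assoc g]
  refine mul_mem hg ?_
  rw [← mul_assoc]
  exact (siegelGroup_normal).conj_mem _ (inv_mem hg) _

/-- Every long root element is a commutator in the Siegel group. -/
theorem long_root_eq_commutator {u s : V} (hu : Q u = 0) (hs : Q s = 0) (hus : bil Q u s = 0) :
    ∃ g ∈ siegelGroup Q, ∃ k ∈ siegelGroup Q, ⁅g, k⁆ = siegel hu hus := by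
  by_cases hl : ∃ a : F, a • u = s
  · obtain ⟨a, rfl⟩ := hl
    exact ⟨1, one_mem _, 1, one_mem _, by rw [commutatorElement_one_left, siegel_smul_self]⟩
  push Not at hl
  by_cases hu0 : u = 0
  · subst hu0
    refine ⟨1, one_mem _, 1, one_mem _, ?_⟩
    rw [commutatorElement_one_left]
    exact (OQ.ext' fun x => by simp [siegel_smul]).symm
  obtain ⟨w, hw, hwl⟩ := exists_forall_eq_zero_notMem ![bil Q u, bil Q s]
    (Submodule.span F (Set.range ![u, s]))
    (by
      have := finrank_range_le_card (R := F) ![u, s]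
      simp only [Set.finrank, Fintype.card_fin] at this ⊢
      omega)
  rw [forall_vec2 (P := fun φ : Module.Dual F V => φ w = 0)] at hw
  have hi : LinearIndependent F ![w, u, s] :=
    linearIndependent_finCons.2 ⟨(LinearIndependent.pair_iff' hu0).2 fun a => hl a, hwl⟩
  obtain ⟨w', hw'⟩ := exists_eval_eq _ (linearIndependent_bil hN hi) ![-1, 0, 0]
  have e0 : bil Q w w' = -1 := hw' 0
  have e1 : bil Q u w' = 0 := hw' 1
  have e2 : bil Q s w' = 0 := hw' 2
  refine ⟨siegel hs e2, siegel_mem _ _, siegel hu hw.1, siegel_mem _ _, ?_⟩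
  have g1 : siegel hs e2 • u = u := by simp [siegel_smul, hus, e1]
  have g2 : siegel hs e2 • w = s + w := by
    simp [siegel_smul, e0, (bil_comm w s).trans hw.2, add_comm]
  rw [commutatorElement_def, siegel_conj,
    siegel_congr _ _ hu (w' := s + w) (by simp [hw.1, hus]) g1 g2,
    ← siegel_mul hu hus hw.1, mul_inv_cancel_right]

/-- Long root elements. -/
def longRootSet (Q : QuadraticForm F V) : Set (OQ Q) :=
  {g | ∃ (u s : V) (hu : Q u = 0) (_ : Q s = 0) (hus : bil Q u s = 0), g = siegel hu hus}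

/-- Siegel transformations are products of long root elements. -/
theorem siegelGroup_eq_long : siegelGroup Q = Subgroup.closure (longRootSet Q) := by
  refine le_antisymm ?_ (Subgroup.closure_mono ?_)
  swap
  · rintro g ⟨u, s, hu, -, hus, rfl⟩
    exact ⟨u, s, hu, hus, rfl⟩
  rw [siegelGroup, Subgroup.closure_le]
  rintro g ⟨u, w, hu, hw, rfl⟩
  set H := Subgroup.closure (longRootSet Q)
  have mem : ∀ (x : V) (_ : Q x = 0) (hx : bil Q u x = 0), siegel hu hx ∈ H :=
    fun x h1 hx => Subgroup.subset_closure ⟨u, x, hu, h1, hx, rfl⟩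
  by_cases hu0 : u = 0
  · subst hu0
    rw [show siegel hu hw = 1 from OQ.ext' fun x => by simp [siegel_smul]]
    exact one_mem _
  obtain ⟨y, hy⟩ := orth_exists_ne_zero hN hu0
  obtain ⟨y1, h1⟩ : ∃ y1, bil Q u y1 = 1 :=
    ⟨(bil Q u y)⁻¹ • y, by rw [map_smul, smul_eq_mul, inv_mul_cancel₀ hy]⟩
  set u' := y1 - Q y1 • u with hu'def
  have hu' : Q u' = 0 := by
    rw [hu'def, quad_sub, quad_smul_vec, hu, map_smul, smul_eq_mul, bil_comm y1 u, h1]
    ring
  have huu' : bil Q u u' = 1 := by simp [hu'def, h1, bil_self_of_singular hu]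
  obtain ⟨s, hs0, hs, hsφ⟩ := exists_singular (Q := Q) ![bil Q u, bil Q u']
    (by simp only [Fintype.card_fin]; omega)
  rw [forall_vec2 (P := fun φ : Module.Dual F V => φ s = 0)] at hsφ
  obtain ⟨hus, hu's⟩ := hsφ
  have hi : LinearIndependent F ![u, u', s] := by
    rw [Fintype.linearIndependent_iff]
    intro g hg
    have e1 := congrArg (bil Q u) hg
    have e2 := congrArg (bil Q u') hg
    simp [Fin.sum_univ_three, bil_self_of_singular hu, bil_self_of_singular hu',
      (bil_comm u' u), huu', hus, hu's] at e1 e2 hg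
    simp [e1, e2, hs0] at hg
    simp [Fin.forall_fin_succ, e1, e2, hg]
  obtain ⟨t, ht⟩ := exists_eval_eq _ (linearIndependent_bil hN hi) ![0, 0, 1]
  have t0 : bil Q u t = 0 := ht 0
  have t1 : bil Q u' t = 0 := ht 1
  have t2 : bil Q s t = 1 := ht 2
  set s' := t - Q t • s with hs'def
  have hs' : Q s' = 0 := by
    rw [hs'def, quad_sub, quad_smul_vec, map_smul, hs, bil_comm t s, t2, smul_eq_mul]
    ring
  have hss' : bil Q s s' = 1 := by simp [hs'def, t2, bil_self_of_singular hs]
  have hus' : bil Q u s' = 0 := by simp [hs'def, t0, hus]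
  set a := bil Q w u'
  set w0 := w - a • u
  set p := bil Q w0 s'
  set r := bil Q w0 s
  set w1 := w0 - p • s - r • s'
  have huw1 : bil Q u w1 = 0 := by simp [w1, w0, hw, bil_self_of_singular hu, hus, hus']
  have k1 : bil Q w1 s = 0 := by
    simp [w1, bil_self_of_singular hs, (bil_comm s' s).trans hss', r]
  have k2 : bil Q w1 s' = 0 := by
    simp [w1, bil_self_of_singular hs', hss', p]
  set z := w1 + s + (-Q w1) • s'
  have hz : Q z = 0 := by
    simp only [z, quad_add, quad_smul_vec, map_add, map_smul, LinearMap.add_apply, k1, k2, hs,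
      hs', hss', smul_eq_mul]
    ring
  have huz : bil Q u z = 0 := by simp [z, huw1, hus, hus']
  have hA : bil Q u ((p - 1) • s) = 0 := by simp [hus]
  have hB : bil Q u ((r + Q w1) • s') = 0 := by simp [hus']
  have hC : bil Q u (a • u) = 0 := by simp [bil_self_of_singular hu]
  have key : siegel hu huz * siegel hu hA * siegel hu hB * siegel hu hC = siegel hu hw := by
    rw [siegel_mul hu huz hA, siegel_mul hu _ hB, siegel_mul hu _ hC]
    exact siegel_congr _ _ _ _ rfl (by simp only [z, w1, w0]; module)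
  rw [SetLike.mem_coe, ← key]
  exact mul_mem (mul_mem (mul_mem (mem z hz huz)
    (mem _ (by rw [quad_smul_vec, hs, mul_zero]) hA))
    (mem _ (by rw [quad_smul_vec, hs', mul_zero]) hB))
    (mem _ (by rw [quad_smul_vec, hu, mul_zero]) hC)

theorem siegelGroup_le_commutator : siegelGroup Q ≤ ⁅siegelGroup Q, siegelGroup Q⁆ := by
  nth_rw 1 [siegelGroup_eq_long hN h5]
  rw [Subgroup.closure_le]
  rintro g ⟨u, s, hu, hs, hus, rfl⟩
  obtain ⟨g, hg, k, hk, e⟩ := long_root_eq_commutator hN h5 hu hs hus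
  rw [SetLike.mem_coe, ← e]
  exact Subgroup.commutator_mem_commutator hg hk

/-- `Omega` is the Siegel group. -/
theorem commutator_eq_siegelGroup : commutator (OQ Q) = siegelGroup Q := by
  refine le_antisymm ?_ ((siegelGroup_le_commutator hN h5).trans
    (Subgroup.commutator_mono le_top le_top))
  have := siegelGroup_normal (Q := Q)
  set π := QuotientGroup.mk' (siegelGroup Q)
  have hgen : Subgroup.closure (π '' oreflSet Q) = ⊤ := by
    rw [eq_top_iff, ← Subgroup.map_top_of_surjective π (QuotientGroup.mk'_surjective _),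
      ← orefl_siegel_generate hN, MonoidHom.map_closure, Subgroup.closure_le]
    rintro _ ⟨g, hg | hg, rfl⟩
    · exact Subgroup.subset_closure ⟨g, hg, rfl⟩
    · rw [show π g = 1 from (QuotientGroup.eq_one_iff g).2 (Subgroup.subset_closure hg)]
      exact one_mem _
  have hcomm : IsMulCommutative (Subgroup.closure (π '' oreflSet Q)) := by
    refine Subgroup.isMulCommutative_closure ?_
    rintro _ ⟨a, ha, rfl⟩ _ ⟨b, hb, rfl⟩
    refine commutatorElement_eq_one_iff_mul_comm.1 ?_
    rw [← map_commutatorElement]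
    exact (QuotientGroup.eq_one_iff _).2 (by
      rw [commutatorElement_def]; exact reflection_commute_mod hN h5 a b ha hb)
  rw [commutator_def, Subgroup.commutator_le]
  intro g _ k _
  refine (QuotientGroup.eq_one_iff _).1 ?_
  change π ⁅g, k⁆ = 1
  rw [map_commutatorElement, commutatorElement_eq_one_iff_mul_comm]
  have m : ∀ x : OQ Q ⧸ siegelGroup Q, x ∈ Subgroup.closure (π '' oreflSet Q) :=
    fun x => hgen.symm ▸ Subgroup.mem_top x
  exact congrArg Subtype.val (mul_comm' ⟨π g, m _⟩ ⟨π k, m _⟩)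

theorem siegelGroup_perfect : commutator (siegelGroup Q) = ⊤ := by
  apply Subgroup.map_injective (siegelGroup Q).subtype_injective
  rw [commutator_def, Subgroup.map_commutator, ← MonoidHom.range_eq_map, Subgroup.range_subtype]
  exact le_antisymm (Subgroup.commutator_le_self _) (siegelGroup_le_commutator hN h5)

theorem siegel_pointGeom :
    PointGeom F (siegelGroup Q) (fun v : V => v ≠ 0 ∧ Q v = 0) (fun v w => bil Q v w = 0) where
  ne_zero h := h.1
  map_S g _ h := ⟨fun e => h.1 ((smul_eq_zero_iff_eq g).1 e),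
    (quad_smul (g : OQ Q) _).trans h.2⟩
  O_symm h := (bil_comm _ _).trans h
  trans hv hw := by
    obtain ⟨g, hg, e⟩ := siegel_trans hN h5 hv.1 hw.1 hv.2 hw.2
    exact ⟨⟨g, hg⟩, 1, by rw [one_smul]; exact e.symm⟩
  trans_nonorth := by
    intro u v w hu hv hw huv huw
    obtain ⟨g, hg, hgv, hgu⟩ := exists_siegel_map hN hu.2 (v := (bil Q u v)⁻¹ • v)
      (v' := (bil Q u w)⁻¹ • w) (by rw [quad_smul_vec, hv.2, mul_zero])
      (by rw [quad_smul_vec, hw.2, mul_zero]) (by simp [bil_comm v u, huv])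
      (by simp [bil_comm w u, huw])
    refine ⟨⟨g, hg⟩, ⟨1, ?_⟩, bil Q u v * (bil Q u w)⁻¹, ?_⟩
    · rw [one_smul]
      exact (hgu u (bil_self_of_singular hu.2) (by simp [huv, huw])).symm
    · change _ = g • v
      rw [mul_smul, ← hgv, ← smul_comm g, smul_inv_smul₀ huv]
  trans_orth := by
    intro u v w hu hv hw huv huw hlv hlw
    have i1 : LinearIndependent F ![u, v] :=
      (LinearIndependent.pair_iff' hu.1).2 fun a e => hlv ⟨a, e⟩
    have i2 : LinearIndependent F ![u, w] :=
      (LinearIndependent.pair_iff' hu.1).2 fun a e => hlw ⟨a, e⟩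
    -- a singular `z ⊥ u` non-orthogonal to both
    obtain ⟨z, hz, huz, hzv, hzw⟩ : ∃ z, Q z = 0 ∧ bil Q u z = 0 ∧ bil Q v z ≠ 0 ∧
        bil Q w z ≠ 0 := by
      by_cases hvw : bil Q v w = 0
      · obtain ⟨y, hy, hyv, hyw⟩ := exists_bil_ne_ne hN i1 i2
        refine ⟨y - (Q y / bil Q v y) • v, ?_, by simp [hy, huv], ?_, ?_⟩
        · rw [quad_sub, quad_smul_vec, hv.2, map_smul, bil_comm y v, smul_eq_mul,
            div_mul_cancel₀ _ hyv]
          ring
        · simp [bil_self_of_singular hv.2, hyv]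
        · simp [(bil_comm w v).trans hvw, hyw]
      obtain ⟨w', h0, h1, h2, h3⟩ : ∃ w', bil Q u w' = 0 ∧ bil Q v w' = 0 ∧ bil Q w w' = 0 ∧
          Q w' ≠ 0 := by
        obtain ⟨s, hs, hsl⟩ := exists_forall_eq_zero_notMem ![bil Q u, bil Q v, bil Q w]
          (Submodule.span F {u}) (by
            rw [finrank_span_singleton hu.1, Fintype.card_fin]
            omega)
        rw [forall_vec3 (P := fun φ : Module.Dual F V => φ s = 0)] at hs
        rw [Submodule.mem_span_singleton] at hsl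
        push Not at hsl
        by_cases hqs : Q s = 0
        swap
        · exact ⟨s, hs.1, hs.2.1, hs.2.2, hqs⟩
        have hi : LinearIndependent F ![u, v, w, s] := by
          rw [Fintype.linearIndependent_iff]
          intro g hg
          have e1 := congrArg (bil Q v) hg
          have e2 := congrArg (bil Q w) hg
          simp [Fin.sum_univ_four, bil_self_of_singular hv.2, bil_self_of_singular hw.2,
            (bil_comm w v), (bil_comm v u).trans huv, (bil_comm w u).trans huw, hvw,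
            hs.2.1, hs.2.2] at e1 e2 hg
          simp only [e1, e2, zero_smul, add_zero] at hg
          have hu3 : g 3 = 0 := by
            by_contra h3
            refine hsl (-(g 0 / g 3)) ?_
            rw [← smul_right_inj h3, smul_smul]
            rw [show g 3 * -(g 0 / g 3) = -g 0 by field_simp, neg_smul]
            exact neg_eq_of_add_eq_zero_right hg
          simp [hu3, hu.1] at hg
          simp [Fin.forall_fin_succ, e1, e2, hg, hu3]
        obtain ⟨t, ht⟩ := exists_eval_eq _ (linearIndependent_bil hN hi) ![0, 0, 0, 1]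
        have t0 : bil Q u t = 0 := ht 0
        have t1 : bil Q v t = 0 := ht 1
        have t2 : bil Q w t = 0 := ht 2
        have t3 : bil Q s t = 1 := ht 3
        by_cases hqt : Q t = 0
        · refine ⟨t + s, by simp [t0, hs.1], by simp [t1, hs.2.1], by simp [t2, hs.2.2], ?_⟩
          rw [quad_add, hqt, hqs, bil_comm, t3]
          simp
        · exact ⟨t, t0, t1, t2, hqt⟩
      refine ⟨w' + v - (Q w' / bil Q v w) • w, ?_, by simp [h0, huv, huw], ?_, ?_⟩
      · rw [quad_sub, quad_add, quad_smul_vec, hv.2, hw.2, map_smul, map_add,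
          LinearMap.add_apply, bil_comm w' v, h1, bil_comm w' w, h2, smul_eq_mul, zero_add,
          div_mul_cancel₀ _ hvw]
        ring
      · simp [h1, bil_self_of_singular hv.2, hvw, h3]
      · simp [h2, bil_comm w v, bil_self_of_singular hw.2, hvw]
    obtain ⟨g, hg, hgv, hgu⟩ := exists_siegel_map hN hz (v := (bil Q v z)⁻¹ • v)
      (v' := (bil Q w z)⁻¹ • w) (by rw [quad_smul_vec, hv.2, mul_zero])
      (by rw [quad_smul_vec, hw.2, mul_zero]) (by simp [hzv]) (by simp [hzw])
    refine ⟨⟨g, hg⟩, ⟨1, ?_⟩, bil Q v z * (bil Q w z)⁻¹, ?_⟩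
    · rw [one_smul]
      exact (hgu u huz (by simp [huv, huw])).symm
    · change _ = g • v
      rw [mul_smul, ← hgv, ← smul_comm g, smul_inv_smul₀ hzv]
  exists_nonorth := by
    intro u v hu hv
    obtain ⟨z, hz, h1, h2⟩ := orth_exists_nonorth hN h5 hu.1 hv.1 hu.2 hv.2
    exact ⟨z, ⟨fun e => h1 (by simp [e]), hz⟩, h1, fun e => h2 ((bil_comm _ _).trans e)⟩
  exists_orth := by
    intro u v d hu _ huv hd hud hld
    refine ⟨d - (bil Q d v / bil Q u v) • u, ⟨fun e => hld ⟨_, (sub_eq_zero.1 e).symm⟩, ?_⟩,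
      ?_, ?_, ?_⟩
    · rw [quad_sub, quad_smul_vec, hu.2, hd.2, map_smul, bil_comm d u, hud]
      simp
    · simp [hud, bil_self_of_singular hu.2]
    · simp [huv]
    · rintro ⟨a, ha⟩
      exact hld ⟨a + bil Q d v / bil Q u v, by rw [add_smul, ha, sub_add_cancel]⟩

/-- An isometry fixing all singular lines is a scalar. -/
theorem orth_scalar_of_sameLine (g : OQ Q)
    (h : ∀ v : V, v ≠ 0 → Q v = 0 → SameLine F v (g • v)) :
    ∃ a : F, a * a = 1 ∧ ∀ x : V, g • x = a • x := by
  have pair : ∀ v w : V, Q v = 0 → Q w = 0 → bil Q v w ≠ 0 → ∀ a b : F,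
      a • v = g • v → b • w = g • w → a * b = 1 := by
    intro v w _ _ hvw a b ha hb
    have e := bil_smul_smul g v w
    rw [← ha, ← hb, map_smul, map_smul, LinearMap.smul_apply, smul_eq_mul, smul_eq_mul] at e
    refine mul_right_cancel₀ hvw ?_
    rw [one_mul]
    linear_combination e
  obtain ⟨s, hs0, hs⟩ := exists_singular' hN h5
  obtain ⟨a, ha⟩ := h s hs0 hs
  have all : ∀ v : V, Q v = 0 → g • v = a • v := by
    intro v hv
    by_cases hv0 : v = 0
    · simp [hv0]
    obtain ⟨b, hb⟩ := h v hv0 hv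
    obtain ⟨z, hz, h1, h2⟩ := orth_exists_nonorth hN h5 hs0 hv0 hs hv
    obtain ⟨c, hc⟩ := h z (fun e => h1 (by simp [e])) hz
    have e1 := pair s z hs hz h1 a c ha hc
    have e2 := pair v z hv hz h2 b c hb hc
    have : b = a := mul_right_cancel₀ (right_ne_zero_of_mul_eq_one e1) (e2.trans e1.symm)
    rw [← hb, this]
  have hall : ∀ x : V, g • x = a • x :=
    eq_smul_of_span (span_singular hN h5) (g : V ≃ₗ[F] V).toLinearMap a all
  refine ⟨a, ?_, hall⟩
  obtain ⟨z, hz, h1, -⟩ := orth_exists_nonorth hN h5 hs0 hs0 hs hs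
  exact pair s z hs hz h1 a a (hall s).symm (hall z).symm

/-- An isometry commuting with the Siegel group fixes all singular lines. -/
theorem orth_sameLine_of_commute (g : OQ Q) (hg : ∀ k ∈ siegelGroup Q, Commute g k)
    (u : V) (hu0 : u ≠ 0) (hu : Q u = 0) : SameLine F u (g • u) := by
  set x := g • u
  have fixed : ∀ w (hw : bil Q u w = 0), siegel hu hw • x = x := fun w hw => by
    rw [← mul_smul, ← (hg _ (siegel_mem hu hw)).eq, mul_smul]
    congr 1
    simp [siegel_smul, bil_self_of_singular hu, hw]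
  obtain ⟨w, hw, hwl⟩ := exists_forall_eq_zero_notMem ![bil Q u] (Submodule.span F {u})
    (by rw [finrank_span_singleton hu0, Fintype.card_fin]; omega)
  have hw' : bil Q u w = 0 := hw 0
  have hxu : bil Q x u = 0 := by
    have e := fixed w hw'
    rw [siegel_smul] at e
    by_contra hne
    refine hwl (Submodule.mem_span_singleton.2
      ⟨(bil Q x u)⁻¹ * (bil Q x w + Q w * bil Q x u), ?_⟩)
    rw [add_sub_assoc, add_eq_left, sub_eq_zero] at e
    rw [mul_smul, ← e, inv_smul_smul₀ hne]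
  by_contra hl
  obtain ⟨w, h1, h2⟩ := exists_bil_pair hN
    ((LinearIndependent.pair_iff' hu0).2 fun a e => hl ⟨a, e⟩) 0 1
  have e := fixed w h1
  simp [siegel_smul, hxu, h2, hu0] at e

theorem siegel_mem_center_iff (g : siegelGroup Q) :
    g ∈ Subgroup.center (siegelGroup Q) ↔ ∃ a : F, a * a = 1 ∧ ∀ x : V, g • x = a • x := by
  refine ⟨fun hg => orth_scalar_of_sameLine hN h5 _ (orth_sameLine_of_commute hN h5 _
    fun k hk => congrArg Subtype.val (Subgroup.mem_center_iff.1 hg ⟨k, hk⟩).symm), ?_⟩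
  rintro ⟨a, -, ha⟩
  refine Subgroup.mem_center_iff.2 fun k => Subtype.ext (OQ.ext' fun x => ?_)
  change k • g • x = g • k • x
  rw [ha, ha, smul_comm]

theorem siegel_normal_eq_top_or_le_center (N : Subgroup (siegelGroup Q)) [N.Normal] :
    N = ⊤ ∨ N ≤ Subgroup.center (siegelGroup Q) := by
  refine normal_eq_top_or_le_center (siegel_pointGeom hN h5) (siegelGroup_perfect hN h5)
    (fun v => Subgroup.closure {g : siegelGroup Q | ∃ (w : V) (hu : Q v = 0)
      (hw : bil Q v w = 0), (g : OQ Q) = siegel hu hw}) (fun {v} _ => ?_)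
    (fun {v w} hv hl hw => ?_) (fun g {v x} _ hx => ?_) ?_ ?_ N
  · have : IsMulCommutative (Subgroup.closure {g : siegelGroup Q | ∃ (w : V) (hu : Q v = 0)
        (hw : bil Q v w = 0), (g : OQ Q) = siegel hu hw}) := by
      refine Subgroup.isMulCommutative_closure ?_
      rintro a ⟨w, hu, hw, ea⟩ b ⟨w', hu', hw', eb⟩
      refine Subtype.ext ?_
      rw [Subgroup.coe_mul, Subgroup.coe_mul, ea, eb, siegel_mul, siegel_mul]
      exact siegel_congr _ _ _ _ rfl (add_comm _ _)
    exact Group.isSolvable_of_comm fun a b => mul_comm' a b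
  · obtain ⟨a, rfl⟩ := hl
    have ha : a ≠ 0 := left_ne_zero_of_smul hw.1
    congr 1
    ext g
    constructor
    · rintro ⟨x, hu, hx, e⟩
      have hux : bil Q v (a • (a⁻¹ • x)) = 0 := by rw [smul_inv_smul₀ ha, hx]
      refine ⟨a⁻¹ • x, hw.2, ?_, ?_⟩
      · simp [hx]
      · rw [siegel_scale a hw.2 (by simp [hx]) hu hux, e]
        exact siegel_congr _ _ _ _ rfl (smul_inv_smul₀ ha _).symm
    · rintro ⟨x, hu, hx, e⟩
      have hvx : bil Q v (a • x) = 0 := by simpa [ha] using hx
      exact ⟨a • x, hv.2, hvx, e.trans (siegel_scale a hu hx hv.2 hvx)⟩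
  · have hmap : (Subgroup.closure {g : siegelGroup Q | ∃ (w : V) (hu : Q v = 0)
        (hw : bil Q v w = 0), (g : OQ Q) = siegel hu hw}).map (MulAut.conj g).toMonoidHom ≤
        Subgroup.closure {k : siegelGroup Q | ∃ (w : V) (hu : Q (g • v) = 0)
        (hw : bil Q (g • v) w = 0), (k : OQ Q) = siegel hu hw} := by
      rw [MonoidHom.map_closure, Subgroup.closure_le]
      rintro _ ⟨k, ⟨w, hu, hw, e⟩, rfl⟩
      refine Subgroup.subset_closure ⟨(g : OQ Q) • w, (quad_smul (g : OQ Q) v).trans hu,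
        (bil_smul_smul (g : OQ Q) v w).trans hw, ?_⟩
      simp only [MulEquiv.coe_toMonoidHom, MulAut.conj_apply, Subgroup.coe_mul, Subgroup.coe_inv,
        e, siegel_conj]
    exact hmap ⟨x, hx, rfl⟩
  · apply Subgroup.map_injective (siegelGroup Q).subtype_injective
    rw [← MonoidHom.range_eq_map, Subgroup.range_subtype]
    refine le_antisymm (Subgroup.map_subtype_le _) ?_
    nth_rw 1 [siegelGroup]
    rw [Subgroup.closure_le]
    rintro g ⟨u, w, hu, hw, rfl⟩
    by_cases hu0 : u = 0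
    · rw [show siegel hu hw = 1 from OQ.ext' fun x => by simp [siegel_smul, hu0]]
      exact one_mem _
    · exact ⟨⟨siegel hu hw, siegel_mem hu hw⟩, Subgroup.mem_iSup_of_mem u
        (Subgroup.mem_iSup_of_mem ⟨hu0, hu⟩ (Subgroup.subset_closure ⟨w, hu, hw, rfl⟩)), rfl⟩
  · intro g hg
    obtain ⟨a, ha, hga⟩ := orth_scalar_of_sameLine hN h5 (g : OQ Q) fun v h1 h2 => hg v ⟨h1, h2⟩
    exact (siegel_mem_center_iff hN h5 g).2 ⟨a, ha, hga⟩

theorem siegelGroup_nontrivial : Nontrivial (siegelGroup Q) := by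
  obtain ⟨s, hs0, hs⟩ := exists_singular' hN h5
  obtain ⟨w, hw, hwl⟩ := exists_forall_eq_zero_notMem ![bil Q s] (Submodule.span F {s})
    (by rw [finrank_span_singleton hs0, Fintype.card_fin]; omega)
  obtain ⟨x, hx⟩ := orth_exists_ne_zero hN hs0
  have hw' : bil Q s w = 0 := hw 0
  refine ⟨⟨⟨siegel hs hw', siegel_mem _ _⟩, 1, fun e => hwl ?_⟩⟩
  have h := congrArg (fun g : siegelGroup Q => g • x) e
  change siegel hs hw' • x = (1 : siegelGroup Q) • x at h
  rw [one_smul, siegel_smul, add_sub_assoc, add_eq_left, sub_eq_zero] at h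
  refine Submodule.mem_span_singleton.2
    ⟨(bil Q x s)⁻¹ * (bil Q x w + Q w * bil Q x s), ?_⟩
  rw [mul_smul, ← h, inv_smul_smul₀ (by rwa [bil_comm])]

theorem siegel_isSimpleGroup :
    IsSimpleGroup (siegelGroup Q ⧸ Subgroup.center (siegelGroup Q)) :=
  isSimpleGroup_quotient_center (siegelGroup_perfect hN h5) (siegelGroup_nontrivial hN h5)
    fun N hN' => siegel_normal_eq_top_or_le_center hN h5 N

/-- `PΩ(Q)` is simple: finite field, nondegenerate polar form, dimension at least 5. -/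
theorem omega_isSimpleGroup :
    IsSimpleGroup (commutator (OQ Q) ⧸ Subgroup.center (commutator (OQ Q))) := by
  rw [commutator_eq_siegelGroup hN h5]
  exact siegel_isSimpleGroup hN h5

end Cfsg.Agent.ClassicalSimple
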