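import Mathlib

/-!
Small linear algebra helpers shared by the files on classical groups.
-/

namespace Cfsg.Agent.ClassicalSimple

variable {F V : Type*} [Field F] [AddCommGroup V] [Module F V]

/-- Linearly independent functionals take arbitrary values simultaneously. -/
theorem exists_eval_eq {ι : Type*} [Finite ι] (f : ι → Module.Dual F V)
    (hf : LinearIndependent F f) (a : ι → F) : ∃ y, ∀ i, f i y = a i := by
  classical
  have := Fintype.ofFinite ι
  suffices h : Function.Surjective (LinearMap.pi f) by
    obtain ⟨y, hy⟩ := h a
    exact ⟨y, fun i => congrFun hy i⟩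
  rw [← LinearMap.dualMap_injective_iff, injective_iff_map_eq_zero]
  intro φ hφ
  have key : ∑ i, φ (Pi.single i 1) • f i = 0 := by
    rw [← hφ]
    ext y
    simp only [LinearMap.sum_apply, LinearMap.smul_apply, LinearMap.dualMap_apply, smul_eq_mul]
    conv_rhs => rw [pi_eq_sum_univ' (LinearMap.pi f y), map_sum]
    refine Finset.sum_congr rfl fun i _ => ?_
    rw [map_smul, LinearMap.pi_apply, smul_eq_mul, mul_comm]
  apply (Pi.basisFun F ι).ext
  intro i
  simpa [Pi.basisFun_apply] using Fintype.linearIndependent_iff.1 hf _ key i

/-- If few functionals and a small subspace: some vector is killed by all functionals and lies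
outside the subspace. -/
theorem exists_forall_eq_zero_notMem [FiniteDimensional F V] {ι : Type*} [Fintype ι]
    (f : ι → Module.Dual F V) (p : Submodule F V)
    (h : Fintype.card ι + Module.finrank F p < Module.finrank F V) :
    ∃ x, (∀ i, f i x = 0) ∧ x ∉ p := by
  by_contra hc
  push Not at hc
  have hle : LinearMap.ker (LinearMap.pi f) ≤ p :=
    fun x hx => hc x fun i => congrFun (LinearMap.mem_ker.1 hx) i
  have h1 := Submodule.finrank_mono hle
  have h2 := LinearMap.finrank_range_add_finrank_ker (LinearMap.pi f)
  have h3 := Submodule.finrank_le (LinearMap.range (LinearMap.pi f))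
  rw [Module.finrank_fintype_fun_eq_card] at h3
  omega

/-- A linear map fixing every line of a set of vectors spanning the space, with equal factors
on all of them, is a scalar. -/
theorem eq_smul_of_span {S : Set V} (hS : Submodule.span F S = ⊤) (g : V →ₗ[F] V) (a : F)
    (h : ∀ v ∈ S, g v = a • v) (x : V) : g x = a • x := by
  have := LinearMap.ext_on hS (f := g) (g := a • LinearMap.id) (fun v hv => by simpa using h v hv)
  simpa using LinearMap.congr_fun this x

/-- A linear map fixing every line is a scalar. -/
theorem exists_eq_smul_of_forall_line (g : V →ₗ[F] V)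
    (h : ∀ v : V, v ≠ 0 → ∃ a : F, a • v = g v) : ∃ a : F, ∀ x, g x = a • x := by
  obtain ⟨a, ha⟩ := g.exists_eq_smul_id_of_forall_notLinearIndependent fun v => by
    by_cases hv : v = 0
    · simp [hv, linearIndependent_fin2]
    · simpa [LinearIndependent.pair_iff' hv] using h v hv
  exact ⟨a, fun x => by rw [ha]; simp [Module.algebraMap_end_apply]⟩

/-- The measure for inductions on the fixed space of a linear automorphism. -/
noncomputable def fixCodim (g : V ≃ₗ[F] V) : ℕ :=
  Module.finrank F V - Module.finrank F (LinearMap.ker ((g : V →ₗ[F] V) - LinearMap.id))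

theorem fixCodim_lt [FiniteDimensional F V] {g h : V ≃ₗ[F] V} {x : V}
    (hle : ∀ y, g y = y → h y = y) (hx : h x = x) (hgx : g x ≠ x) : fixCodim h < fixCodim g := by
  have hlt : LinearMap.ker ((g : V →ₗ[F] V) - LinearMap.id) <
      LinearMap.ker ((h : V →ₗ[F] V) - LinearMap.id) := by
    refine lt_of_le_of_ne (fun y hy => ?_) fun he => hgx ?_
    · simp only [LinearMap.mem_ker, LinearMap.sub_apply, LinearEquiv.coe_coe, LinearMap.id_coe,
        id_eq, sub_eq_zero] at hy ⊢
      exact hle y hy
    · have hm : x ∈ LinearMap.ker ((h : V →ₗ[F] V) - LinearMap.id) := by simp [hx]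
      rw [← he] at hm
      simpa [sub_eq_zero] using hm
  have h1 := Submodule.finrank_lt_finrank_of_lt hlt
  have h2 := Submodule.finrank_le (LinearMap.ker ((h : V →ₗ[F] V) - LinearMap.id))
  simp only [fixCodim]
  omega

end Cfsg.Agent.ClassicalSimple
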