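import Cfsg.Agent.Lib.ClassicalSimple.Iwasawa
import Cfsg.Agent.Lib.ClassicalSimple.Linear
import Cfsg.Agent.Lib.Forms.Isom

/-!
The isometry group of a nondegenerate alternating form on a finite-dimensional space over any
field: transvections, transitivity, generation, centre, perfectness, simplicity modulo centre.
-/

namespace Cfsg.Agent.ClassicalSimple

open scoped commutatorElement

variable {F V : Type*} [Field F] [AddCommGroup V] [Module F V]

/-- The isometry group of a bilinear form. -/
abbrev SpB (B : LinearMap.BilinForm F V) : Subgroup (V ≃ₗ[F] V) :=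
  Forms.isom F fun x y => B x y

variable {B : LinearMap.BilinForm F V}

theorem smul_eq_apply (g : SpB B) (x : V) : g • x = (g : V ≃ₗ[F] V) x := rfl

theorem SpB.ext' {g h : SpB B} (e : ∀ x : V, g • x = h • x) : g = h :=
  Subtype.ext (LinearEquiv.ext e)

theorem form_smul (g : SpB B) (x y : V) : B (g • x) (g • y) = B x y := g.2 x y

variable (hA : LinearMap.IsAlt B)
include hA

theorem spTransv_aux (v : V) (c : F) : (c • (LinearMap.flip B v)) v = 0 := by
  simp [hA.self_eq_zero v]

/-- The symplectic transvection `x ↦ x + c B(x, v) v`. -/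
def spTransv (v : V) (c : F) : SpB B :=
  ⟨LinearEquiv.transvection (spTransv_aux hA v c), fun x y => by
    simp only [LinearEquiv.transvection.apply, LinearMap.smul_apply, LinearMap.flip_apply,
      smul_eq_mul, map_add, map_smul, LinearMap.add_apply, LinearMap.smul_apply]
    rw [hA.self_eq_zero v, ← LinearMap.IsAlt.neg hA y v]
    ring⟩

@[simp]
theorem spTransv_smul (v : V) (c : F) (x : V) :
    spTransv hA v c • x = x + (c * B x v) • v := by
  simp [spTransv, smul_eq_apply, LinearMap.transvection.apply]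

theorem spTransv_add (v : V) (c d : F) :
    spTransv hA v c * spTransv hA v d = spTransv hA v (c + d) := by
  refine SpB.ext' fun x => ?_
  simp only [mul_smul, spTransv_smul, map_add, map_smul, LinearMap.add_apply,
    LinearMap.smul_apply, hA.self_eq_zero, smul_eq_mul, mul_zero, add_zero, mul_add]
  module

theorem spTransv_zero (v : V) : spTransv hA v 0 = 1 :=
  SpB.ext' fun x => by simp

theorem spTransv_scale (v : V) (a c : F) : spTransv hA (a • v) c = spTransv hA v (a * a * c) :=
  SpB.ext' fun x => by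
    simp only [spTransv_smul, map_smul, smul_eq_mul, smul_smul]
    ring_nf

theorem spTransv_conj (g : SpB B) (v : V) (c : F) :
    g * spTransv hA v c * g⁻¹ = spTransv hA (g • v) c := by
  refine SpB.ext' fun x => ?_
  have h1 : B (g⁻¹ • x) v = B x (g • v) := by
    rw [← form_smul g, smul_inv_smul]
  rw [mul_smul, mul_smul, spTransv_smul, spTransv_smul, h1, smul_add, smul_inv_smul, smul_comm g]

/-- The root group of `v`. -/
def spRoot (v : V) : Subgroup (SpB B) where
  carrier := Set.range (spTransv hA v)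
  mul_mem' := by rintro _ _ ⟨c, rfl⟩ ⟨d, rfl⟩; exact ⟨c + d, (spTransv_add hA v c d).symm⟩
  one_mem' := ⟨0, spTransv_zero hA v⟩
  inv_mem' := by
    rintro _ ⟨c, rfl⟩
    refine ⟨-c, eq_inv_of_mul_eq_one_left ?_⟩
    rw [spTransv_add, neg_add_cancel, spTransv_zero]

/-- The subgroup generated by the transvections. -/
def spTransvGroup : Subgroup (SpB B) :=
  Subgroup.closure (Set.range fun p : V × F => spTransv hA p.1 p.2)

theorem spTransv_mem (v : V) (c : F) : spTransv hA v c ∈ spTransvGroup hA :=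
  Subgroup.subset_closure ⟨(v, c), rfl⟩

/-- If `B v w ≠ 0` a transvection carries `v` to `w`, fixing everything orthogonal to `w - v`. -/
theorem exists_transv_map {v w : V} (h : B v w ≠ 0) :
    ∃ g ∈ spTransvGroup hA, g • v = w ∧ ∀ x, B x (w - v) = 0 → g • x = x := by
  refine ⟨spTransv hA (w - v) (B v w)⁻¹, spTransv_mem hA _ _, ?_, fun x hx => by simp [hx]⟩
  rw [spTransv_smul, map_sub, hA.self_eq_zero, sub_zero, inv_mul_cancel₀ h, one_smul,
    add_sub_cancel]

variable (hN : B.Nondegenerate)
include hN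

omit hA in
theorem exists_B_ne_zero {v : V} (hv : v ≠ 0) : ∃ y, B v y ≠ 0 := by
  by_contra h
  push Not at h
  exact hv (hN.1 v h)

omit hA in
theorem linearIndependent_B {ι : Type*} {v : ι → V} (hv : LinearIndependent F v) :
    LinearIndependent F fun i => B (v i) :=
  hv.map' B (LinearMap.ker_eq_bot'.2 fun m hm => hN.1 m fun y => by rw [hm]; rfl)

omit hA in
/-- Values of `B u ·` and `B v ·` are independent when `u`, `v` are. -/
theorem exists_B_pair {u v : V} (h : LinearIndependent F ![u, v]) (a b : F) :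
    ∃ y, B u y = a ∧ B v y = b := by
  obtain ⟨y, hy⟩ := exists_eval_eq _ (linearIndependent_B hN h) ![a, b]
  exact ⟨y, hy 0, hy 1⟩

omit hA in
/-- A common non-orthogonal vector inside `u^⊥`. -/
theorem exists_B_ne_ne {u v w : V} (hv : LinearIndependent F ![u, v])
    (hw : LinearIndependent F ![u, w]) : ∃ y, B u y = 0 ∧ B v y ≠ 0 ∧ B w y ≠ 0 := by
  obtain ⟨y₁, h₁, h₁'⟩ := exists_B_pair hN hv 0 1
  obtain ⟨y₂, h₂, h₂'⟩ := exists_B_pair hN hw 0 1
  by_cases hw1 : B w y₁ = 0
  · by_cases hv2 : B v y₂ = 0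
    · exact ⟨y₁ + y₂, by simp [h₁, h₂], by simp [h₁', hv2], by simp [hw1, h₂']⟩
    · exact ⟨y₂, h₂, hv2, by simp [h₂']⟩
  · exact ⟨y₁, h₁, by simp [h₁'], hw1⟩

omit hA in
theorem exists_B_ne_ne' {v w : V} (hv : v ≠ 0) (hw : w ≠ 0) :
    ∃ y, B v y ≠ 0 ∧ B w y ≠ 0 := by
  obtain ⟨y₁, h₁⟩ := exists_B_ne_zero hN hv
  obtain ⟨y₂, h₂⟩ := exists_B_ne_zero hN hw
  by_cases hw1 : B w y₁ = 0
  · by_cases hv2 : B v y₂ = 0
    · exact ⟨y₁ + y₂, by simp [h₁, hv2], by simp [hw1, h₂]⟩
    · exact ⟨y₂, hv2, h₂⟩
  · exact ⟨y₁, h₁, hw1⟩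

theorem transvGroup_trans_vec {v w : V} (hv : v ≠ 0) (hw : w ≠ 0) :
    ∃ g ∈ spTransvGroup hA, g • v = w := by
  obtain ⟨y, h1, h2⟩ := exists_B_ne_ne' hN hv hw
  obtain ⟨g, hg, hgv, -⟩ := exists_transv_map hA h1
  obtain ⟨g', hg', hgy, -⟩ := exists_transv_map hA (v := y) (w := w)
    (fun h => h2 (hA.isRefl y w h))
  exact ⟨g' * g, mul_mem hg' hg, by rw [mul_smul, hgv, hgy]⟩

omit hN in
/-- The stabiliser of `u` is transitive on the vectors pairing to a fixed non-zero value. -/
theorem transvGroup_trans_pairing {u v w : V} {a : F} (ha : a ≠ 0) (hv : B u v = a)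
    (hw : B u w = a) : ∃ g ∈ spTransvGroup hA, g • u = u ∧ g • v = w := by
  by_cases h : B v w = 0
  · have h1 : B v (u + v) ≠ 0 := by
      rw [map_add, hA.self_eq_zero, add_zero, ← LinearMap.IsAlt.neg hA u v, hv]
      simpa using ha
    have h2 : B (u + v) w ≠ 0 := by simp [hw, h, ha]
    obtain ⟨g, hg, hgv, hgu⟩ := exists_transv_map hA h1
    obtain ⟨g', hg', hgw, hgu'⟩ := exists_transv_map hA h2
    refine ⟨g' * g, mul_mem hg' hg, ?_, by rw [mul_smul, hgv, hgw]⟩
    rw [mul_smul, hgu u (by simp [hA.self_eq_zero]), hgu' u ?_]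
    simp [hA.self_eq_zero, hv, hw]
  · obtain ⟨g, hg, hgv, hgu⟩ := exists_transv_map hA h
    exact ⟨g, hg, hgu u (by simp [hv, hw]), hgv⟩

/-- Transvections act transitively on hyperbolic pairs. -/
theorem transvGroup_trans_pair {u v u' v' : V} (h : B u v = 1) (h' : B u' v' = 1) :
    ∃ g ∈ spTransvGroup hA, g • u = u' ∧ g • v = v' := by
  have hu : u ≠ 0 := by rintro rfl; simp at h
  have hu' : u' ≠ 0 := by rintro rfl; simp at h'
  obtain ⟨g, hg, hgu⟩ := transvGroup_trans_vec hA hN hu hu'
  have hg1 : B u' (g • v) = 1 := by rw [← hgu, form_smul, h]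
  obtain ⟨k, hk, hku, hkv⟩ := transvGroup_trans_pairing hA one_ne_zero hg1 h'
  exact ⟨k * g, mul_mem hk hg, by rw [mul_smul, hgu, hku], by rw [mul_smul, hkv]⟩

/-- The symplectic group is generated by transvections. -/
theorem transvGroup_eq_top [FiniteDimensional F V] : spTransvGroup hA = ⊤ := by
  suffices h : ∀ n, ∀ g : SpB B, fixCodim (g : V ≃ₗ[F] V) ≤ n → g ∈ spTransvGroup hA from
    eq_top_iff.2 fun g _ => h _ g le_rfl
  intro n
  induction n using Nat.strong_induction_on with
  | _ n ih =>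
  intro g hg
  have finish : ∀ (k : SpB B), k ∈ spTransvGroup hA → (∃ x : V, (k * g) • x = x ∧ g • x ≠ x) →
      (∀ y : V, g • y = y → k • y = y) → g ∈ spTransvGroup hA := by
    rintro k hk ⟨x, hx, hgx⟩ hfix
    have hlt : fixCodim ((k * g : SpB B) : V ≃ₗ[F] V) < fixCodim (g : V ≃ₗ[F] V) :=
      fixCodim_lt (fun y hy => by
        rw [← smul_eq_apply] at hy ⊢
        rw [mul_smul, hy, hfix y hy]) hx hgx
    have := ih _ (lt_of_lt_of_le hlt hg) _ le_rfl
    simpa using mul_mem (inv_mem hk) this
  have hperp : ∀ y z, g • y = y → B y (g • z - z) = 0 := fun y z hy => by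
    rw [map_sub]
    nth_rw 1 [← hy]
    rw [form_smul, sub_self]
  by_cases h : ∃ x, B (g • x) x ≠ 0
  · obtain ⟨x, hx⟩ := h
    obtain ⟨k, hk, hkx, hk'⟩ := exists_transv_map hA hx
    refine finish k hk ⟨x, by rw [mul_smul, hkx], fun e => hx (by rw [e, hA.self_eq_zero])⟩
      fun y hy => hk' y ?_
    rw [← neg_sub, map_neg, hperp y x hy, neg_zero]
  push Not at h
  by_cases hg1 : ∀ z : V, g • z = z
  · rw [show g = 1 from SpB.ext' fun z => by rw [hg1 z, one_smul]]
    exact one_mem _
  push Not at hg1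
  obtain ⟨z, hz⟩ := hg1
  set a := g • z - z
  have ha : a ≠ 0 := sub_ne_zero.2 hz
  -- a vector `x` with `B (g x) a ≠ 0` and `B a x ≠ 0`
  obtain ⟨x, hx1, hx2⟩ := exists_B_ne_ne' hN (v := g⁻¹ • a) (w := a)
    (fun e => ha ((smul_eq_zero_iff_eq _).1 e)) ha
  have hx1' : B (g • x) a ≠ 0 := by
    rw [← smul_inv_smul g a, form_smul]
    exact fun e => hx1 (hA.isRefl _ _ e)
  set k := spTransv hA a 1
  have hkfix : ∀ y : V, g • y = y → k • y = y := fun y hy => by simp [k, a, hperp y z hy]
  have hne : B ((k * g) • x) x ≠ 0 := by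
    simp [k, mul_smul, h, hx1', hx2]
  obtain ⟨l, hl, hlx, hl'⟩ := exists_transv_map hA hne
  refine finish (l * k) (mul_mem hl (spTransv_mem hA _ _))
    ⟨x, by rw [mul_assoc, mul_smul, hlx], ?_⟩ fun y hy => ?_
  · intro e
    apply hne
    rw [mul_smul, e, hkfix x e, hA.self_eq_zero]
  · rw [mul_smul, hkfix y hy]
    refine hl' y ?_
    have e1 : B y ((k * g) • x - g • x) = 0 := by
      simp [k, a, mul_smul, hperp y z hy]
    have e2 : B y x = B y (g • x) := by
      have := hperp y x hy
      rw [map_sub, sub_eq_zero] at this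
      exact this.symm
    rw [map_sub] at e1 ⊢
    linear_combination e2 - e1

theorem spRoot_iSup_eq_top [FiniteDimensional F V] :
    ⨆ v, ⨆ (_ : v ≠ 0), spRoot hA v = ⊤ := by
  rw [eq_top_iff, ← transvGroup_eq_top hA hN, spTransvGroup, Subgroup.closure_le]
  rintro _ ⟨⟨v, c⟩, rfl⟩
  by_cases hv : v = 0
  · change spTransv hA v c ∈ _
    rw [show spTransv hA v c = 1 from SpB.ext' fun x => by simp [hv]]
    exact one_mem _
  · exact Subgroup.mem_iSup_of_mem v (Subgroup.mem_iSup_of_mem hv ⟨c, rfl⟩)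

theorem sp_pointGeom : PointGeom F (SpB B) (fun v : V => v ≠ 0) (fun v w => B v w = 0) where
  ne_zero h := h
  map_S g _ h := fun e => h ((smul_eq_zero_iff_eq g).1 e)
  O_symm h := hA.isRefl _ _ h
  trans hv hw := by
    obtain ⟨g, -, hg⟩ := transvGroup_trans_vec hA hN hv hw
    exact ⟨g, 1, by rw [one_smul, hg]⟩
  trans_nonorth := by
    intro u v w _ _ _ hv hw
    obtain ⟨g, -, hgu, hgv⟩ := transvGroup_trans_pairing hA (u := u) (v := (B u v)⁻¹ • v)
      (w := (B u w)⁻¹ • w) one_ne_zero (by simp [hv]) (by simp [hw])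
    refine ⟨g, ⟨1, by rw [one_smul, hgu]⟩, B u v * (B u w)⁻¹, ?_⟩
    rw [mul_smul, ← hgv, ← smul_comm g, smul_inv_smul₀ hv]
  trans_orth := by
    intro u v w hu hv hw huv huw hlv hlw
    have i1 : LinearIndependent F ![u, v] :=
      (LinearIndependent.pair_iff' hu).2 fun a e => hlv ⟨a, e⟩
    have i2 : LinearIndependent F ![u, w] :=
      (LinearIndependent.pair_iff' hu).2 fun a e => hlw ⟨a, e⟩
    obtain ⟨y, hy, hy1, hy2⟩ := exists_B_ne_ne hN i1 i2
    obtain ⟨g, -, hgv, hg⟩ := exists_transv_map hA hy1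
    obtain ⟨g', -, hgw, hg'⟩ := exists_transv_map hA (v := y) (w := w)
      (fun e => hy2 (hA.isRefl _ _ e))
    refine ⟨g' * g, ⟨1, ?_⟩, 1, by rw [one_smul, mul_smul, hgv, hgw]⟩
    rw [one_smul, mul_smul, hg u (by simp [hy, huv]), hg' u (by simp [hy, huw])]
  exists_nonorth hu hv := by
    obtain ⟨y, h1, h2⟩ := exists_B_ne_ne' hN hu hv
    exact ⟨y, fun e => h1 (by simp [e]), h1, fun e => h2 (hA.isRefl _ _ e)⟩
  exists_orth := by
    intro u v d _ _ huv _ hud hld
    refine ⟨d - (B d v / B u v) • u, fun e => hld ⟨_, (sub_eq_zero.1 e).symm⟩, ?_, ?_, ?_⟩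
    · simp [hud, hA.self_eq_zero]
    · simp [huv]
    · rintro ⟨a, ha⟩
      exact hld ⟨a + B d v / B u v, by rw [add_smul, ha, sub_add_cancel]⟩

/-- Only scalars fix every line. -/
theorem exists_scalar_of_sameLine [Nontrivial V] (g : SpB B)
    (h : ∀ v : V, v ≠ 0 → SameLine F v (g • v)) : ∃ a : F, a * a = 1 ∧ ∀ x : V, g • x = a • x := by
  obtain ⟨a, ha⟩ := exists_eq_smul_of_forall_line (g : V ≃ₗ[F] V).toLinearMap h
  refine ⟨a, ?_, ha⟩
  obtain ⟨v, hv⟩ := exists_ne (0 : V)
  obtain ⟨y, hy⟩ := exists_B_ne_zero hN hv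
  have e := form_smul g v y
  rw [show g • v = a • v from ha v, show g • y = a • y from ha y] at e
  simp only [map_smul, LinearMap.smul_apply, smul_eq_mul] at e
  refine mul_right_cancel₀ hy ?_
  rw [one_mul, mul_assoc]
  exact e

theorem mem_center_of_sameLine (g : SpB B)
    (h : ∀ v : V, v ≠ 0 → SameLine F v (g • v)) : g ∈ Subgroup.center (SpB B) := by
  obtain ⟨a, ha⟩ := exists_eq_smul_of_forall_line (g : V ≃ₗ[F] V).toLinearMap h
  refine Subgroup.mem_center_iff.2 fun k => SpB.ext' fun x => ?_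
  rw [mul_smul, mul_smul, show g • x = a • x from ha x, show g • k • x = a • k • x from ha _,
    smul_comm]

/-- An element commuting with all transvections fixes every line. -/
theorem symp_sameLine_of_commute (g : SpB B) (h : ∀ v c, Commute g (spTransv hA v c))
    (v : V) (hv : v ≠ 0) : SameLine F v (g • v) := by
  have hg : spTransv hA (g • v) 1 = spTransv hA v 1 := by
    rw [← spTransv_conj, (h v 1).eq, mul_inv_cancel_right]
  obtain ⟨y, hy⟩ := exists_B_ne_zero hN (v := g • v) fun e => hv ((smul_eq_zero_iff_eq g).1 e)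
  have e := congrArg (fun k : SpB B => k • y) hg
  simp only [spTransv_smul, one_mul, add_right_inj] at e
  have hy' : B y (g • v) ≠ 0 := fun e' => hy (hA.isRefl _ _ e')
  exact ⟨(B y (g • v))⁻¹ * B y v, by rw [mul_smul, ← e, inv_smul_smul₀ hy']⟩

theorem mem_center_iff_scalar [Nontrivial V] (g : SpB B) :
    g ∈ Subgroup.center (SpB B) ↔ ∃ a : F, a * a = 1 ∧ ∀ x : V, g • x = a • x := by
  refine ⟨fun hg => exists_scalar_of_sameLine hA hN g (symp_sameLine_of_commute hA hN g
    fun v c => (Subgroup.mem_center_iff.1 hg _).symm), ?_⟩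
  rintro ⟨a, -, ha⟩
  exact mem_center_of_sameLine hA hN g fun v _ => ⟨a, (ha v).symm⟩

section Perfect

variable [FiniteDimensional F V]

/-- The symplectic group is perfect: `|F| > 3`, or dimension at least 6, or dimension at least 4
and odd characteristic. -/
theorem sp_commutator_eq_top (hcase : (∃ a : F, a ≠ 0 ∧ a * a ≠ 1) ∨ 5 ≤ Module.finrank F V ∨
    (3 ≤ Module.finrank F V ∧ (2 : F) ≠ 0)) :
    commutator (SpB B) = ⊤ := by
  classical
  let q : SpB B →* Abelianization (SpB B) := Abelianization.of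
  suffices key : ∀ v c, q (spTransv hA v c) = 1 by
    rw [eq_top_iff, ← transvGroup_eq_top hA hN, spTransvGroup, Subgroup.closure_le]
    rintro _ ⟨⟨v, c⟩, rfl⟩
    rw [SetLike.mem_coe, ← Abelianization.ker_of]
    exact key v c
  intro v c
  by_cases hv : v = 0
  · rw [show spTransv hA v c = 1 from SpB.ext' fun x => by simp [hv], map_one]
  -- all transvections with one parameter are conjugate
  have same : ∀ {w z : V} (d : F), w ≠ 0 → z ≠ 0 →
      q (spTransv hA w d) = q (spTransv hA z d) := by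
    intro w z d hw hz
    obtain ⟨g, -, hg⟩ := transvGroup_trans_vec hA hN hw hz
    rw [← hg, ← spTransv_conj, map_mul, map_mul, map_inv, mul_inv_cancel_comm]
  rcases hcase with ⟨a, ha, ha1⟩ | hdim | ⟨hdim, h2⟩
  · have e : a * a - 1 ≠ 0 := sub_ne_zero.2 ha1
    have h := same (w := a • v) (z := v) (c / (a * a - 1)) (smul_ne_zero ha hv) hv
    have e2 : a * a * (c / (a * a - 1)) = c + c / (a * a - 1) := by
      rw [div_eq_mul_inv]
      linear_combination c * mul_inv_cancel₀ e
    rw [spTransv_scale, e2, ← spTransv_add, map_mul] at h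
    simpa using h
  · -- three independent mutually orthogonal vectors
    obtain ⟨w, hw, hwl⟩ := exists_forall_eq_zero_notMem ![B v] (Submodule.span F (Set.range ![v]))
      (by
        have := finrank_range_le_card (R := F) ![v]
        simp only [Set.finrank, Fintype.card_fin] at this ⊢
        omega)
    obtain ⟨z, hz, hzl⟩ := exists_forall_eq_zero_notMem ![B v, B w]
      (Submodule.span F (Set.range ![v, w]))
      (by
        have := finrank_range_le_card (R := F) ![v, w]
        simp only [Set.finrank, Fintype.card_fin] at this ⊢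
        omega)
    simp only [Fin.forall_fin_one, Fin.forall_fin_two, Matrix.cons_val_zero,
      Matrix.cons_val_one, Matrix.cons_val_fin_one] at hw hz
    simp only [Matrix.range_cons, Matrix.range_empty, Set.union_empty,
      Set.singleton_union] at hwl hzl
    rw [Submodule.mem_span_singleton] at hwl
    rw [Submodule.mem_span_pair] at hzl
    push Not at hwl hzl
    have n1 : w ≠ 0 := fun e => hwl 0 (by simp [e])
    have n2 : z ≠ 0 := fun e => hzl 0 0 (by simp [e])
    have n3 : v + w ≠ 0 := fun e => hwl (-1) (by rw [neg_one_smul]; exact neg_eq_of_add_eq_zero_right e)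
    have n4 : v + z ≠ 0 := fun e => hzl (-1) 0 (by
      rw [neg_one_smul, zero_smul, add_zero]; exact neg_eq_of_add_eq_zero_right e)
    have n5 : w + z ≠ 0 := fun e => hzl 0 (-1) (by
      rw [neg_one_smul, zero_smul, zero_add]; exact neg_eq_of_add_eq_zero_right e)
    have n6 : v + w + z ≠ 0 := fun e => hzl (-1) (-1) (by
      rw [neg_one_smul, neg_one_smul, ← neg_add]; exact neg_eq_of_add_eq_zero_right e)
    have wv := hA.isRefl _ _ hw
    have zv := hA.isRefl _ _ hz.1
    have zw := hA.isRefl _ _ hz.2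
    have rel : spTransv hA (v + w + z) c * spTransv hA v c * spTransv hA w c * spTransv hA z c =
        spTransv hA (v + w) c * spTransv hA (v + z) c * spTransv hA (w + z) c := by
      refine SpB.ext' fun x => ?_
      simp only [mul_smul, spTransv_smul, map_add, map_smul, LinearMap.add_apply,
        LinearMap.smul_apply, hA.self_eq_zero, hw, wv, hz.1, zv, hz.2, zw, smul_eq_mul,
        mul_zero, add_zero]
      module
    have h := congrArg q rel
    simp only [map_mul, same c n6 hv, same c n3 hv, same c n4 hv, same c n5 hv, same c n1 hv,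
      same c n2 hv, mul_assoc] at h
    simpa using mul_left_cancel (mul_left_cancel h)
  · -- two orthogonal vectors in odd characteristic
    obtain ⟨w, hw, hwl⟩ := exists_forall_eq_zero_notMem ![B v] (Submodule.span F (Set.range ![v]))
      (by
        have := finrank_range_le_card (R := F) ![v]
        simp only [Set.finrank, Fintype.card_fin] at this ⊢
        omega)
    simp only [Fin.forall_fin_one, Matrix.cons_val_fin_one] at hw
    simp only [Matrix.range_cons, Matrix.range_empty, Set.union_empty] at hwl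
    rw [Submodule.mem_span_singleton] at hwl
    push Not at hwl
    have wv := hA.isRefl _ _ hw
    set t : F := 1 / 2
    have n1 : w ≠ 0 := fun e => hwl 0 (by simp [e])
    have n2 : v + w ≠ 0 := fun e => hwl (-1) (by rw [neg_one_smul]; exact neg_eq_of_add_eq_zero_right e)
    have n3 : w + t • v ≠ 0 := fun e => hwl (-t) (by rw [neg_smul]; exact neg_eq_of_add_eq_zero_left e)
    have n4 : v + w + t • v ≠ 0 := fun e => hwl (-1 - t) (by
      rw [sub_smul, neg_one_smul, ← neg_eq_iff_add_eq_zero.2 e]; module)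
    have rel : spTransv hA (v + w + t • v) c * spTransv hA w c =
        spTransv hA (v + w) c * spTransv hA (w + t • v) c * spTransv hA v c := by
      refine SpB.ext' fun x => ?_
      have ht : 2 * t = 1 := by simp [t, h2]
      simp only [mul_smul, spTransv_smul, map_add, map_smul, LinearMap.add_apply,
        LinearMap.smul_apply, hA.self_eq_zero, hw, wv, smul_eq_mul, mul_zero, add_zero]
      match_scalars <;> first | ring1 | linear_combination c * B x v * ht
    have h := congrArg q rel
    simp only [map_mul, same c n4 hv, same c n1 hv, same c n2 hv, same c n3 hv, mul_eq_left,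
      left_eq_mul] at h
    exact h

/-- Every normal subgroup is central or everything, given perfectness. -/
theorem sp_normal_eq_top_or_le_center (hperf : commutator (SpB B) = ⊤) (N : Subgroup (SpB B))
    [N.Normal] : N = ⊤ ∨ N ≤ Subgroup.center (SpB B) := by
  refine normal_eq_top_or_le_center (sp_pointGeom hA hN) hperf (spRoot hA) (fun {v} _ => ?_)
    (fun {v w} _ h hw => ?_) (fun g {v x} _ hx => ?_) (spRoot_iSup_eq_top hA hN)
    (fun g hg => mem_center_of_sameLine hA hN g hg) N
  · refine Group.isSolvable_of_comm ?_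
    rintro ⟨_, c, rfl⟩ ⟨_, d, rfl⟩
    exact Subtype.ext (by simp [spTransv_add, add_comm])
  · obtain ⟨a, rfl⟩ := h
    have ha : a ≠ 0 := left_ne_zero_of_smul hw
    ext g
    constructor
    · rintro ⟨c, rfl⟩
      exact ⟨(a * a)⁻¹ * c, by rw [spTransv_scale, mul_inv_cancel_left₀ (mul_ne_zero ha ha)]⟩
    · rintro ⟨c, rfl⟩
      exact ⟨a * a * c, (spTransv_scale hA v a c).symm⟩
  · obtain ⟨c, rfl⟩ := hx
    exact ⟨c, (spTransv_conj hA g v c).symm⟩

theorem sp_isSimpleGroup [Nontrivial V] (hperf : commutator (SpB B) = ⊤) :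
    IsSimpleGroup (SpB B ⧸ Subgroup.center (SpB B)) := by
  refine isSimpleGroup_quotient_center hperf ?_
    fun N hN' => sp_normal_eq_top_or_le_center hA hN hperf N
  obtain ⟨v, hv⟩ := exists_ne (0 : V)
  obtain ⟨y, hy⟩ := exists_B_ne_zero hN hv
  refine ⟨⟨spTransv hA v 1, 1, fun e => ?_⟩⟩
  have := congrArg (fun k : SpB B => k • y) e
  simp only [spTransv_smul, one_smul, one_mul, add_eq_left, smul_eq_zero, hv, or_false] at this
  exact hy (hA.isRefl _ _ this)

end Perfect

end Cfsg.Agent.ClassicalSimple
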