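import Cfsg.Agent.Lib.ClassicalSimple.Unitary

/-!
`SU(h)` over a finite field, dimension at least 3: equal to the root group, perfect (except
dimension 3 over F₄), every transvection a commutator, simple modulo its centre.
-/

namespace Cfsg.Agent.ClassicalSimple

open scoped commutatorElement

variable {F V : Type*} [Field F] [AddCommGroup V] [Module F V]
variable {σ : F →+* F} {h : V →ₛₗ[σ] V →ₗ[F] F}
variable (hh : IsUnitaryForm σ h) [FiniteDimensional F V]
include hh

theorem exists_h_ne_zero {v : V} (hv : v ≠ 0) : ∃ y, h v y ≠ 0 := by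
  by_contra hc
  push Not at hc
  exact hv (hh.sep v hc)

theorem exists_h_pair {u v : V} (hi : LinearIndependent F ![u, v]) (a b : F) :
    ∃ y, h u y = a ∧ h v y = b := by
  obtain ⟨y, hy⟩ := exists_eval_eq _ (linearIndependent_h hh hi) ![a, b]
  exact ⟨y, hy 0, hy 1⟩

theorem exists_h_ne_ne {u v w : V} (hv : LinearIndependent F ![u, v])
    (hw : LinearIndependent F ![u, w]) : ∃ y, h u y = 0 ∧ h v y ≠ 0 ∧ h w y ≠ 0 := by
  obtain ⟨y₁, h₁, h₁'⟩ := exists_h_pair hh hv 0 1
  obtain ⟨y₂, h₂, h₂'⟩ := exists_h_pair hh hw 0 1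
  by_cases hw1 : h w y₁ = 0
  · by_cases hv2 : h v y₂ = 0
    · exact ⟨y₁ + y₂, by simp [h₁, h₂], by simp [h₁', hv2], by simp [hw1, h₂']⟩
    · exact ⟨y₂, h₂, hv2, by simp [h₂']⟩
  · exact ⟨y₁, h₁, by simp [h₁'], hw1⟩

theorem exists_h_ne_ne' {v w : V} (hv : v ≠ 0) (hw : w ≠ 0) :
    ∃ y, h v y ≠ 0 ∧ h w y ≠ 0 := by
  obtain ⟨y₁, h₁⟩ := exists_h_ne_zero hh hv
  obtain ⟨y₂, h₂⟩ := exists_h_ne_zero hh hw
  by_cases hw1 : h w y₁ = 0
  · by_cases hv2 : h v y₂ = 0
    · exact ⟨y₁ + y₂, by simp [h₁, hv2], by simp [hw1, h₂]⟩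
    · exact ⟨y₂, hv2, h₂⟩
  · exact ⟨y₁, h₁, hw1⟩

/-- A vector orthogonal to the `e i` outside their span gives an anisotropic such vector. -/
theorem exists_aniso_perp {k : ℕ} (e : Fin k → V) (he : LinearIndependent F e) {y₀ : V}
    (hy₀ : ∀ i, h (e i) y₀ = 0) (hy₀' : y₀ ∉ Submodule.span F (Set.range e)) :
    ∃ y, (∀ i, h (e i) y = 0) ∧ h y y ≠ 0 := by
  by_cases hq : h y₀ y₀ = 0
  swap
  · exact ⟨y₀, hy₀, hq⟩
  have hi : LinearIndependent F (Fin.cons y₀ e) := linearIndependent_finCons.2 ⟨he, hy₀'⟩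
  obtain ⟨y, hy⟩ := exists_eval_eq _ (linearIndependent_h hh hi) (Fin.cons 1 0)
  have y0 : h y₀ y = 1 := hy 0
  have ye : ∀ i, h (e i) y = 0 := fun i => hy i.succ
  obtain ⟨d, hd⟩ := hh.exists_trace_one
  by_cases hqy : h y y = 0
  · refine ⟨y + d • y₀, fun i => by simp [ye, hy₀], ?_⟩
    have h1 : h y y₀ = 1 := by rw [hh.swap, y0, map_one]
    simp [hqy, hq, y0, h1, hd]
  · exact ⟨y, ye, hqy⟩

/-- An anisotropic vector orthogonal to a non-orthogonal isotropic pair. -/
theorem exists_aniso_perp_pair (h3 : 3 ≤ Module.finrank F V) {v v' : V} (hv : h v v = 0)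
    (hv' : h v' v' = 0) (hb : h v v' ≠ 0) : ∃ w, h v w = 0 ∧ h v' w = 0 ∧ h w w ≠ 0 := by
  have hi : LinearIndependent F ![v, v'] := by
    rw [LinearIndependent.pair_iff]
    intro a b hab
    have e1 := congrArg (h v) hab
    have e2 := congrArg (h v') hab
    simp [hv, hv', hb, (show h v' v ≠ 0 from fun e => hb (hh.comm_zero e))] at e1 e2
    exact ⟨e2, e1⟩
  obtain ⟨y₀, hy₀, hy₀0⟩ := exists_forall_eq_zero_notMem ![h v, h v'] (⊥ : Submodule F V)
    (by rw [finrank_bot, Fintype.card_fin]; omega)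
  obtain ⟨w, hw, hww⟩ := exists_aniso_perp hh ![v, v'] hi (y₀ := y₀)
    (by intro i; fin_cases i; exacts [hy₀ 0, hy₀ 1]) (by
      rw [Matrix.range_cons_cons_empty, Submodule.mem_span_pair]
      rintro ⟨a, b, rfl⟩
      have e1 : h v (a • v + b • v') = 0 := hy₀ 0
      have e2 : h v' (a • v + b • v') = 0 := hy₀ 1
      simp [hv, hv', hb, (show h v' v ≠ 0 from fun e => hb (hh.comm_zero e))] at e1 e2
      exact hy₀0 (by simp [e1, e2]))
  exact ⟨w, hw 0, hw 1, hww⟩

/-- An isotropic vector with prescribed pairing. -/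
theorem exists_isotropic_partner {u : V} (hu : h u u = 0) (hu0 : u ≠ 0) :
    ∃ v, h v v = 0 ∧ h u v = 1 := by
  obtain ⟨y₁, hy₁⟩ := exists_h_ne_zero hh hu0
  obtain ⟨y, hy⟩ : ∃ y, h u y = 1 :=
    ⟨(h u y₁)⁻¹ • y₁, by rw [map_smul, smul_eq_mul, inv_mul_cancel₀ hy₁]⟩
  have hyu : h y u = 1 := by rw [hh.swap, hy, map_one]
  obtain ⟨d, hd⟩ := hh.exists_trace_one
  refine ⟨y + (-(d * h y y)) • u, ?_, by simp [hu, hy]⟩
  simp only [map_add, map_smulₛₗ, LinearMap.add_apply, LinearMap.smul_apply, smul_eq_mul,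
    RingHom.id_apply, hu, hy, hyu, map_neg, map_mul, hh.σ_self]
  linear_combination -(h y y) * hd

variable [Finite F] (h3 : 3 ≤ Module.finrank F V)
include h3

theorem exists_isotropic : ∃ s : V, s ≠ 0 ∧ h s s = 0 := by
  obtain ⟨a, -, ha⟩ := exists_forall_eq_zero_notMem (![] : Fin 0 → Module.Dual F V)
    (⊥ : Submodule F V) (by rw [finrank_bot, Fintype.card_fin]; omega)
  rw [Submodule.mem_bot] at ha
  by_cases hqa : h a a = 0
  · exact ⟨a, ha, hqa⟩
  obtain ⟨b, hb, hb0⟩ := exists_forall_eq_zero_notMem ![h a] (⊥ : Submodule F V)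
    (by rw [finrank_bot, Fintype.card_fin]; omega)
  rw [Submodule.mem_bot] at hb0
  have hab : h a b = 0 := hb 0
  by_cases hqb : h b b = 0
  · exact ⟨b, hb0, hqb⟩
  obtain ⟨r, hr⟩ := hh.exists_norm_eq (c := -h a a / h b b) (by
    rw [map_div₀, map_neg, hh.σ_self, hh.σ_self])
  refine ⟨a + r • b, fun e => hqa ?_, ?_⟩
  · have := congrArg (h a) e
    simpa [hab] using this
  · simp only [map_add, map_smulₛₗ, LinearMap.add_apply, LinearMap.smul_apply, smul_eq_mul,
      RingHom.id_apply, hab, hh.comm_zero hab, mul_zero, add_zero, zero_add, ← mul_assoc]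
    rw [mul_comm r (σ r), hr, div_mul_cancel₀ _ hqb, add_neg_cancel]

theorem exists_isotropic_nonorth {b : V} (hb : b ≠ 0) : ∃ z, h z z = 0 ∧ h b z ≠ 0 := by
  obtain ⟨s, hs0, hs⟩ := exists_isotropic hh h3
  by_cases e : h b s = 0
  swap
  · exact ⟨s, hs, e⟩
  obtain ⟨s', hs', hss'⟩ := exists_isotropic_partner hh hs hs0
  by_cases e' : h b s' = 0
  swap
  · exact ⟨s', hs', e'⟩
  have hs's : h s' s = 1 := by rw [hh.swap, hss', map_one]
  have hi : LinearIndependent F ![b, s, s'] := by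
    rw [Fintype.linearIndependent_iff]
    intro g hg
    have e1 := congrArg (h s) hg
    have e2 := congrArg (h s') hg
    simp [Fin.sum_univ_three, hs, hs', hss', hs's, hh.comm_zero e, hh.comm_zero e'] at e1 e2 hg
    simp [e1, e2, hb] at hg
    simp [Fin.forall_fin_succ, e1, e2, hg]
  obtain ⟨t, ht⟩ := exists_eval_eq _ (linearIndependent_h hh hi) ![1, 0, 0]
  have t0 : h b t = 1 := ht 0
  have t1 : h s t = 0 := ht 1
  have t2 : h s' t = 0 := ht 2
  obtain ⟨d, hd⟩ := hh.exists_trace_one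
  refine ⟨t + s + (-(d * h t t)) • s', ?_, by simp [t0, e, e']⟩
  simp only [map_add, map_smulₛₗ, LinearMap.add_apply, LinearMap.smul_apply, smul_eq_mul,
    RingHom.id_apply, t1, t2, hh.comm_zero t1, hh.comm_zero t2, hs, hs', hss', hs's, map_neg,
    map_mul, hh.σ_self]
  linear_combination -(h t t) * hd

theorem span_isotropic : Submodule.span F {v | h v v = 0} = ⊤ := by
  by_contra hne
  obtain ⟨φ, hφ0, hφ⟩ := Submodule.exists_dual_map_eq_bot_of_lt_top (lt_top_iff_ne_top.2 hne)
    inferInstance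
  obtain ⟨b, hb⟩ := (⟨fun x y => by rw [hh.swap, one_mul], fun x => by
    obtain ⟨d, hd⟩ := hh.exists_trace_one
    exact ⟨d * h x x, by rw [one_mul, map_mul, hh.σ_self]; linear_combination -(h x x) * hd⟩,
    hh.invol, by rw [map_one, one_mul], hh.sep⟩ :
    Forms.IsHermitianPolar σ 1 h).exists_eq φ
  have hb0 : b ≠ 0 := by
    rintro rfl
    exact hφ0 (LinearMap.ext fun x => by rw [← hb]; simp)
  obtain ⟨z, hz, hbz⟩ := exists_isotropic_nonorth hh h3 hb0
  rw [hb] at hbz
  exact hbz ((Submodule.eq_bot_iff _).1 hφ _ ⟨z, Submodule.subset_span hz, rfl⟩)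

omit h3 [Finite F] in
theorem unitary_exists_nonorth {v v' : V} (hv0 : v ≠ 0) (hv'0 : v' ≠ 0) (hv : h v v = 0)
    (hv' : h v' v' = 0) :
    ∃ z, h z z = 0 ∧ h v z ≠ 0 ∧ h v' z ≠ 0 := by
  by_cases hb : h v v' = 0
  · obtain ⟨y, hy, hy'⟩ := exists_h_ne_ne' hh hv0 hv'0
    obtain ⟨d, hd⟩ := hh.exists_trace_one
    refine ⟨y + (-(d * h y y) / h y v) • v, ?_, by simpa [hv] using hy,
      by simpa [hh.comm_zero hb] using hy'⟩
    have hyv : h y v ≠ 0 := fun e => hy (hh.comm_zero e)
    have hyv' : σ (h y v) = h v y := (hh.swap y v).symm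
    simp only [map_add, map_smulₛₗ, LinearMap.add_apply, LinearMap.smul_apply, smul_eq_mul,
      RingHom.id_apply, hv, map_div₀, map_neg, map_mul, hh.σ_self, hyv']
    field_simp
    linear_combination -(h y y * h v y * h y v) * hd
  · obtain ⟨t, ht0, ht⟩ := hh.exists_skew
    refine ⟨v + (t / h v v') • v', ?_, by simp [hv, hb, ht0],
      by simpa [hv'] using fun e => hb (hh.comm_zero e)⟩
    simp only [map_add, map_smulₛₗ, LinearMap.add_apply, LinearMap.smul_apply, smul_eq_mul,
      RingHom.id_apply, hv, hv', map_div₀, hh.swap v v']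
    have : σ (h v v') ≠ 0 := (map_ne_zero σ).2 hb
    field_simp
    linear_combination (σ (h v v') * h v v') * ht

theorem unitary_common_partner {v v' : V} (hv : h v v = 0) (hv' : h v' v' = 0)
    (hb : h v v' ≠ 0) :
    ∃ z, h z z = 0 ∧ h v z = h v v' ∧ h v' z = h v v' := by
  obtain ⟨w₀, hw1, hw2, hw3⟩ := exists_aniso_perp_pair hh h3 hv hv' hb
  obtain ⟨r, hr⟩ := hh.exists_norm_eq (c := -(h v v' + σ (h v v')) / h w₀ w₀) (by
    rw [map_div₀, hh.σ_self, map_neg, map_add, hh.invol, add_comm (σ (h v v'))])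
  have hσb : σ (h v v') ≠ 0 := (map_ne_zero σ).2 hb
  have hr' : σ r * r * h w₀ w₀ = -(h v v' + σ (h v v')) := by
    rw [hr, div_mul_cancel₀ _ hw3]
  refine ⟨r • w₀ + (h v v' / σ (h v v')) • v + v', ?_, by simp [hw1, hv], ?_⟩
  · simp only [map_add, map_smulₛₗ, LinearMap.add_apply, LinearMap.smul_apply, smul_eq_mul,
      RingHom.id_apply, hw1, hw2, hh.comm_zero hw1, hh.comm_zero hw2, hv, hv', hh.swap v v',
      map_div₀, hh.invol]
    field_simp
    linear_combination (σ (h v v') * h v v') * hr'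
  · simp [hw2, hv', hh.swap v v', hσb]

omit h3 [Finite F] in
/-- The root group of `u` is transitive on isotropic vectors pairing to 1 with `u`. -/
theorem exists_uRoot_map {u v v' : V} (hu : h u u = 0) (hv : h v v = 0) (hv' : h v' v' = 0)
    (h1 : h u v = 1) (h2 : h u v' = 1) :
    ∃ g ∈ uRootGroup hh, g • v = v' ∧ ∀ x, h u x = 0 → h (v' - v) x = 0 → g • x = x := by
  have hw : h u (v' - v) = 0 := by rw [map_sub, h1, h2, sub_self]
  have ha : h v' v + σ (h v' v) + h (v' - v) (v' - v) = 0 := by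
    rw [← hh.swap]
    simp only [map_sub, LinearMap.sub_apply, hv, hv']
    ring
  refine ⟨uRootElt hh u (v' - v) _ hu hw ha, uRootElt_mem hh _ _ _, ?_,
    fun x hx hx' => by rw [uRootElt_smul, hx, hx']; simp⟩
  rw [uRootElt_smul, h1, LinearMap.map_sub, LinearMap.sub_apply, hv]
  module

theorem uRoot_trans {v v' : V} (hv0 : v ≠ 0) (hv'0 : v' ≠ 0) (hv : h v v = 0)
    (hv' : h v' v' = 0) : ∃ g ∈ uRootGroup hh, g • v = v' := by
  have step : ∀ a b : V, h a a = 0 → h b b = 0 → h a b ≠ 0 →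
      ∃ g ∈ uRootGroup hh, g • a = b := by
    intro a b ha hb hab
    obtain ⟨z, hz, e1, e2⟩ := unitary_common_partner hh h3 ha hb hab
    have hσ : σ (h a b) ≠ 0 := (map_ne_zero σ).2 hab
    obtain ⟨g, hg, hga, -⟩ := exists_uRoot_map hh (u := (h a b)⁻¹ • z)
      (by simp [hz]) ha hb
      (by simp [hh.swap a z, e1, hσ])
      (by simp [hh.swap b z, e2, hσ])
    exact ⟨g, hg, hga⟩
  obtain ⟨z, hz, h1, h2⟩ := unitary_exists_nonorth hh hv0 hv'0 hv hv'
  obtain ⟨g, hg, hgv⟩ := step v z hv hz h1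
  obtain ⟨g', hg', hgz⟩ := step z v' hz hv' fun e => h2 (hh.comm_zero e)
  exact ⟨g' * g, mul_mem hg' hg, by rw [mul_smul, hgv, hgz]⟩

theorem uRoot_trans_pair {u v u' v' : V} (hu : h u u = 0) (hv : h v v = 0) (hu' : h u' u' = 0)
    (hv' : h v' v' = 0) (e : h u v = 1) (e' : h u' v' = 1) :
    ∃ g ∈ uRootGroup hh, g • u = u' ∧ g • v = v' := by
  obtain ⟨g, hg, hgu⟩ := uRoot_trans hh h3 (v := u) (v' := u') (by rintro rfl; simp at e)
    (by rintro rfl; simp at e') hu hu'
  have e1 : h u' (g • v) = 1 := by rw [← hgu, uh_smul_smul, e]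
  obtain ⟨k, hk, hkv, hk'⟩ := exists_uRoot_map hh hu' (v := g • v) (v' := v')
    (by rw [uh_smul_smul, hv]) hv' e1 e'
  refine ⟨k * g, mul_mem hk hg, ?_, by rw [mul_smul, hkv]⟩
  rw [mul_smul, hgu, hk' u' hu' (hh.comm_zero ?_)]
  rw [map_sub, e', e1, sub_self]

theorem uRoot_trans_norm {b b' : V} (hb : h b b ≠ 0) (e : h b b = h b' b') :
    ∃ g ∈ uRootGroup hh, g • b = b' := by
  obtain ⟨d, hd⟩ := hh.exists_trace_one
  have split : ∀ c : V, h c c ≠ 0 → ∃ u v, h u u = 0 ∧ h v v = 0 ∧ h u v = 1 ∧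
      c = v + (d * h c c) • u := by
    intro c hc
    obtain ⟨z, hz, hcz⟩ := exists_isotropic_nonorth hh h3 (b := c) (by rintro rfl; simp at hc)
    obtain ⟨u, hu, h1⟩ : ∃ u, h u u = 0 ∧ h c u = 1 :=
      ⟨(h c z)⁻¹ • z, by simp [hz], by simp [hcz]⟩
    have h1' : h u c = 1 := by rw [hh.swap, h1, map_one]
    refine ⟨u, c - (d * h c c) • u, hu, ?_, ?_, by rw [sub_add_cancel]⟩
    · simp only [map_sub, map_smulₛₗ, LinearMap.sub_apply, LinearMap.smul_apply, smul_eq_mul,
        RingHom.id_apply, hu, h1, h1', map_mul, hh.σ_self]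
      linear_combination -(h c c) * hd
    · simp [hu, h1']
  obtain ⟨u, v, hu, hv, huv, hb1⟩ := split b hb
  obtain ⟨u', v', hu', hv', huv', hb1'⟩ := split b' (e ▸ hb)
  obtain ⟨g, hg, hgu, hgv⟩ := uRoot_trans_pair hh h3 hu hv hu' hv' huv huv'
  refine ⟨g, hg, ?_⟩
  rw [hb1, hb1', smul_add, hgv, smul_comm g, hgu, e]

/-- `SU` is the root group. -/
theorem SUH_eq_uRootGroup : SUH h = uRootGroup hh := by
  refine le_antisymm ?_ ((Subgroup.closure_le _).2 ?_)
  swap
  · rintro g ⟨u, w, a, hu, hw, ha, rfl⟩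
    exact uRootElt_det hh hu hw ha
  obtain ⟨s, hs0, hs⟩ := exists_isotropic hh h3
  obtain ⟨s', hs', hss'⟩ := exists_isotropic_partner hh hs hs0
  have hs's : h s' s = 1 := by rw [hh.swap, hss', map_one]
  obtain ⟨d, hd⟩ := hh.exists_trace_one
  set e := s' + d • s with he_def
  have he : h e e = 1 := by
    simp [he_def, hs, hs', hss', hs's, hd]
  clear_value e
  have := uRootGroup_normal hh
  set E := uRootGroup hh
  let π := QuotientGroup.mk' E
  let K : Subgroup (UH h) :=
    { carrier := {g | ∃ (c : F) (hc : c + σ c + c * σ c * h e e = 0), g = uDil hh e c hc}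
      one_mem' := ⟨0, by simp, UH.ext' fun x => by simp [uDil_smul]⟩
      mul_mem' := by
        rintro _ _ ⟨c, hc, rfl⟩ ⟨c', hc', rfl⟩
        rw [he, mul_one] at hc hc'
        refine ⟨c + c' + c * c', by
          rw [he, mul_one, map_add, map_add, map_mul]
          linear_combination (1 + c' + σ c' + c' * σ c') * hc + hc', UH.ext' fun x => ?_⟩
        simp only [mul_smul, uDil_smul, map_add, map_smul, smul_eq_mul, he]
        module
      inv_mem' := by
        rintro _ ⟨c, hc, rfl⟩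
        have hc0 := hc
        rw [he, mul_one] at hc
        refine ⟨σ c, by rw [he, mul_one, hh.invol]; linear_combination hc, ?_⟩
        refine inv_eq_of_mul_eq_one_right (UH.ext' fun x => ?_)
        simp only [mul_smul, uDil_smul, map_add, map_smul, smul_eq_mul, he, mul_one, one_smul]
        match_scalars <;> first | ring1 | linear_combination h e x * hc }
  have hgen : E ⊔ K = ⊤ := by
    rw [eq_top_iff, ← uDil_generate hh, Subgroup.closure_le]
    rintro g ⟨b, c, hc, rfl⟩
    by_cases hb : h b b = 0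
    · rw [uDil_isotropic hh hb hc]
      exact Subgroup.mem_sup_left (uRootElt_mem hh _ _ _)
    obtain ⟨r, hr⟩ := hh.exists_norm_eq (c := h b b) (hh.σ_self b)
    have hr0 : r ≠ 0 := fun e0 => hb (by rw [← hr, e0, mul_zero])
    have hσr : σ r ≠ 0 := (map_ne_zero σ).2 hr0
    obtain ⟨b₁, hb₁, hbr⟩ : ∃ b₁, h b₁ b₁ = 1 ∧ b = r • b₁ :=
      ⟨r⁻¹ • b, by simp [← hr]; field_simp, (smul_inv_smul₀ hr0 b).symm⟩
    obtain ⟨k, hk, hkb⟩ := uRoot_trans_norm hh h3 (b := e) (b' := b₁) (by rw [he]; exact one_ne_zero)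
      (by rw [he, hb₁])
    have hc' : r * σ r * c + σ (r * σ r * c) + r * σ r * c * σ (r * σ r * c) * h b₁ b₁ = 0 := by
      rw [hb₁, mul_one, map_mul, map_mul, hh.invol]
      rw [← hr] at hc
      linear_combination (r * σ r) * hc
    have hc'' : r * σ r * c + σ (r * σ r * c) + r * σ r * c * σ (r * σ r * c) * h e e = 0 := by
      rw [he]; rwa [hb₁] at hc'
    have eq1 : uDil hh b c hc = k * uDil hh e _ hc'' * k⁻¹ := by
      rw [uDil_conj, uDil_congr hh hc (show c + σ c + c * σ c * h (r • b₁) (r • b₁) = 0 by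
        rw [← hbr]; exact hc) hbr rfl, uDil_scale hh _ hc']
      exact uDil_congr hh _ _ hkb.symm rfl
    rw [SetLike.mem_coe, eq1]
    exact mul_mem (mul_mem (Subgroup.mem_sup_left hk) (Subgroup.mem_sup_right ⟨_, _, rfl⟩))
      (Subgroup.mem_sup_left (inv_mem hk))
  intro g hg
  obtain ⟨n, hn, k, ⟨c, hc, rfl⟩, rfl⟩ :=
    Subgroup.mem_sup_of_normal_left.1 (hgen.symm ▸ Subgroup.mem_top g)
  have hn' : n ∈ SUH h := by
    refine (Subgroup.closure_le (SUH h)).2 ?_ hn
    rintro _ ⟨u, w, a, hu, hw, ha, rfl⟩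
    exact uRootElt_det hh hu hw ha
  have hk : uDil hh e c hc ∈ SUH h := (Subgroup.mul_mem_cancel_left _ hn').1 hg
  rw [mem_SUH, uDil_det, he, mul_one, add_eq_left] at hk
  subst hk
  rw [show uDil hh e 0 hc = 1 from UH.ext' fun x => by simp [uDil_smul], mul_one]
  exact hn

omit [Finite F] in
/-- Every transvection is a commutator in the root group. -/
theorem transvection_eq_commutator {u : V} {c : F} (hu : h u u = 0)
    (hc : c + σ c + h (0 : V) 0 = 0) :
    ∃ g ∈ uRootGroup hh, ∃ k ∈ uRootGroup hh, ⁅g, k⁆ = uRootElt hh u 0 c hu (by simp) hc := by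
  by_cases hu0 : u = 0
  · exact ⟨1, one_mem _, 1, one_mem _, by rw [commutatorElement_one_left, uRootElt_of_zero hh _ _ _ hu0]⟩
  obtain ⟨v, hv, huv⟩ := exists_isotropic_partner hh hu hu0
  obtain ⟨w, hw, -, hww⟩ := exists_aniso_perp_pair hh h3 hu hv (by rw [huv]; exact one_ne_zero)
  obtain ⟨d, hd⟩ := hh.exists_trace_one
  set t : F := -d * c / h w w
  have hσt : σ t = -σ d * σ c / h w w := by simp [t, hh.σ_self]
  have hc0 : c + σ c = 0 := by simpa using hc
  have ha : -d * h w w + σ (-d * h w w) + h w w = 0 := by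
    rw [map_mul, map_neg, hh.σ_self]; linear_combination -(h w w) * hd
  have ha' : -d * h (t • w) (t • w) + σ (-d * h (t • w) (t • w)) + h (t • w) (t • w) = 0 := by
    rw [map_mul, map_neg, hh.σ_self]; linear_combination -(h (t • w) (t • w)) * hd
  have hw' : h u (t • w) = 0 := by simp [hw]
  refine ⟨uRootElt hh u w _ hu hw ha, uRootElt_mem hh _ _ _,
    uRootElt hh u (t • w) _ hu hw' ha', uRootElt_mem hh _ _ _, ?_⟩
  rw [commutatorElement_def, mul_assoc, ← mul_inv_rev, uRootElt_mul, uRootElt_mul, uRootElt_inv,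
    uRootElt_mul]
  refine uRootElt_congr hh _ _ _ _ _ _ rfl (by abel) ?_
  have hdiff : σ t * h w w - t * h w w = c := by
    rw [hσt]
    simp only [t]
    field_simp
    linear_combination c * hd - σ d * hc0
  clear_value t
  simp only [map_add, map_sub, map_smulₛₗ, LinearMap.add_apply, LinearMap.smul_apply,
    smul_eq_mul, RingHom.id_apply, map_mul, map_neg, hh.σ_self, hh.invol] at ha ha' ⊢
  linear_combination hdiff + ha + ha'

/-- Membership of root elements in the derived group does not depend on the scalar part. -/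
theorem transvection_mem_commutator {u : V} {c : F} (hu : h u u = 0)
    (hw : h u (0 : V) = 0) (hc : c + σ c + h (0 : V) 0 = 0) :
    uRootElt hh u 0 c hu hw hc ∈ ⁅uRootGroup hh, uRootGroup hh⁆ := by
  obtain ⟨g, hg, k, hk, e⟩ := transvection_eq_commutator hh h3 hu hc
  rw [← e]
  exact Subgroup.commutator_mem_commutator hg hk

theorem uRootGroup_le_commutator
    (hcase : 4 ≤ Module.finrank F V ∨ ∃ l : F, l ≠ 0 ∧ l ^ 4 ≠ l) :
    uRootGroup hh ≤ ⁅uRootGroup hh, uRootGroup hh⁆ := by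
  obtain ⟨d, hd⟩ := hh.exists_trace_one
  set K := ⁅uRootGroup hh, uRootGroup hh⁆
  have hKE : K ≤ uRootGroup hh := Subgroup.commutator_le_self _
  have K2 : ∀ {u : V} (hu : h u u = 0) {w : V} {a a' : F} (hw : h u w = 0)
      (ha : a + σ a + h w w = 0) (ha' : a' + σ a' + h w w = 0),
      uRootElt hh u w a hu hw ha ∈ K → uRootElt hh u w a' hu hw ha' ∈ K := by
    intro u hu w a a' hw ha ha' hm
    have hc : a' - a + σ (a' - a) + h (0 : V) 0 = 0 := by
      simp; linear_combination ha' - ha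
    have := mul_mem hm (transvection_mem_commutator hh h3 hu (by simp) hc)
    rw [uRootElt_mul] at this
    convert this using 1
    exact uRootElt_congr hh _ _ _ _ _ _ rfl (add_zero w).symm (by simp)
  have trval : ∀ w : V, -d * h w w + σ (-d * h w w) + h w w = 0 := fun w => by
    rw [map_mul, map_neg, hh.σ_self]; linear_combination -(h w w) * hd
  -- anisotropic `w`: conjugate by a torus element of determinant one
  have aniso : ∀ {u : V} (hu : h u u = 0) (hu0 : u ≠ 0) (w : V) (hw : h u w = 0), h w w ≠ 0 →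
      uRootElt hh u w (-d * h w w) hu hw (trval w) ∈ K := by
    intro u hu hu0 w hw hww
    obtain ⟨v, hv, huv, hwv⟩ : ∃ v, h v v = 0 ∧ h u v = 1 ∧ h w v = 0 := by
      have hi : LinearIndependent F ![u, w] := (LinearIndependent.pair_iff' hu0).2 fun a e => hww (by
        rw [← e]; simp [hu])
      obtain ⟨y, hy, hy'⟩ := exists_h_pair hh hi 1 0
      have hyu : h y u = 1 := by rw [hh.swap, hy, map_one]
      refine ⟨y + (-(d * h y y)) • u, ?_, by simp [hu, hy], by simp [hy', hh.comm_zero hw]⟩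
      simp only [map_add, map_smulₛₗ, LinearMap.add_apply, LinearMap.smul_apply, smul_eq_mul,
        RingHom.id_apply, hu, hy, hyu, map_neg, map_mul, hh.σ_self]
      linear_combination -(h y y) * hd
    have hvu : h v u = 1 := by rw [hh.swap, huv, map_one]
    -- torus element with determinant `l / σ l`
    have torus : ∀ l : F, l ≠ 0 → ∃ t : UH h, t • u = l • u ∧ t • w = w ∧
        LinearMap.det ((t : V ≃ₗ[F] V) : V →ₗ[F] V) = l / σ l ∧
        ∀ x, h u x = 0 → h v x = 0 → t • x = x := by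
      intro l hl
      have hσl : σ l ≠ 0 := (map_ne_zero σ).2 hl
      let T : V →ₗ[F] V := (LinearMap.transvection ((l - 1) • h v) u).comp
        (LinearMap.transvection (((σ l)⁻¹ - 1) • h u) v)
      have hTx : ∀ x, T x = x + ((l - 1) * h v x) • u + (((σ l)⁻¹ - 1) * h u x) • v := fun x => by
        simp [T, LinearMap.transvection.apply, hv]
        module
      have hT : ∀ x y, h (T x) (T y) = h x y := fun x y => by
        simp only [hTx, map_add, map_smulₛₗ, LinearMap.add_apply, LinearMap.smul_apply,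
          smul_eq_mul, RingHom.id_apply, hu, hv, huv, hvu, map_mul, map_sub, map_one, map_inv₀,
          hh.invol, hh.swap u x, hh.swap v x]
        field_simp
        ring
      refine ⟨uMk hh T hT, ?_, ?_, ?_, fun x hx hx' => by simp [uMk_smul, hTx, hx, hx']⟩
      · rw [uMk_smul, hTx, hu, hvu]
        module
      · simp [uMk_smul, hTx, hw, hh.comm_zero hwv]
      · change LinearMap.det T = _
        rw [LinearMap.det_comp, LinearMap.transvection.det, LinearMap.transvection.det]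
        simp [hvu, huv]
        field_simp
    -- an element of the root group scaling `u` and `w`
    obtain ⟨g, hg, lam, mu, hgu, hgw, hne⟩ : ∃ g ∈ uRootGroup hh, ∃ lam mu : F,
        g • u = lam • u ∧ g • w = mu • w ∧ σ lam * mu - 1 ≠ 0 := by
      rw [← SUH_eq_uRootGroup hh h3]
      rcases hcase with h4 | ⟨l, hl, hl4⟩
      · obtain ⟨l, hl⟩ := hh.ne_id
        have hl0 : l ≠ 0 := by rintro rfl; simp at hl
        have hl1 : l ≠ 1 := by rintro rfl; simp at hl
        have hσl : σ l ≠ 0 := (map_ne_zero σ).2 hl0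
        have hi : LinearIndependent F ![u, v, w] := by
          rw [Fintype.linearIndependent_iff]
          intro k hk
          have e1 := congrArg (h u) hk
          have e2 := congrArg (h v) hk
          have e3 := congrArg (h w) hk
          simp [Fin.sum_univ_three, hu, hv, huv, hvu, hw, hh.comm_zero hw, hwv,
            hh.comm_zero hwv, hww] at e1 e2 e3
          simp [Fin.forall_fin_succ, e1, e2, e3]
        obtain ⟨y₀, hy₀, hy₀0⟩ := exists_forall_eq_zero_notMem ![h u, h v, h w]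
          (⊥ : Submodule F V) (by rw [finrank_bot, Fintype.card_fin]; omega)
        obtain ⟨e, he, hee⟩ := exists_aniso_perp hh ![u, v, w] hi (y₀ := y₀)
          (by intro i; fin_cases i; exacts [hy₀ 0, hy₀ 1, hy₀ 2]) (by
            rw [Submodule.mem_span_range_iff_exists_fun]
            rintro ⟨k, rfl⟩
            have e1 : h u (∑ i, k i • ![u, v, w] i) = 0 := hy₀ 0
            have e2 : h v (∑ i, k i • ![u, v, w] i) = 0 := hy₀ 1
            have e3 : h w (∑ i, k i • ![u, v, w] i) = 0 := hy₀ 2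
            simp [Fin.sum_univ_three, hu, hv, huv, hvu, hw, hh.comm_zero hw, hwv,
              hh.comm_zero hwv, hww] at e1 e2 e3
            exact hy₀0 (by simp [Fin.sum_univ_three, e1, e2, e3]))
        have he0 : h u e = 0 := he 0
        have he1 : h v e = 0 := he 1
        have he2 : h w e = 0 := he 2
        obtain ⟨t, htu, htw, htdet, -⟩ := torus l hl0
        have hc : (σ l / l - 1) / h e e + σ ((σ l / l - 1) / h e e) +
            (σ l / l - 1) / h e e * σ ((σ l / l - 1) / h e e) * h e e = 0 := by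
          rw [map_div₀, map_sub, map_div₀, map_one, hh.invol, hh.σ_self]
          field_simp
          ring
        refine ⟨uDil hh e _ hc * t, ?_, l, 1, ?_, ?_, ?_⟩
        · rw [mem_SUH, Subgroup.coe_mul]
          change LinearMap.det (((uDil hh e _ hc : V ≃ₗ[F] V) : V →ₗ[F] V) ∘ₗ
            ((t : V ≃ₗ[F] V) : V →ₗ[F] V)) = 1
          rw [LinearMap.det_comp, htdet, uDil_det, div_mul_cancel₀ _ hee, add_sub_cancel]
          field_simp
        · rw [mul_smul, htu, uDil_smul, map_smul, hh.comm_zero he0]; simp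
        · rw [mul_smul, htw, uDil_smul, hh.comm_zero he2]; simp
        · rw [mul_one, sub_ne_zero]
          exact fun e => hl1 (σ.injective (by rw [e, map_one]))
      · have hσl : σ l ≠ 0 := (map_ne_zero σ).2 hl
        obtain ⟨t, htu, htw, htdet, -⟩ := torus l hl
        have hc : (σ l / l - 1) / h w w + σ ((σ l / l - 1) / h w w) +
            (σ l / l - 1) / h w w * σ ((σ l / l - 1) / h w w) * h w w = 0 := by
          rw [map_div₀, map_sub, map_div₀, map_one, hh.invol, hh.σ_self]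
          field_simp
          ring
        refine ⟨uDil hh w _ hc * t, ?_, l, σ l / l, ?_, ?_, ?_⟩
        · rw [mem_SUH, Subgroup.coe_mul]
          change LinearMap.det (((uDil hh w _ hc : V ≃ₗ[F] V) : V →ₗ[F] V) ∘ₗ
            ((t : V ≃ₗ[F] V) : V →ₗ[F] V)) = 1
          rw [LinearMap.det_comp, htdet, uDil_det, div_mul_cancel₀ _ hww, add_sub_cancel]
          field_simp
        · rw [mul_smul, htu, uDil_smul, map_smul, hh.comm_zero hw]; simp
        · rw [mul_smul, htw, uDil_smul, div_mul_cancel₀ _ hww]; module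
        · rw [sub_ne_zero]
          intro e
          field_simp at e
          refine hl4 ?_
          have e' := congrArg σ e
          rw [map_pow, hh.invol] at e'
          rw [show l ^ 4 = (l ^ 2) ^ 2 by ring, e']
          linear_combination e
    -- conjugation moves the root element by the factor `σ lam * mu - 1`
    obtain ⟨w₀, hw₀, hgw₀, hkw⟩ : ∃ w₀, h u w₀ = 0 ∧ g • w₀ = mu • w₀ ∧
        (σ lam * mu - 1) • w₀ = w :=
      ⟨(σ lam * mu - 1)⁻¹ • w, by simp [hw],
        by rw [smul_comm g, hgw, smul_comm],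
        smul_inv_smul₀ hne w⟩
    have ha := trval w₀
    have h1 : g * uRootElt hh u w₀ _ hu hw₀ ha * g⁻¹ * (uRootElt hh u w₀ _ hu hw₀ ha)⁻¹ ∈ K := by
      rw [← commutatorElement_def]
      exact Subgroup.commutator_mem_commutator hg (uRootElt_mem hh _ _ _)
    have hwl : h u (σ lam • g • w₀) = 0 := by rw [hgw₀]; simp [hw₀]
    have hal : σ lam * lam * (-d * h w₀ w₀) + σ (σ lam * lam * (-d * h w₀ w₀)) +
        h (σ lam • g • w₀) (σ lam • g • w₀) = 0 := by
      simp only [map_smulₛₗ, LinearMap.smul_apply, smul_eq_mul, uh_smul_smul, RingHom.id_apply,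
        map_mul, hh.invol] at ha ⊢
      linear_combination σ lam * lam * ha
    rw [uRootElt_conj, uRootElt_congr hh _ _ _ (u' := lam • u) (w' := g • w₀)
      (a' := -d * h w₀ w₀) (by simp [hu]) (by rw [hgw₀]; simp [hw₀])
      (by rw [uh_smul_smul]; exact ha) hgu rfl rfl,
      uRootElt_scale hh _ _ _ hu hwl hal, uRootElt_inv, uRootElt_mul] at h1
    have eqw : σ lam • g • w₀ + -w₀ = w := by rw [hgw₀, ← hkw]; module
    have hsum : σ lam * lam * (-d * h w₀ w₀) + σ (-d * h w₀ w₀) - h (σ lam • g • w₀) (-w₀) +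
        σ (σ lam * lam * (-d * h w₀ w₀) + σ (-d * h w₀ w₀) - h (σ lam • g • w₀) (-w₀)) +
          h w w = 0 := by
      rw [← eqw]
      simp only [map_add, map_sub, map_neg, LinearMap.add_apply, LinearMap.neg_apply, hh.invol,
        ← hh.swap]
      linear_combination hal + ha
    refine K2 hu hw hsum (trval w) ?_
    exact (uRootElt_congr hh _ _ _ hu hw hsum rfl eqw rfl) ▸ h1
  rw [uRootGroup, Subgroup.closure_le]
  rintro _ ⟨u, w, a, hu, hw, ha, rfl⟩
  rw [SetLike.mem_coe]
  by_cases hu0 : u = 0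
  · rw [uRootElt_of_zero hh _ _ _ hu0]
    exact one_mem _
  refine K2 hu hw (trval w) ha ?_
  by_cases hww : h w w = 0
  swap
  · exact aniso hu hu0 w hw hww
  obtain ⟨v, hv, huv⟩ := exists_isotropic_partner hh hu hu0
  obtain ⟨b₀, hb₀, -, hbb₀⟩ := exists_aniso_perp_pair hh h3 hu hv (by rw [huv]; exact one_ne_zero)
  obtain ⟨θ, hθ0, hθ⟩ := hh.exists_skew
  -- a multiple `b` of `b₀` with `w - b` anisotropic
  obtain ⟨t, ht0, ht⟩ : ∃ t : F, t ≠ 0 ∧ t * h w b₀ + σ (t * h w b₀) = 0 := by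
    by_cases hk : h w b₀ = 0
    · exact ⟨1, one_ne_zero, by simp [hk]⟩
    · exact ⟨θ / h w b₀, div_ne_zero hθ0 hk, by rw [div_mul_cancel₀ _ hk, hθ]⟩
  have hbu : h u (t • b₀) = 0 := by simp [hb₀]
  have hbu' : h u (w - t • b₀) = 0 := by simp [hw, hb₀]
  have hbb : h (t • b₀) (t • b₀) ≠ 0 := by
    simp [ht0, hbb₀]
  have hbb' : h (w - t • b₀) (w - t • b₀) ≠ 0 := by
    have e : h (w - t • b₀) (w - t • b₀) = h (t • b₀) (t • b₀) := by
      simp only [map_sub, map_smulₛₗ, LinearMap.sub_apply, LinearMap.smul_apply, smul_eq_mul,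
        RingHom.id_apply, hww, hh.swap w b₀]
      rw [map_mul] at ht
      linear_combination -ht
    rwa [e]
  have h1 := mul_mem (aniso hu hu0 _ hbu' hbb') (aniso hu hu0 _ hbu hbb)
  rw [uRootElt_mul] at h1
  have hAB : ∀ A B : V, -d * h A A + -d * h B B - h A B +
      σ (-d * h A A + -d * h B B - h A B) + h (A + B) (A + B) = 0 := fun A B => by
    have hA := trval A
    have hB := trval B
    simp only [map_add, map_sub, map_neg, map_mul, LinearMap.add_apply, hh.σ_self, ← hh.swap]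
      at hA hB ⊢
    linear_combination hA + hB
  have hsum := hAB (w - t • b₀) (t • b₀)
  rw [sub_add_cancel] at hsum
  refine K2 hu hw hsum (trval w) ?_
  exact (uRootElt_congr hh _ _ _ hu hw hsum rfl (sub_add_cancel w (t • b₀)) rfl) ▸ h1

/-- `SU` is perfect. -/
theorem SUH_perfect (hcase : 4 ≤ Module.finrank F V ∨ ∃ l : F, l ≠ 0 ∧ l ^ 4 ≠ l) :
    commutator (SUH h) = ⊤ := by
  apply Subgroup.map_injective (SUH h).subtype_injective
  rw [commutator_def, Subgroup.map_commutator, ← MonoidHom.range_eq_map, Subgroup.range_subtype,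
    SUH_eq_uRootGroup hh h3]
  exact le_antisymm (Subgroup.commutator_le_self _) (uRootGroup_le_commutator hh h3 hcase)

theorem unitary_pointGeom :
    PointGeom F (SUH h) (fun v : V => v ≠ 0 ∧ h v v = 0) (fun v w => h v w = 0) where
  ne_zero e := e.1
  map_S g _ e := ⟨fun e' => e.1 ((smul_eq_zero_iff_eq g).1 e'),
    (uh_smul_smul (g : UH h) _ _).trans e.2⟩
  O_symm e := hh.comm_zero e
  trans hv hw := by
    obtain ⟨g, hg, e⟩ := uRoot_trans hh h3 hv.1 hw.1 hv.2 hw.2
    rw [← SUH_eq_uRootGroup hh h3] at hg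
    exact ⟨⟨g, hg⟩, 1, by rw [one_smul]; exact e.symm⟩
  trans_nonorth := by
    intro u v w hu hv hw huv huw
    obtain ⟨g, hg, hgv, hgu⟩ := exists_uRoot_map hh hu.2 (v := (h u v)⁻¹ • v)
      (v' := (h u w)⁻¹ • w) (by simp [hv.2]) (by simp [hw.2]) (by simp [huv]) (by simp [huw])
    rw [← SUH_eq_uRootGroup hh h3] at hg
    refine ⟨⟨g, hg⟩, ⟨1, ?_⟩, h u v * (h u w)⁻¹, ?_⟩
    · rw [one_smul]
      exact (hgu u hu.2 (hh.comm_zero (by simp [huv, huw]))).symm
    · change _ = g • v
      rw [mul_smul, ← hgv, ← smul_comm g, smul_inv_smul₀ huv]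
  trans_orth := by
    intro u v w hu hv hw huv huw hlv hlw
    have i1 : LinearIndependent F ![u, v] :=
      (LinearIndependent.pair_iff' hu.1).2 fun a e => hlv ⟨a, e⟩
    have i2 : LinearIndependent F ![u, w] :=
      (LinearIndependent.pair_iff' hu.1).2 fun a e => hlw ⟨a, e⟩
    obtain ⟨d, hd⟩ := hh.exists_trace_one
    obtain ⟨z, hz, huz, hvz, hwz⟩ : ∃ z, h z z = 0 ∧ h u z = 0 ∧ h v z ≠ 0 ∧ h w z ≠ 0 := by
      by_cases hvw : h v w = 0
      · obtain ⟨y, hy, hyv, hyw⟩ := exists_h_ne_ne hh i1 i2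
        have hyv' : h y v ≠ 0 := fun e => hyv (hh.comm_zero e)
        refine ⟨y + (-(d * h y y) / h y v) • v, ?_, by simp [hy, huv], by simpa [hv.2] using hyv,
          by simpa [hh.comm_zero hvw] using hyw⟩
        have e : σ (h y v) = h v y := (hh.swap y v).symm
        simp only [map_add, map_smulₛₗ, LinearMap.add_apply, LinearMap.smul_apply, smul_eq_mul,
          RingHom.id_apply, hv.2, map_div₀, map_neg, map_mul, hh.σ_self, e]
        field_simp
        linear_combination -(h y y * h v y * h y v) * hd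
      · obtain ⟨t, ht0, ht⟩ := hh.exists_skew
        refine ⟨v + (t / h v w) • w, ?_, by simp [huv, huw], by simp [hv.2, hvw, ht0],
          by simpa [hw.2] using fun e => hvw (hh.comm_zero e)⟩
        simp only [map_add, map_smulₛₗ, LinearMap.add_apply, LinearMap.smul_apply, smul_eq_mul,
          RingHom.id_apply, hv.2, hw.2, map_div₀, hh.swap v w]
        have : σ (h v w) ≠ 0 := (map_ne_zero σ).2 hvw
        field_simp
        linear_combination (σ (h v w) * h v w) * ht
    have hzv : h z v ≠ 0 := fun e => hvz (hh.comm_zero e)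
    have hzw : h z w ≠ 0 := fun e => hwz (hh.comm_zero e)
    obtain ⟨g, hg, hgv, hgu⟩ := exists_uRoot_map hh hz (v := (h z v)⁻¹ • v)
      (v' := (h z w)⁻¹ • w) (by simp [hv.2]) (by simp [hw.2]) (by simp [hzv]) (by simp [hzw])
    rw [← SUH_eq_uRootGroup hh h3] at hg
    refine ⟨⟨g, hg⟩, ⟨1, ?_⟩, h z v * (h z w)⁻¹, ?_⟩
    · rw [one_smul]
      exact (hgu u (hh.comm_zero huz) (hh.comm_zero (by simp [huv, huw]))).symm
    · change _ = g • v
      rw [mul_smul, ← hgv, ← smul_comm g, smul_inv_smul₀ hzv]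
  exists_nonorth := by
    intro u v hu hv
    obtain ⟨z, hz, h1, h2⟩ := unitary_exists_nonorth hh hu.1 hv.1 hu.2 hv.2
    exact ⟨z, ⟨fun e => h1 (by simp [e]), hz⟩, h1, fun e => h2 (hh.comm_zero e)⟩
  exists_orth := by
    intro u v d hu _ huv hd hud hld
    refine ⟨d - (h v d / h v u) • u, ⟨fun e => hld ⟨_, (sub_eq_zero.1 e).symm⟩, ?_⟩, ?_, ?_, ?_⟩
    · simp [hu.2, hd.2, hud, hh.comm_zero hud]
    · simp [hud, hu.2]
    · refine hh.comm_zero ?_
      have : h v u ≠ 0 := fun e => huv (hh.comm_zero e)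
      simp [this]
    · rintro ⟨a, ha⟩
      exact hld ⟨a + h v d / h v u, by rw [add_smul, ha, sub_add_cancel]⟩

theorem unitary_scalar_of_sameLine (g : UH h)
    (hl : ∀ v : V, v ≠ 0 → h v v = 0 → SameLine F v (g • v)) :
    ∃ a : F, σ a * a = 1 ∧ ∀ x : V, g • x = a • x := by
  have pair : ∀ v w : V, h v w ≠ 0 → ∀ a b : F, a • v = g • v → b • w = g • w → σ a * b = 1 := by
    intro v w hvw a b ha hb
    have e := uh_smul_smul g v w
    rw [← ha, ← hb] at e
    simp only [map_smulₛₗ, LinearMap.smul_apply, smul_eq_mul, RingHom.id_apply] at e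
    refine mul_right_cancel₀ hvw ?_
    rw [one_mul]
    linear_combination e
  obtain ⟨s, hs0, hs⟩ := exists_isotropic hh h3
  obtain ⟨a, ha⟩ := hl s hs0 hs
  have all : ∀ v : V, h v v = 0 → g • v = a • v := by
    intro v hv
    by_cases hv0 : v = 0
    · simp [hv0]
    obtain ⟨b, hb⟩ := hl v hv0 hv
    obtain ⟨z, hz, h1, h2⟩ := unitary_exists_nonorth hh hs0 hv0 hs hv
    obtain ⟨c, hc⟩ := hl z (fun e => h1 (by simp [e])) hz
    have e1 := pair s z h1 a c ha hc
    have e2 := pair v z h2 b c hb hc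
    have : b = a := σ.injective (mul_right_cancel₀ (right_ne_zero_of_mul_eq_one e1) (e2.trans e1.symm))
    rw [← hb, this]
  have hall : ∀ x : V, g • x = a • x :=
    eq_smul_of_span (span_isotropic hh h3) (g : V ≃ₗ[F] V).toLinearMap a all
  refine ⟨a, ?_, hall⟩
  obtain ⟨z, hz, h1, -⟩ := unitary_exists_nonorth hh hs0 hs0 hs hs
  exact pair s z h1 a a (hall s).symm (hall z).symm

theorem unitary_sameLine_of_commute (g : UH h) (hg : ∀ k ∈ SUH h, Commute g k)
    (u : V) (hu0 : u ≠ 0) (hu : h u u = 0) : SameLine F u (g • u) := by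
  obtain ⟨d, hd⟩ := hh.exists_trace_one
  have fixed : ∀ (w : V) (hw : h u w = 0) (a : F) (ha : a + σ a + h w w = 0),
      uRootElt hh u w a hu hw ha • g • u = g • u := by
    intro w hw a ha
    rw [← mul_smul, ← (hg _ (uRootElt_det hh hu hw ha)).eq, mul_smul]
    congr 1
    simp [uRootElt_smul, hu, hh.comm_zero hw]
  obtain ⟨θ, hθ0, hθ⟩ := hh.exists_skew
  have e0 := fixed 0 (by simp) θ (by simpa using hθ)
  simp [uRootElt_smul, hθ0, hu0] at e0
  by_contra hl'
  obtain ⟨w, h1, h2⟩ := exists_h_pair hh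
    ((LinearIndependent.pair_iff' hu0).2 fun a e => hl' ⟨a, e⟩) 0 1
  have e := fixed w h1 (-d * h w w)
    (by rw [map_mul, map_neg, hh.σ_self]; linear_combination -(h w w) * hd)
  simp [uRootElt_smul, e0, hh.swap (g • u) w, h2, hu0] at e

theorem SUH_mem_center_iff (g : SUH h) :
    g ∈ Subgroup.center (SUH h) ↔ ∃ a : F, σ a * a = 1 ∧ ∀ x : V, g • x = a • x := by
  refine ⟨fun hg => unitary_scalar_of_sameLine hh h3 _ (unitary_sameLine_of_commute hh h3 _
    fun k hk => congrArg Subtype.val (Subgroup.mem_center_iff.1 hg ⟨k, hk⟩).symm), ?_⟩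
  rintro ⟨a, -, ha⟩
  refine Subgroup.mem_center_iff.2 fun k => Subtype.ext (UH.ext' fun x => ?_)
  change k • g • x = g • k • x
  rw [ha, ha, smul_comm]

/-- The root group of `u` inside `SU`. -/
noncomputable def suRootSub (u : V) : Subgroup (SUH h) :=
  Subgroup.closure {g | ∃ (w : V) (a : F) (hu : h u u = 0) (hw : h u w = 0)
    (ha : a + σ a + h w w = 0), (g : UH h) = uRootElt hh u w a hu hw ha}

omit h3 [Finite F] in
theorem suRootSub_solvable (u : V) : Group.IsSolvable (suRootSub hh u) := by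
  set S : Set (SUH h) := {g | ∃ (w : V) (a : F) (hu : h u u = 0) (hw : h u w = 0)
    (ha : a + σ a + h w w = 0), (g : UH h) = uRootElt hh u w a hu hw ha}
  -- a central subgroup containing all commutators of generators
  let Z : Subgroup (SUH h) := Subgroup.closure {g | ∃ (c : F) (hu : h u u = 0)
    (hc : c + σ c + h (0 : V) 0 = 0), (g : UH h) = uRootElt hh u 0 c hu (by simp) hc}
  have hZS : ∀ z ∈ Z, ∀ y ∈ suRootSub hh u, y * z = z * y := by
    intro z hz y hy
    refine Subgroup.mem_centralizer_iff.1 ((Subgroup.closure_le _).2 ?_ hz) y hy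
    rintro z ⟨c, hu, hc, ez⟩
    rw [SetLike.mem_coe, Subgroup.mem_centralizer_iff]
    intro y hy
    refine Subgroup.mem_centralizer_singleton_iff.1 ?_
    refine (Subgroup.closure_le _).2 ?_ hy
    rintro y ⟨w, a, hu', hw, ha, ey⟩
    rw [SetLike.mem_coe, Subgroup.mem_centralizer_singleton_iff]
    refine Subtype.ext ?_
    rw [Subgroup.coe_mul, Subgroup.coe_mul, ez, ey, uRootElt_mul, uRootElt_mul]
    exact uRootElt_congr hh _ _ _ _ _ _ rfl (by abel) (by simp [add_comm])
  have hcomm : ⁅suRootSub hh u, suRootSub hh u⁆ ≤ Z := by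
    have hgen : ∀ x ∈ S, ∀ y ∈ S, ⁅x, y⁆ ∈ Z := by
      rintro x ⟨w, a, hu, hw, ha, ex⟩ y ⟨w', a', hu', hw', ha', ey⟩
      have e : ((⁅x, y⁆ : SUH h) : UH h) =
          uRootElt hh u w a hu hw ha * uRootElt hh u w' a' hu hw' ha' *
            (uRootElt hh u w a hu hw ha)⁻¹ * (uRootElt hh u w' a' hu hw' ha')⁻¹ := by
        simp [commutatorElement_def, ex, ey]
      rw [mul_assoc, ← mul_inv_rev, uRootElt_mul, uRootElt_mul, uRootElt_inv, uRootElt_mul] at e
      refine Subgroup.subset_closure ⟨_, hu, ?_, e.trans (uRootElt_congr hh _ _ _ hu (by simp) ?_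
        rfl (by abel) rfl)⟩
      all_goals
        simp only [map_add, map_sub, map_neg, LinearMap.add_apply, map_zero, hh.invol, ← hh.swap]
        linear_combination ha + ha' + ha + ha'
    rw [Subgroup.commutator_le]
    intro x hx y hy
    induction hx using Subgroup.closure_induction with
    | one => rw [commutatorElement_one_left]; exact one_mem _
    | mem x hxS =>
      induction hy using Subgroup.closure_induction with
      | one => rw [commutatorElement_one_right]; exact one_mem _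
      | mem y hyS => exact hgen x hxS y hyS
      | mul y₁ y₂ h₁ h₂ i₁ i₂ =>
        rw [show ⁅x, y₁ * y₂⁆ = ⁅x, y₁⁆ * (y₁ * ⁅x, y₂⁆ * y₁⁻¹) by
          simp [commutatorElement_def, mul_assoc]]
        refine mul_mem i₁ ?_
        rwa [hZS _ i₂ y₁ h₁, mul_inv_cancel_right]
      | inv y h₁ i₁ =>
        rw [show ⁅x, y⁻¹⁆ = y⁻¹ * ⁅x, y⁆⁻¹ * y by simp [commutatorElement_def, mul_assoc]]
        rw [hZS _ (inv_mem i₁) y⁻¹ (inv_mem h₁), inv_mul_cancel_right]
        exact inv_mem i₁
    | mul x₁ x₂ h₁ h₂ i₁ i₂ =>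
      rw [show ⁅x₁ * x₂, y⁆ = x₁ * ⁅x₂, y⁆ * x₁⁻¹ * ⁅x₁, y⁆ by
        simp [commutatorElement_def, mul_assoc]]
      refine mul_mem ?_ i₁
      rwa [hZS _ i₂ x₁ h₁, mul_inv_cancel_right]
    | inv x h₁ i₁ =>
      rw [show ⁅x⁻¹, y⁆ = x⁻¹ * ⁅x, y⁆⁻¹ * x by simp [commutatorElement_def, mul_assoc]]
      rw [hZS _ (inv_mem i₁) x⁻¹ (inv_mem h₁), inv_mul_cancel_right]
      exact inv_mem i₁
  have hmap : (commutator (suRootSub hh u)).map (suRootSub hh u).subtype ≤ Z := by
    rwa [commutator_def, Subgroup.map_commutator, ← MonoidHom.range_eq_map, Subgroup.range_subtype]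
  rw [Group.isSolvable_def]
  refine ⟨2, ?_⟩
  rw [derivedSeries_succ, derivedSeries_one, Subgroup.commutator_eq_bot_iff_le_centralizer]
  intro x hx
  rw [Subgroup.mem_centralizer_iff]
  intro y hy
  exact Subtype.ext (hZS _ (hmap ⟨x, hx, rfl⟩) y.1 y.2)

theorem SUH_normal_eq_top_or_le_center
    (hperf : commutator (SUH h) = ⊤) (N : Subgroup (SUH h)) [N.Normal] :
    N = ⊤ ∨ N ≤ Subgroup.center (SUH h) := by
  refine normal_eq_top_or_le_center (unitary_pointGeom hh h3) hperf (suRootSub hh)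
    (fun {v} _ => suRootSub_solvable hh v) (fun {v w} hv hl hw => ?_) (fun g {v x} _ hx => ?_)
    ?_ ?_ N
  · obtain ⟨c, rfl⟩ := hl
    have hc : c ≠ 0 := left_ne_zero_of_smul hw.1
    have hσc : σ c ≠ 0 := (map_ne_zero σ).2 hc
    unfold suRootSub
    congr 1
    ext g
    constructor
    · rintro ⟨w, a, hu, hwv, ha, e⟩
      have ha' : a / (σ c * c) + σ (a / (σ c * c)) + h ((σ c)⁻¹ • w) ((σ c)⁻¹ • w) = 0 := by
        simp only [map_smulₛₗ, LinearMap.smul_apply, smul_eq_mul, RingHom.id_apply, map_inv₀,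
          map_div₀, map_mul, hh.invol]
        field_simp
        linear_combination ha
      have hwv' : h (c • v) ((σ c)⁻¹ • w) = 0 := by simp [hwv]
      have hwv'' : h v (σ c • (σ c)⁻¹ • w) = 0 := by simp [hwv]
      have hal : σ c * c * (a / (σ c * c)) + σ (σ c * c * (a / (σ c * c))) +
          h (σ c • (σ c)⁻¹ • w) (σ c • (σ c)⁻¹ • w) = 0 := by
        rw [mul_div_cancel₀ _ (mul_ne_zero hσc hc), smul_inv_smul₀ hσc]
        exact ha
      refine ⟨(σ c)⁻¹ • w, a / (σ c * c), hw.2, hwv', ha', ?_⟩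
      rw [e, uRootElt_scale hh hw.2 hwv' ha' hu hwv'' hal]
      exact uRootElt_congr hh _ _ _ _ _ _ rfl (smul_inv_smul₀ hσc w).symm
        (mul_div_cancel₀ _ (mul_ne_zero hσc hc)).symm
    · rintro ⟨w, a, hu, hwv, ha, e⟩
      have hwv' : h v (σ c • w) = 0 := by simpa [hc] using hwv
      have hal : σ c * c * a + σ (σ c * c * a) + h (σ c • w) (σ c • w) = 0 := by
        simp only [map_smulₛₗ, LinearMap.smul_apply, smul_eq_mul, RingHom.id_apply, map_mul,
          hh.invol]
        linear_combination σ c * c * ha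
      exact ⟨_, _, hv.2, hwv', hal, e.trans (uRootElt_scale hh hu hwv ha hv.2 hwv' hal)⟩
  · have hmap : (suRootSub hh v).map (MulAut.conj g).toMonoidHom ≤ suRootSub hh (g • v) := by
      rw [suRootSub, MonoidHom.map_closure, Subgroup.closure_le]
      rintro _ ⟨k, ⟨w, a, hu, hw, ha, e⟩, rfl⟩
      refine Subgroup.subset_closure ⟨(g : UH h) • w, a,
        (uh_smul_smul (g : UH h) v v).trans hu, (uh_smul_smul (g : UH h) v w).trans hw,
        by rw [uh_smul_smul]; exact ha, ?_⟩
      simp only [MulEquiv.coe_toMonoidHom, MulAut.conj_apply, Subgroup.coe_mul, Subgroup.coe_inv,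
        e, uRootElt_conj]
      rfl
    exact hmap ⟨x, hx, rfl⟩
  · apply Subgroup.map_injective (SUH h).subtype_injective
    rw [← MonoidHom.range_eq_map, Subgroup.range_subtype]
    refine le_antisymm (Subgroup.map_subtype_le _) ?_
    conv_lhs => rw [SUH_eq_uRootGroup hh h3, uRootGroup]
    rw [Subgroup.closure_le]
    rintro g ⟨u, w, a, hu, hw, ha, rfl⟩
    by_cases hu0 : u = 0
    · rw [uRootElt_of_zero hh _ _ _ hu0]
      exact one_mem _
    · exact ⟨⟨_, uRootElt_det hh hu hw ha⟩, Subgroup.mem_iSup_of_mem u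
        (Subgroup.mem_iSup_of_mem ⟨hu0, hu⟩ (Subgroup.subset_closure ⟨w, a, hu, hw, ha, rfl⟩)), rfl⟩
  · intro g hg
    obtain ⟨a, ha, hga⟩ := unitary_scalar_of_sameLine hh h3 (g : UH h) fun v h1 h2 => hg v ⟨h1, h2⟩
    exact (SUH_mem_center_iff hh h3 g).2 ⟨a, ha, hga⟩

theorem SUH_isSimpleGroup (hperf : commutator (SUH h) = ⊤) :
    IsSimpleGroup (SUH h ⧸ Subgroup.center (SUH h)) := by
  refine isSimpleGroup_quotient_center hperf ?_
    fun N _ => SUH_normal_eq_top_or_le_center hh h3 hperf N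
  obtain ⟨s, hs0, hs⟩ := exists_isotropic hh h3
  obtain ⟨θ, hθ0, hθ⟩ := hh.exists_skew
  obtain ⟨y, hy⟩ := exists_h_ne_zero hh hs0
  have hw : h s (0 : V) = 0 := map_zero _
  have ha : θ + σ θ + h (0 : V) 0 = 0 := by simpa using hθ
  refine ⟨⟨⟨_, uRootElt_det hh hs hw ha⟩, 1, fun e => ?_⟩⟩
  have h1 := congrArg (fun g : SUH h => g • y) e
  change uRootElt hh s 0 θ hs hw ha • y = (1 : SUH h) • y at h1
  simp [uRootElt_smul, hθ0, hy, hs0] at h1

end Cfsg.Agent.ClassicalSimple
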