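import Cfsg.Agent.Lib.QForm.OmegaQuot
import Cfsg.Agent.Lib.ClassicalSimple.OrthMatrix

/-!
The parity of `rank (g - 1)` is the Dickson invariant: a reflection changes this rank by exactly one.
-/

namespace Cfsg.Agent.ClassicalSimple

open scoped Matrix

section Abstract

variable {F V : Type*} [Field F] [AddCommGroup V] [Module F V] [FiniteDimensional F V]
variable {Q : QuadraticForm F V}

/-- `g - 1` as a linear map. -/
def subOne (g : OQ Q) : V →ₗ[F] V := ((g : V ≃ₗ[F] V) : V →ₗ[F] V) - LinearMap.id

theorem subOne_apply (g : OQ Q) (x : V) : subOne g x = g • x - x := rfl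

theorem finrank_inf_ker_add_one (K : Submodule F V) (φ : Module.Dual F V) {x : V} (hx : x ∈ K)
    (hφ : φ x ≠ 0) :
    Module.finrank F (K ⊓ LinearMap.ker φ : Submodule F V) + 1 = Module.finrank F K := by
  have h1 := LinearMap.finrank_range_add_finrank_ker (φ.domRestrict K)
  have h2 : LinearMap.range (φ.domRestrict K) = ⊤ := by
    refine LinearMap.range_eq_top.2 fun c => ⟨(c / φ x) • ⟨x, hx⟩, ?_⟩
    simp [hφ]
  have h3 : Module.finrank F (LinearMap.ker (φ.domRestrict K)) =
      Module.finrank F (K ⊓ LinearMap.ker φ : Submodule F V) := by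
    refine LinearEquiv.finrank_eq
      { toFun := fun y => ⟨(y : K), (y : K).2, y.2⟩
        invFun := fun y => ⟨⟨y, y.2.1⟩, y.2.2⟩
        map_add' := fun _ _ => rfl
        map_smul' := fun _ _ => rfl
        left_inv := fun _ => rfl
        right_inv := fun _ => rfl }
  rw [h2, finrank_top, Module.finrank_self, h3] at h1
  omega

/-- A reflection changes the dimension of the fixed space by exactly one. -/
theorem finrank_fix_mul_orefl (hN : (bil Q).Nondegenerate) (g : OQ Q) {a : V} (ha : Q a ≠ 0) :
    Module.finrank F (LinearMap.ker (subOne (g * orefl ha))) + 1 =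
        Module.finrank F (LinearMap.ker (subOne g)) ∨
      Module.finrank F (LinearMap.ker (subOne g)) + 1 =
        Module.finrank F (LinearMap.ker (subOne (g * orefl ha))) := by
  set φ : Module.Dual F V := LinearMap.flip (bil Q) a with hφdef
  have hfix : ∀ (k : OQ Q) {x}, x ∈ LinearMap.ker (subOne k) ↔ k • x = x := fun k x => by
    rw [LinearMap.mem_ker, subOne_apply, sub_eq_zero]
  have hinter : ∀ x, φ x = 0 → ((g * orefl ha) • x = g • x) := fun x hx => by
    rw [mul_smul, orefl_smul, show bil Q x a = 0 from hx, mul_zero, zero_smul, sub_zero]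
  by_cases haU : ∃ z, g • z - z = a
  · right
    obtain ⟨z, hz⟩ := haU
    have hle : ∀ x, g • x = x → φ x = 0 := fun x hx => by
      change bil Q x a = 0
      rw [← hz]; exact bil_fixed_sub hx z
    have hx0 : (g * orefl ha) • (g • z) = g • z := by
      have e : bil Q (g • z) a = Q a := by
        rw [← hz, map_sub, bil_self, quad_smul, quad_sub, quad_smul]
        ring
      rw [mul_smul, orefl_smul, e, inv_mul_cancel₀ ha, one_smul]
      congr 1
      rw [← hz, sub_sub_cancel]
    have heq : LinearMap.ker (subOne g) = LinearMap.ker (subOne (g * orefl ha)) ⊓ LinearMap.ker φ := by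
      ext x
      rw [Submodule.mem_inf, hfix, hfix, LinearMap.mem_ker (f := φ)]
      refine ⟨fun h => ⟨(hinter x (hle x h)).trans h, hle x h⟩, fun h => ?_⟩
      rw [← hinter x h.2]; exact h.1
    rw [heq]
    refine finrank_inf_ker_add_one _ φ ((hfix _).2 hx0) ?_
    change bil Q (g • z) a ≠ 0
    rw [← hz, map_sub, bil_self, quad_smul]
    rw [← hz, quad_sub, quad_smul] at ha
    intro e
    exact ha (by linear_combination e)
  · left
    obtain ⟨x₀, hx₀, hx₀'⟩ : ∃ x, g • x = x ∧ φ x ≠ 0 := by
      by_contra hc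
      push Not at hc
      refine haU ?_
      have hann : φ ∈ (LinearMap.ker (subOne g)).dualAnnihilator :=
        (Submodule.mem_dualAnnihilator φ).2 fun x hx => hc x ((hfix g).1 hx)
      rw [← LinearMap.range_dualMap_eq_dualAnnihilator_ker] at hann
      obtain ⟨ψ, hψ⟩ := hann
      obtain ⟨c, hc'⟩ := (LinearMap.injective_iff_surjective_of_finrank_eq_finrank
        Subspace.dual_finrank_eq.symm (f := bil Q)).1
        (LinearMap.ker_eq_bot.1 (LinearMap.ker_eq_bot'.2 fun m hm => hN.1 m fun y => by
          rw [hm]; rfl)) ψ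
      refine ⟨-(g⁻¹ • c), ?_⟩
      rw [smul_neg, smul_inv_smul]
      refine sub_eq_zero.1 (hN.1 _ fun x => ?_)
      have e : bil Q c (g • x - x) = bil Q x a := by
        rw [hc']; exact LinearMap.congr_fun hψ x
      have e2 : bil Q (g⁻¹ • c) x = bil Q c (g • x) := by
        rw [← bil_smul_smul g, smul_inv_smul]
      rw [map_sub] at e
      simp only [map_sub, map_neg, LinearMap.sub_apply, LinearMap.neg_apply, e2, bil_comm a x]
      linear_combination e
    have heq : LinearMap.ker (subOne (g * orefl ha)) = LinearMap.ker (subOne g) ⊓ LinearMap.ker φ := by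
      ext x
      rw [Submodule.mem_inf, hfix, hfix, LinearMap.mem_ker (f := φ)]
      refine ⟨fun h => ?_, fun h => (hinter x h.2).trans h.1⟩
      have h0 : φ x = 0 := by
        by_contra hφx
        rw [mul_smul, orefl_smul, ← eq_inv_smul_iff] at h
        have hs : (Q a)⁻¹ * bil Q x a ≠ 0 := mul_ne_zero (inv_ne_zero ha) hφx
        refine haU ⟨((Q a)⁻¹ * bil Q x a)⁻¹ • g⁻¹ • x, ?_⟩
        rw [smul_comm g, smul_inv_smul, ← smul_sub, ← h, sub_sub_cancel, inv_smul_smul₀ hs]
      exact ⟨(hinter x h0).symm.trans h, h0⟩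
    rw [heq]
    exact finrank_inf_ker_add_one _ φ ((hfix _).2 hx₀) hx₀'

end Abstract

section Matrix

variable {ι : Type} [Fintype ι] [DecidableEq ι] {F : Type*} [Field F]

theorem rank_sub_one_add_fix (Q : QuadraticForm F (ι → F)) (g : Cfsg.isometryGroup F ⇑Q) :
    (((g : Matrix.GeneralLinearGroup ι F) : Matrix ι ι F) - 1).rank +
      Module.finrank F (LinearMap.ker (subOne (isometryEquiv Q g))) = Fintype.card ι := by
  have h := LinearMap.finrank_range_add_finrank_ker (subOne (isometryEquiv Q g))
  rw [Module.finrank_fintype_fun_eq_card] at h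
  have e : (((g : Matrix.GeneralLinearGroup ι F) : Matrix ι ι F) - 1).mulVecLin =
      subOne (isometryEquiv Q g) := LinearMap.ext fun x => by
    rw [Matrix.mulVecLin_apply, Matrix.sub_mulVec, Matrix.one_mulVec, subOne_apply,
      isometryEquiv_smul]
  rw [Matrix.rank, e]
  exact h

/-- The rank of `g - 1` has the parity of any expression of `g` as a product of reflections. -/
theorem rank_sub_one_parity (Q : QuadraticForm F (ι → F))
    (hQ : (QuadraticMap.polarBilin Q).Nondegenerate) (g : Cfsg.isometryGroup F ⇑Q)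
    (vs : List (ι → F)) (hvs : ∀ v ∈ vs, Q v ≠ 0)
    (hg : ((g : Matrix.GeneralLinearGroup ι F) : Matrix ι ι F) =
      (vs.map fun v => reflectionMatrix ⇑Q v).prod) :
    Even (((g : Matrix.GeneralLinearGroup ι F) : Matrix ι ι F) - 1).rank ↔ Even vs.length := by
  induction vs using List.reverseRecOn generalizing g with
  | nil => simp [hg]
  | append_singleton vs v ih =>
    obtain ⟨g', hg'⟩ := QForm.exists_prod_refl Q vs fun w hw => hvs w (by simp [hw])
    have hv : Q v ≠ 0 := hvs v (by simp)
    obtain rfl : g = g' * QForm.refl Q v hv := Subtype.ext (Units.ext (by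
      rw [hg, List.map_append, List.prod_append, List.map_singleton, List.prod_singleton, ← hg']
      rfl))
    have e : isometryEquiv Q (g' * QForm.refl Q v hv) = isometryEquiv Q g' * orefl hv := by
      rw [map_mul, (isometryEquiv_eq_iff Q (QForm.refl Q v hv) (orefl hv) _
        (reflectionMatrix_mulVec Q hv)).2 rfl]
    have h1 := rank_sub_one_add_fix Q g'
    have h2 := rank_sub_one_add_fix Q (g' * QForm.refl Q v hv)
    rw [e] at h2
    have h3 := finrank_fix_mul_orefl (bil_nondegenerate Q hQ) (isometryEquiv Q g') hv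
    have ih' := ih g' (fun w hw => hvs w (by simp [hw])) hg'
    simp only [Nat.even_iff, List.length_append, List.length_singleton] at ih' ⊢
    omega

/-- In characteristic two, `Omega` consists of the isometries with `rank (g - 1)` even. -/
theorem mem_omega_iff_even_rank [Fintype F] [CharP F 2] (Q : QuadraticForm F (ι → F))
    (hQ : (QuadraticMap.polarBilin Q).Nondegenerate)
    (h : Fintype.card F ≠ 2 ∨ Fintype.card ι ≠ 4) (g : Cfsg.isometryGroup F ⇑Q) :
    g ∈ Cfsg.Omega F ⇑Q ↔
      Even (((g : Matrix.GeneralLinearGroup ι F) : Matrix ι ι F) - 1).rank := by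
  classical
  obtain ⟨vs, hvs, hg⟩ := QForm.exists_list hQ h g
  rw [QForm.mem_omega_iff_even hQ h g vs hvs hg, rank_sub_one_parity Q hQ g vs hvs hg]

end Matrix

end Cfsg.Agent.ClassicalSimple
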