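import Mathlib

/-!
Iwasawa's argument for a group acting linearly on a space with a set `S` of "singular" vectors
and an orthogonality relation `O` on them, phrased without projective points.

* `PointGeom`: transitivity on singular lines, stabiliser transitive on the two kinds of other lines.
* `PointGeom.rel_all`: an invariant equivalence relation on singular vectors that relates two
  different lines relates everything (primitivity on the singular points).
* `normal_eq_top_or_le_center`, `isSimpleGroup_quotient_center`: Iwasawa's criterion, with the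
  root subgroups only required to be solvable.
-/

namespace Cfsg.Agent.ClassicalSimple

/-- `w` is a multiple of `v`. -/
def SameLine (F : Type*) {V : Type*} [SMul F V] (v w : V) : Prop := ∃ a : F, a • v = w

variable {F V G : Type*} [Field F] [AddCommGroup V] [Module F V]
  [Group G] [DistribMulAction G V] [SMulCommClass G F V]

theorem sameLine_symm {v w : V} (hw : w ≠ 0) (h : SameLine F v w) : SameLine F w v := by
  obtain ⟨a, rfl⟩ := h
  exact ⟨a⁻¹, inv_smul_smul₀ (left_ne_zero_of_smul hw) v⟩

variable (F G) in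
/-- The transitivity data of a classical group on its singular points (rank at most 3). -/
structure PointGeom (S : V → Prop) (O : V → V → Prop) : Prop where
  ne_zero : ∀ {v}, S v → v ≠ 0
  map_S : ∀ (g : G) {v}, S v → S (g • v)
  O_symm : ∀ {v w}, O v w → O w v
  trans : ∀ {v w}, S v → S w → ∃ g : G, SameLine F w (g • v)
  trans_nonorth : ∀ {u v w}, S u → S v → S w → ¬ O u v → ¬ O u w →
    ∃ g : G, SameLine F u (g • u) ∧ SameLine F w (g • v)
  trans_orth : ∀ {u v w}, S u → S v → S w → O u v → O u w → ¬ SameLine F u v →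
    ¬ SameLine F u w → ∃ g : G, SameLine F u (g • u) ∧ SameLine F w (g • v)
  exists_nonorth : ∀ {u v}, S u → S v → ∃ z, S z ∧ ¬ O u z ∧ ¬ O z v
  exists_orth : ∀ {u v d}, S u → S v → ¬ O u v → S d → O u d → ¬ SameLine F u d →
    ∃ z, S z ∧ O u z ∧ O z v ∧ ¬ SameLine F u z

namespace PointGeom

variable {S : V → Prop} {O : V → V → Prop}

/-- Primitivity: an invariant equivalence relation on singular vectors, constant on lines,
that relates two different lines is the full relation. -/
theorem rel_all (P : PointGeom F G S O) (r : V → V → Prop)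
    (hline : ∀ {v w}, S v → S w → SameLine F v w → r v w)
    (hsymm : ∀ {v w}, S v → S w → r v w → r w v)
    (htr : ∀ {u v w}, S u → S v → S w → r u v → r v w → r u w)
    (hinv : ∀ (g : G) {v w}, S v → S w → r v w → r (g • v) (g • w))
    {u₀ v₀ : V} (hu₀ : S u₀) (hv₀ : S v₀) (h₀ : r u₀ v₀) (hne : ¬ SameLine F u₀ v₀)
    {v w : V} (hv : S v) (hw : S w) : r v w := by
  suffices h : ∀ v w, S v → S w → r v w from h v w hv hw
  clear hv hw v w
  -- move the pair `(u₀, v₀)` so that the first entry is `u`
  have move : ∀ {u}, S u → ∃ x, S x ∧ r u x ∧ ¬ SameLine F u x ∧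
      ∃ g : G, x = g • v₀ ∧ SameLine F u (g • u₀) := by
    intro u hu
    obtain ⟨g, hg⟩ := P.trans hu₀ hu
    refine ⟨g • v₀, P.map_S g hv₀, ?_, ?_, g, rfl, hg⟩
    · exact htr hu (P.map_S g hu₀) (P.map_S g hv₀) (hline hu (P.map_S g hu₀) hg)
        (hinv g hu₀ hv₀ h₀)
    · intro h
      apply hne
      obtain ⟨a, ha⟩ := h
      obtain ⟨b, hb⟩ := sameLine_symm (P.ne_zero (P.map_S g hu₀)) hg
      refine ⟨a * b, MulAction.injective g ?_⟩
      change g • ((a * b) • u₀) = g • v₀
      rw [smul_comm g, mul_smul, hb, ha]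
  -- transport `r u v` to `r u w` by the stabiliser of the line of `u`
  have carry : ∀ {u v w}, S u → S v → S w → r u v →
      (∃ g : G, SameLine F u (g • u) ∧ SameLine F w (g • v)) → r u w := by
    rintro u v w hu hv hw huv ⟨g, hgu, hgv⟩
    exact htr hu (P.map_S g hv) hw
      (htr hu (P.map_S g hu) (P.map_S g hv) (hline hu (P.map_S g hu) hgu) (hinv g hu hv huv))
      (hsymm hw (P.map_S g hv) (hline hw (P.map_S g hv) hgv))
  by_cases hcase : ∃ u v, S u ∧ S v ∧ r u v ∧ ¬ O u v
  · obtain ⟨u₁, v₁, hu₁, hv₁, h₁, hO₁⟩ := hcase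
    have hb : ∀ {w}, S w → r u₁ w := by
      intro w hw
      by_cases hw' : O u₁ w
      · obtain ⟨z, hz, hzu, hzw⟩ := P.exists_nonorth hu₁ hw
        have hrz : r u₁ z := carry hu₁ hv₁ hz h₁ (P.trans_nonorth hu₁ hv₁ hz hO₁ hzu)
        have hrzu : r z u₁ := hsymm hu₁ hz hrz
        exact htr hu₁ hz hw hrz
          (carry hz hu₁ hw hrzu (P.trans_nonorth hz hu₁ hw (fun h => hzu (P.O_symm h)) hzw))
      · exact carry hu₁ hv₁ hw h₁ (P.trans_nonorth hu₁ hv₁ hw hO₁ hw')
    intro v w hv hw
    exact htr hv hu₁ hw (hsymm hu₁ hv (hb hv)) (hb hw)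
  · push Not at hcase
    have orth : ∀ {u w}, S u → S w → O u w → r u w := by
      intro u w hu hw hO
      by_cases h : SameLine F u w
      · exact hline hu hw h
      obtain ⟨x, hx, hrx, hxl, -⟩ := move hu
      exact carry hu hx hw hrx (P.trans_orth hu hx hw (hcase u x hu hx hrx) hO hxl h)
    intro v w hv hw
    by_cases h : O v w
    · exact orth hv hw h
    obtain ⟨x, hx, hrx, hxl, -⟩ := move hv
    obtain ⟨z, hz, hvz, hzw, -⟩ := P.exists_orth hv hw h hx (hcase v x hv hx hrx) hxl
    exact htr hv hz hw (orth hv hz hvz) (orth hz hw hzw)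

/-- The orbits of a normal subgroup: it moves some singular line, or else fixes all of them;
in the first case it is transitive on singular lines. -/
theorem normal_trans (P : PointGeom F G S O) (N : Subgroup G) [N.Normal]
    {u₀ : V} (hu₀ : S u₀) {n₀ : G} (hn₀ : n₀ ∈ N) (hmove : ¬ SameLine F u₀ (n₀ • u₀))
    {v w : V} (hv : S v) (hw : S w) : ∃ n ∈ N, SameLine F w (n • v) := by
  refine P.rel_all (fun v w => ∃ n ∈ N, SameLine F w (n • v)) ?_ ?_ ?_ ?_ hu₀ (P.map_S n₀ hu₀)
    ⟨n₀, hn₀, 1, one_smul _ _⟩ hmove hv hw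
  · intro v w hv hw h
    exact ⟨1, N.one_mem, by rw [one_smul]; exact sameLine_symm (P.ne_zero hw) h⟩
  · rintro v w hv hw ⟨n, hn, a, ha⟩
    refine ⟨n⁻¹, N.inv_mem hn, sameLine_symm (P.ne_zero hv) ⟨a, ?_⟩⟩
    rw [← smul_comm n⁻¹ a, ha, inv_smul_smul]
  · rintro u v w hu hv hw ⟨n, hn, a, ha⟩ ⟨m, hm, b, hb⟩
    refine ⟨m * n, N.mul_mem hm hn, a * b, ?_⟩
    rw [mul_smul, mul_smul, ← ha, smul_comm m a, ← hb]
  · rintro g v w hv hw ⟨n, hn, a, ha⟩
    refine ⟨g * n * g⁻¹, ‹N.Normal›.conj_mem n hn g, a, ?_⟩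
    rw [mul_smul, inv_smul_smul, mul_smul, ← ha, smul_comm g a]

end PointGeom

/-- A perfect solvable group is trivial, phrased for a surjection from a solvable group. -/
theorem eq_top_of_sup_solvable_eq_top (hperf : commutator G = ⊤) (N A : Subgroup G) [N.Normal]
    (hA : Group.IsSolvable A) (h : N ⊔ A = ⊤) : N = ⊤ := by
  have hsurj : Function.Surjective ((QuotientGroup.mk' N).comp A.subtype) := by
    rw [← MonoidHom.range_eq_top, MonoidHom.range_comp, A.range_subtype]
    have := congrArg (Subgroup.map (QuotientGroup.mk' N)) h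
    rwa [Subgroup.map_sup, QuotientGroup.map_mk'_self, bot_sup_eq,
      Subgroup.map_top_of_surjective _ (QuotientGroup.mk'_surjective N)] at this
  haveI := hA
  haveI hsolq : Group.IsSolvable (G ⧸ N) := Group.isSolvable_of_surjective hsurj
  have hc : commutator (G ⧸ N) = ⊤ := by
    have hs : Function.Surjective (QuotientGroup.mk' N) := QuotientGroup.mk'_surjective N
    rw [commutator_def, ← Subgroup.map_top_of_surjective _ hs, ← Subgroup.map_commutator,
      ← commutator_def, hperf]
  by_contra hN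
  have : Nontrivial (G ⧸ N) := by
    obtain ⟨x, hx⟩ : ∃ x, x ∉ N := by
      by_contra hh
      push Not at hh
      exact hN (eq_top_iff.2 fun x _ => hh x)
    exact ⟨⟨x, 1, fun hh => hx ((QuotientGroup.eq_one_iff x).1 hh)⟩⟩
  exact (Group.IsSolvable.commutator_lt_top_of_nontrivial (G ⧸ N)).ne hc

variable {S : V → Prop} {O : V → V → Prop}

/-- Iwasawa's criterion: a normal subgroup of a perfect group with a point geometry and solvable
root subgroups generating it is central or everything. -/
theorem normal_eq_top_or_le_center (P : PointGeom F G S O) (hperf : commutator G = ⊤)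
    (T : V → Subgroup G) (hsol : ∀ {v}, S v → Group.IsSolvable (T v))
    (hline : ∀ {v w}, S v → SameLine F v w → S w → T v = T w)
    (hconj : ∀ (g : G) {v x}, S v → x ∈ T v → g * x * g⁻¹ ∈ T (g • v))
    (hgen : ⨆ v, ⨆ (_ : S v), T v = ⊤)
    (hker : ∀ g : G, (∀ v, S v → SameLine F v (g • v)) → g ∈ Subgroup.center G)
    (N : Subgroup G) [N.Normal] : N = ⊤ ∨ N ≤ Subgroup.center G := by
  by_cases hN : ∀ n ∈ N, ∀ v, S v → SameLine F v (n • v)
  · exact Or.inr fun n hn => hker n (hN n hn)
  push Not at hN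
  obtain ⟨n₀, hn₀, u, hu, hmove⟩ := hN
  refine Or.inl (eq_top_of_sup_solvable_eq_top hperf N (T u) (hsol hu) (eq_top_iff.2 ?_))
  rw [← hgen, iSup₂_le_iff]
  intro v hv x hx
  obtain ⟨n, hn, hnv⟩ := P.normal_trans N hu hn₀ hmove hv hu
  have hx' : n * x * n⁻¹ ∈ T u := by
    rw [hline hu hnv (P.map_S n hv)]
    exact hconj n hv hx
  have hn' : n ∈ N ⊔ T u := Subgroup.mem_sup_left hn
  have := mul_mem (mul_mem (inv_mem hn') (Subgroup.mem_sup_right (S := N) hx')) hn'
  rwa [show n⁻¹ * (n * x * n⁻¹) * n = x by group] at this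

/-- A perfect nontrivial group in which every normal subgroup is central or everything has
simple central quotient. -/
theorem isSimpleGroup_quotient_center (hperf : commutator G = ⊤) (hne : Nontrivial G)
    (h : ∀ N : Subgroup G, N.Normal → N = ⊤ ∨ N ≤ Subgroup.center G) :
    IsSimpleGroup (G ⧸ Subgroup.center G) := by
  have hZ : Subgroup.center G ≠ ⊤ := by
    intro hh
    have h1 : commutator G = ⊥ := by
      rw [commutator_def, Subgroup.commutator_eq_bot_iff_le_centralizer]
      intro x _
      rw [Subgroup.mem_centralizer_iff]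
      intro y _
      exact (Subgroup.mem_center_iff.1 (hh ▸ Subgroup.mem_top x) y)
    exact bot_ne_top (h1.symm.trans hperf)
  have : Nontrivial (G ⧸ Subgroup.center G) := by
    obtain ⟨x, hx⟩ : ∃ x, x ∉ Subgroup.center G := by
      by_contra hh
      push Not at hh
      exact hZ (eq_top_iff.2 fun x _ => hh x)
    exact ⟨⟨x, 1, fun hh => hx ((QuotientGroup.eq_one_iff x).1 hh)⟩⟩
  refine ⟨fun M hM => ?_⟩
  have hs := QuotientGroup.mk'_surjective (Subgroup.center G)
  rcases h (M.comap (QuotientGroup.mk' (Subgroup.center G))) inferInstance with h1 | h1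
  · right
    rw [← Subgroup.map_comap_eq_self_of_surjective hs M, h1,
      Subgroup.map_top_of_surjective _ hs]
  · left
    rw [← Subgroup.map_comap_eq_self_of_surjective hs M, Subgroup.map_eq_bot_iff,
      QuotientGroup.ker_mk']
    exact h1

end Cfsg.Agent.ClassicalSimple
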