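import Cfsg.Agent.S5016

/-!
`SL₂(k)` acting on a plane `⟨p, r⟩` of a vector space over an extension `F` of `k`, fixing a
complement, and its compatibility with sesquilinear forms.
-/

namespace Cfsg.Agent.ClassicalSimple

variable {k F V : Type*} [Field k] [Field F] [AddCommGroup V] [Module F V]

/-- Coordinates on the plane spanned by `p` and `r`. -/
structure PlaneCoords (F V : Type*) [Field F] [AddCommGroup V] [Module F V] where
  p : V
  r : V
  α : Module.Dual F V
  β : Module.Dual F V
  αp : α p = 1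
  αr : α r = 0
  βp : β p = 0
  βr : β r = 1

namespace PlaneCoords

variable (P : PlaneCoords F V) (ι : k →+* F)

/-- The linear map of a 2 × 2 matrix, as the identity on `ker α ⊓ ker β`. -/
def planeLin (g : Matrix (Fin 2) (Fin 2) k) : V →ₗ[F] V :=
  LinearMap.id + ((ι (g 0 0) - 1) • P.α + ι (g 0 1) • P.β).smulRight P.p +
    (ι (g 1 0) • P.α + (ι (g 1 1) - 1) • P.β).smulRight P.r

theorem planeLin_apply (g : Matrix (Fin 2) (Fin 2) k) (x : V) :
    P.planeLin ι g x = x + ((ι (g 0 0) - 1) * P.α x + ι (g 0 1) * P.β x) • P.p +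
      (ι (g 1 0) * P.α x + (ι (g 1 1) - 1) * P.β x) • P.r := by
  simp [planeLin]

theorem planeLin_one : P.planeLin ι 1 = LinearMap.id :=
  LinearMap.ext fun x => by simp [planeLin_apply]

theorem planeLin_mul (g h : Matrix (Fin 2) (Fin 2) k) :
    P.planeLin ι (g * h) = (P.planeLin ι g).comp (P.planeLin ι h) := by
  refine LinearMap.ext fun x => ?_
  simp only [LinearMap.comp_apply, planeLin_apply, map_add, map_smul, smul_eq_mul, P.αp, P.αr,
    P.βp, P.βr, Matrix.mul_apply, Fin.sum_univ_two, map_mul]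
  module

/-- `SL₂(k)` acting on the plane. -/
noncomputable def planeHom : Matrix.SpecialLinearGroup (Fin 2) k →* (V ≃ₗ[F] V) where
  toFun g := LinearEquiv.ofLinearMap (P.planeLin ι g.1) (P.planeLin ι (g⁻¹).1)
    (by rw [← P.planeLin_mul, ← Matrix.SpecialLinearGroup.coe_mul, mul_inv_cancel,
      Matrix.SpecialLinearGroup.coe_one, planeLin_one])
    (by rw [← P.planeLin_mul, ← Matrix.SpecialLinearGroup.coe_mul, inv_mul_cancel,
      Matrix.SpecialLinearGroup.coe_one, planeLin_one])
  map_one' := LinearEquiv.ext fun x => by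
    change P.planeLin ι (1 : Matrix.SpecialLinearGroup (Fin 2) k).1 x = x
    rw [Matrix.SpecialLinearGroup.coe_one, planeLin_one]; rfl
  map_mul' g h := LinearEquiv.ext fun x => by
    change P.planeLin ι (g * h).1 x = P.planeLin ι g.1 (P.planeLin ι h.1 x)
    rw [Matrix.SpecialLinearGroup.coe_mul, planeLin_mul]; rfl

theorem planeHom_apply (g : Matrix.SpecialLinearGroup (Fin 2) k) (x : V) :
    P.planeHom ι g x = x + ((ι (g.1 0 0) - 1) * P.α x + ι (g.1 0 1) * P.β x) • P.p +
      (ι (g.1 1 0) * P.α x + (ι (g.1 1 1) - 1) * P.β x) • P.r :=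
  P.planeLin_apply ι g.1 x

theorem planeHom_U (t : k) (x : V) :
    P.planeHom ι (S5016.U t) x = x + (ι t * P.β x) • P.p := by
  simp [planeHom_apply, S5016.U_coe]

theorem planeHom_L (t : k) (x : V) :
    P.planeHom ι (S5016.L t) x = x + (ι t * P.α x) • P.r := by
  simp [planeHom_apply, S5016.L_coe]

theorem eq_one_of_fix (g : Matrix.SpecialLinearGroup (Fin 2) k)
    (hp : P.planeHom ι g P.p = P.p) (hr : P.planeHom ι g P.r = P.r) : g = 1 := by
  have a1 := congrArg P.α hp
  have a2 := congrArg P.β hp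
  have a3 := congrArg P.α hr
  have a4 := congrArg P.β hr
  simp only [planeHom_apply, map_add, map_smul, smul_eq_mul, P.αp, P.αr, P.βp, P.βr, mul_one,
    mul_zero, add_zero, zero_add, add_sub_cancel] at a1 a2 a3 a4
  ext i j
  rw [Matrix.SpecialLinearGroup.coe_one]
  fin_cases i <;> fin_cases j <;> simp
  · exact ι.injective (by rw [a1, map_one])
  · exact ι.injective (by rw [a3, map_zero])
  · exact ι.injective (by rw [a2, map_zero])
  · exact ι.injective (by rw [a4, map_one])

theorem planeHom_injective : Function.Injective (P.planeHom ι) :=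
  (injective_iff_map_eq_one _).2 fun g hg =>
    P.eq_one_of_fix ι g (by rw [hg]; rfl) (by rw [hg]; rfl)

/-- `planeHom` preserves a sesquilinear form that pairs `p` and `r` skew-symmetrically. -/
theorem planeHom_form {σ : F →+* F} {h : V →ₛₗ[σ] V →ₗ[F] F} {u : F}
    (hfix : ∀ c : k, σ (ι c) = ι c) (hpp : h P.p P.p = 0) (hrr : h P.r P.r = 0)
    (hpr : h P.p P.r = u) (hrp : h P.r P.p = -u)
    (h1 : ∀ y, h P.p y = u * P.β y) (h2 : ∀ y, h P.r y = -u * P.α y)
    (h3 : ∀ x, h x P.p = -u * σ (P.β x)) (h4 : ∀ x, h x P.r = u * σ (P.α x))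
    (g : Matrix.SpecialLinearGroup (Fin 2) k) (x y : V) :
    h (P.planeHom ι g x) (P.planeHom ι g y) = h x y := by
  have hd := congrArg ι ((Matrix.det_fin_two g.1).symm.trans g.2)
  simp only [map_sub, map_mul, map_one] at hd
  simp only [planeHom_apply, map_add, map_smulₛₗ, LinearMap.add_apply, LinearMap.smul_apply,
    smul_eq_mul, RingHom.id_apply, map_sub, map_mul, map_one, hfix, hpp, hrr, hpr, hrp, h1, h2,
    h3, h4]
  linear_combination (u * σ (P.α x) * P.β y - u * σ (P.β x) * P.α y) * hd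

end PlaneCoords

end Cfsg.Agent.ClassicalSimple
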