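import Cfsg.Agent.Lib.ClassicalSimple.Iwasawa
import Cfsg.Agent.Lib.ClassicalSimple.Linear
import Cfsg.Agent.Lib.Forms.Isom

/-!
Orthogonal groups of quadratic forms with nondegenerate polar form: reflections, Siegel
transformations, the Cartan–Dieudonné type generation by both (any field).
-/

namespace Cfsg.Agent.ClassicalSimple

variable {F V : Type*} [Field F] [AddCommGroup V] [Module F V]

/-- The isometry group of a quadratic form. -/
abbrev OQ (Q : QuadraticForm F V) : Subgroup (V ≃ₗ[F] V) :=
  Forms.isom F (fun u _ => Q u : V → V → F)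

/-- The polar form of `Q`, bilinear. -/
def bil (Q : QuadraticForm F V) : LinearMap.BilinForm F V := QuadraticMap.polarBilin Q

theorem bil_apply (Q : QuadraticForm F V) (x y : V) : bil Q x y = QuadraticMap.polar Q x y := rfl

variable {Q : QuadraticForm F V}

theorem OQ.ext' {g h : OQ Q} (e : ∀ x : V, g • x = h • x) : g = h :=
  Subtype.ext (LinearEquiv.ext e)

theorem quad_smul (g : OQ Q) (x : V) : Q (g • x) = Q x := g.2 x x

theorem bil_comm (x y : V) : bil Q x y = bil Q y x := QuadraticMap.polar_comm Q x y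

theorem quad_add (x y : V) : Q (x + y) = Q x + Q y + bil Q x y := QuadraticMap.map_add Q x y

theorem quad_smul_vec (a : F) (x : V) : Q (a • x) = a * a * Q x := QuadraticMap.map_smul Q a x

theorem bil_self (x : V) : bil Q x x = 2 * Q x := by
  simp [bil_apply, QuadraticMap.polar_self]

theorem bil_self_of_singular {u : V} (hu : Q u = 0) : bil Q u u = 0 := by rw [bil_self, hu, mul_zero]

theorem quad_sub (x y : V) : Q (x - y) = Q x + Q y - bil Q x y := by
  rw [sub_eq_add_neg, quad_add, QuadraticMap.map_neg, map_neg, sub_eq_add_neg]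

theorem bil_smul_smul (g : OQ Q) (x y : V) : bil Q (g • x) (g • y) = bil Q x y := by
  have h := quad_smul g (x + y)
  rw [smul_add, quad_add, quad_add, quad_smul, quad_smul] at h
  linear_combination h

theorem bil_fixed_sub {g : OQ Q} {y : V} (hy : g • y = y) (z : V) : bil Q y (g • z - z) = 0 := by
  rw [map_sub]
  nth_rw 1 [← hy]
  rw [bil_smul_smul, sub_self]

/-- The linear map `x ↦ x + f(x,u) w - (f(x,w) + Q(w) f(x,u)) u`. -/
def siegelLin (Q : QuadraticForm F V) (u w : V) : V →ₗ[F] V :=
  LinearMap.id + ((LinearMap.flip (bil Q)) u).smulRight w -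
    ((LinearMap.flip (bil Q)) w + Q w • (LinearMap.flip (bil Q)) u).smulRight u

theorem siegelLin_apply (u w x : V) :
    siegelLin Q u w x = x + bil Q x u • w - (bil Q x w + Q w * bil Q x u) • u := by
  simp [siegelLin]

theorem siegelLin_siegelLin {u w w' : V} (hu : Q u = 0) (hw : bil Q u w = 0)
    (hw' : bil Q u w' = 0) (x : V) :
    siegelLin Q u w (siegelLin Q u w' x) = siegelLin Q u (w + w') x := by
  simp only [siegelLin_apply, map_add, map_sub, map_smul, LinearMap.add_apply,
    LinearMap.sub_apply, LinearMap.smul_apply, smul_eq_mul, bil_self_of_singular hu, hw,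
    (bil_comm w' u).trans hw', quad_add, bil_comm w' w, mul_zero]
  module

theorem siegelLin_zero (u x : V) : siegelLin Q u 0 x = x := by simp [siegelLin_apply]

/-- The Siegel transformation (Eichler transvection) of a singular `u` and `w ⊥ u`. -/
def siegel {u w : V} (hu : Q u = 0) (hw : bil Q u w = 0) : OQ Q :=
  ⟨LinearEquiv.ofLinearMap (siegelLin Q u w) (siegelLin Q u (-w))
    (LinearMap.ext fun x => by
      simp [siegelLin_siegelLin hu hw (w' := -w) (by simp [hw]), siegelLin_zero])
    (LinearMap.ext fun x => by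
      simp [siegelLin_siegelLin hu (w := -w) (by simp [hw]) hw, siegelLin_zero]), fun x _ => by
    show Q (siegelLin Q u w x) = Q x
    rw [siegelLin_apply, sub_eq_add_neg, ← neg_smul, quad_add, quad_add, quad_smul_vec,
      quad_smul_vec, hu]
    simp only [map_add, map_smul, LinearMap.add_apply, LinearMap.smul_apply, smul_eq_mul,
      (bil_comm w u).trans hw]
    ring⟩

theorem siegel_smul {u w : V} (hu : Q u = 0) (hw : bil Q u w = 0) (x : V) :
    siegel hu hw • x = x + bil Q x u • w - (bil Q x w + Q w * bil Q x u) • u :=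
  siegelLin_apply u w x

theorem siegel_congr {u w u' w' : V} (hu : Q u = 0) (hw : bil Q u w = 0) (hu' : Q u' = 0)
    (hw' : bil Q u' w' = 0) (e : u = u') (e' : w = w') : siegel hu hw = siegel hu' hw' := by
  subst e e'; rfl

theorem siegel_mul {u w w' : V} (hu : Q u = 0) (hw : bil Q u w = 0) (hw' : bil Q u w' = 0) :
    siegel hu hw * siegel hu hw' = siegel hu (w := w + w') (by simp [hw, hw']) :=
  OQ.ext' fun x => siegelLin_siegelLin hu hw hw' x

theorem siegel_smul_self {u : V} (a : F) (hu : Q u = 0) (hw : bil Q u (a • u) = 0) :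
    siegel hu hw = 1 :=
  OQ.ext' fun x => by
    rw [siegel_smul, one_smul, map_smul, quad_smul_vec, hu, smul_eq_mul, mul_zero, zero_mul,
      add_zero, smul_smul, mul_comm a, add_sub_cancel_right]

theorem siegel_zero {u : V} (hu : Q u = 0) (hw : bil Q u (0 : V) = 0) : siegel hu hw = 1 :=
  OQ.ext' fun x => by simp [siegel_smul]

theorem siegel_scale {u w : V} (a : F) (hu : Q (a • u) = 0) (hw : bil Q (a • u) w = 0)
    (hu' : Q u = 0) (hw' : bil Q u (a • w) = 0) : siegel hu hw = siegel hu' hw' :=
  OQ.ext' fun x => by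
    simp only [siegel_smul, map_smul, quad_smul_vec, smul_eq_mul]
    module

theorem siegel_conj (g : OQ Q) {u w : V} (hu : Q u = 0) (hw : bil Q u w = 0) :
    g * siegel hu hw * g⁻¹ =
      siegel (u := g • u) (w := g • w) (by rw [quad_smul, hu]) (by rw [bil_smul_smul, hw]) := by
  refine OQ.ext' fun x => ?_
  have h1 : ∀ v, bil Q (g⁻¹ • x) v = bil Q x (g • v) := fun v => by
    rw [← bil_smul_smul g, smul_inv_smul]
  rw [mul_smul, mul_smul, siegel_smul, siegel_smul, h1, h1, quad_smul, smul_sub, smul_add,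
    smul_inv_smul, smul_comm g, smul_comm g]

/-- The set of all Siegel transformations. -/
def siegelSet (Q : QuadraticForm F V) : Set (OQ Q) :=
  {g | ∃ (u w : V) (hu : Q u = 0) (hw : bil Q u w = 0), g = siegel hu hw}

/-- The group generated by the Siegel transformations. -/
def siegelGroup (Q : QuadraticForm F V) : Subgroup (OQ Q) := Subgroup.closure (siegelSet Q)

theorem siegel_mem {u w : V} (hu : Q u = 0) (hw : bil Q u w = 0) :
    siegel hu hw ∈ siegelGroup Q :=
  Subgroup.subset_closure ⟨u, w, hu, hw, rfl⟩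

theorem siegelGroup_normal : (siegelGroup Q).Normal := by
  refine ⟨fun n hn g => ?_⟩
  have h : (siegelGroup Q).map (MulAut.conj g).toMonoidHom ≤ siegelGroup Q := by
    rw [siegelGroup, MonoidHom.map_closure, Subgroup.closure_le]
    rintro _ ⟨_, ⟨u, w, hu, hw, rfl⟩, rfl⟩
    simp only [MulEquiv.coe_toMonoidHom, MulAut.conj_apply, SetLike.mem_coe, siegel_conj g hu hw]
    exact siegel_mem _ _
  exact h ⟨n, hn, rfl⟩

/-- The reflection (orthogonal transvection in characteristic two) of an anisotropic vector. -/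
noncomputable def orefl {b : V} (hb : Q b ≠ 0) : OQ Q :=
  have hinv : ∀ x : V, (LinearMap.id - ((Q b)⁻¹ • (LinearMap.flip (bil Q)) b).smulRight b : V →ₗ[F] V)
      ((LinearMap.id - ((Q b)⁻¹ • (LinearMap.flip (bil Q)) b).smulRight b : V →ₗ[F] V) x) = x :=
    fun x => by
      simp only [LinearMap.sub_apply, LinearMap.id_coe, id_eq, LinearMap.smulRight_apply,
        LinearMap.smul_apply, LinearMap.flip_apply, map_sub, map_smul, smul_eq_mul, bil_self]
      match_scalars <;> field_simp <;> ring
  ⟨LinearEquiv.ofLinearMap (LinearMap.id - ((Q b)⁻¹ • (LinearMap.flip (bil Q)) b).smulRight b)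
    (LinearMap.id - ((Q b)⁻¹ • (LinearMap.flip (bil Q)) b).smulRight b)
    (LinearMap.ext hinv) (LinearMap.ext hinv), fun x _ => by
    show Q (x - ((Q b)⁻¹ * bil Q x b) • b) = Q x
    rw [quad_sub, quad_smul_vec, map_smul, smul_eq_mul]
    field_simp
    ring⟩

theorem orefl_smul {b : V} (hb : Q b ≠ 0) (x : V) :
    orefl hb • x = x - ((Q b)⁻¹ * bil Q x b) • b := rfl

theorem orefl_conj (g : OQ Q) {b : V} (hb : Q b ≠ 0) :
    g * orefl hb * g⁻¹ = orefl (b := g • b) (by rwa [quad_smul]) := by
  refine OQ.ext' fun x => ?_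
  have h1 : ∀ v, bil Q (g⁻¹ • x) v = bil Q x (g • v) := fun v => by
    rw [← bil_smul_smul g, smul_inv_smul]
  rw [mul_smul, mul_smul, orefl_smul, orefl_smul, h1, quad_smul, smul_sub, smul_inv_smul,
    smul_comm g]

/-- The set of all reflections. -/
def oreflSet (Q : QuadraticForm F V) : Set (OQ Q) :=
  {g | ∃ (b : V) (hb : Q b ≠ 0), g = orefl hb}

variable (hN : (bil Q).Nondegenerate)
include hN

theorem orth_exists_ne_zero {v : V} (hv : v ≠ 0) : ∃ y, bil Q v y ≠ 0 := by
  by_contra h
  push Not at h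
  exact hv (hN.1 v h)

theorem linearIndependent_bil {ι : Type*} {v : ι → V} (hv : LinearIndependent F v) :
    LinearIndependent F fun i => bil Q (v i) :=
  hv.map' (bil Q) (LinearMap.ker_eq_bot'.2 fun m hm => hN.1 m fun y => by rw [hm]; rfl)

/-- Generation by reflections and Siegel transformations (any field, any characteristic). -/
theorem orefl_siegel_generate [FiniteDimensional F V] :
    Subgroup.closure (oreflSet Q ∪ siegelSet Q) = ⊤ := by
  set H := Subgroup.closure (oreflSet Q ∪ siegelSet Q)
  suffices h : ∀ n, ∀ g : OQ Q, fixCodim (g : V ≃ₗ[F] V) ≤ n → g ∈ H from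
    eq_top_iff.2 fun g _ => h _ g le_rfl
  intro n
  induction n using Nat.strong_induction_on with
  | _ n ih =>
  intro g hg
  have finish : ∀ (k : OQ Q), k ∈ H → (∃ x : V, (k * g) • x = x ∧ g • x ≠ x) →
      (∀ y : V, g • y = y → k • y = y) → g ∈ H := by
    rintro k hk ⟨x, hx, hgx⟩ hfix
    have hlt : fixCodim ((k * g : OQ Q) : V ≃ₗ[F] V) < fixCodim (g : V ≃ₗ[F] V) :=
      fixCodim_lt (fun y hy => by
        change g • y = y at hy
        change (k * g) • y = y
        rw [mul_smul, hy, hfix y hy]) hx hgx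
    have := ih _ (lt_of_lt_of_le hlt hg) _ le_rfl
    simpa using mul_mem (inv_mem hk) this
  by_cases h : ∃ x : V, Q (g • x - x) ≠ 0
  · obtain ⟨x, hx⟩ := h
    refine finish (orefl hx) (Subgroup.subset_closure (Or.inl ⟨_, hx, rfl⟩)) ⟨x, ?_, ?_⟩
      fun y hy => by rw [orefl_smul, bil_fixed_sub hy]; simp
    · rw [mul_smul, orefl_smul]
      have e : bil Q (g • x) (g • x - x) = Q (g • x - x) := by
        rw [map_sub, bil_self, quad_sub, quad_smul]
        ring
      rw [e, inv_mul_cancel₀ hx, one_smul, sub_sub_cancel]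
    · intro e
      exact hx (by simp [e])
  push Not at h
  by_cases hg1 : ∀ z : V, g • z = z
  · rw [show g = 1 from OQ.ext' fun z => by rw [hg1 z, one_smul]]
    exact one_mem _
  push Not at hg1
  obtain ⟨x₀, hx₀⟩ := hg1
  obtain ⟨z, hz⟩ : ∃ z : V, bil Q x₀ (g • z - z) ≠ 0 := by
    by_contra hc
    push Not at hc
    refine hx₀ ?_
    have e : g⁻¹ • x₀ - x₀ = 0 := hN.1 _ fun z => by
      have h1 : bil Q (g⁻¹ • x₀) z = bil Q x₀ (g • z) := by
        rw [← bil_smul_smul g, smul_inv_smul]
      have h2 := hc z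
      rw [map_sub, sub_eq_zero] at h2
      rw [LinearMap.map_sub, LinearMap.sub_apply, h1, h2, sub_self]
    rw [sub_eq_zero, inv_smul_eq_iff] at e
    exact e.symm
  set a := g • x₀ - x₀ with ha_def
  set b := (bil Q x₀ (g • z - z))⁻¹ • (g • z - z) with hb_def
  have ha : Q a = 0 := h x₀
  have hab0 : bil Q a (g • z - z) = 0 := by
    have h1 := h (x₀ + z)
    rw [smul_add, add_sub_add_comm, quad_add, ha, h z] at h1
    simpa only [zero_add] using h1
  have hab : bil Q a b = 0 := by rw [hb_def, map_smul, hab0, smul_zero]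
  have hxa : bil Q x₀ a = 0 := by
    have h1 := h x₀
    rw [quad_sub, quad_smul] at h1
    rw [ha_def, map_sub, bil_self, bil_comm]
    linear_combination -h1
  have hxb : bil Q x₀ b = 1 := by rw [hb_def, map_smul, smul_eq_mul, inv_mul_cancel₀ hz]
  refine finish (siegel ha hab) (Subgroup.subset_closure (Or.inr ⟨_, _, ha, hab, rfl⟩))
    ⟨x₀, ?_, hx₀⟩ fun y hy => ?_
  · rw [mul_smul, show g • x₀ = x₀ + a by rw [ha_def, add_sub_cancel], siegel_smul]
    simp [map_add, LinearMap.add_apply, hxa, hxb, bil_self_of_singular ha, hab]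
  · have hyb : bil Q y b = 0 := by rw [hb_def, map_smul, bil_fixed_sub hy, smul_zero]
    rw [siegel_smul, ha_def, bil_fixed_sub hy, hyb]
    simp

end Cfsg.Agent.ClassicalSimple
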