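import Cfsg.Agent.Lib.ClassicalSimple.SympMatrix
import Cfsg.Prelude.Def_Classical

/-!
In characteristic two, over a perfect field, `O_{2m+1}(F)` is isomorphic to `Sp_2m(F)`.
-/

namespace Cfsg.Agent.ClassicalSimple

open scoped Matrix

variable {m : ℕ} {F : Type*} [Field F] [CharP F 2]

theorem quadFormPlus_add (u v : Fin m ⊕ Fin m → F) :
    quadFormPlus m F (u + v) = quadFormPlus m F u + quadFormPlus m F v + sympForm m F u v := by
  rw [sympForm, Matrix.J, Matrix.fromBlocks_mulVec]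
  simp only [dotProduct, Fintype.sum_sum_type, quadFormPlus, Pi.add_apply, Sum.elim_inl,
    Sum.elim_inr, Matrix.zero_mulVec, Matrix.neg_mulVec, Matrix.one_mulVec, add_zero, zero_add,
    Pi.neg_apply, Function.comp_apply, CharTwo.neg_eq, ← Finset.sum_add_distrib]
  exact Finset.sum_congr rfl fun i _ => by ring

theorem quadFormPlus_smul (c : F) (u : Fin m ⊕ Fin m → F) :
    quadFormPlus m F (c • u) = c ^ 2 * quadFormPlus m F u := by
  simp only [quadFormPlus, Pi.smul_apply, smul_eq_mul, Finset.mul_sum]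
  exact Finset.sum_congr rfl fun i _ => by ring

theorem quadFormOdd_eq (w : Unit ⊕ (Fin m ⊕ Fin m) → F) :
    quadFormOdd m F w = w (.inl ()) ^ 2 + quadFormPlus m F (w ∘ Sum.inr) := rfl

theorem quadFormOdd_add (u v : Unit ⊕ (Fin m ⊕ Fin m) → F) :
    quadFormOdd m F (u + v) =
      quadFormOdd m F u + quadFormOdd m F v + sympForm m F (u ∘ Sum.inr) (v ∘ Sum.inr) := by
  rw [quadFormOdd_eq, quadFormOdd_eq, quadFormOdd_eq,
    show (u + v) ∘ Sum.inr = u ∘ Sum.inr + v ∘ Sum.inr from rfl, quadFormPlus_add, Pi.add_apply,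
    CharTwo.add_sq]
  ring

/-- An isometry as a matrix. -/
abbrev oddMat (g : Cfsg.isometryGroup F (Cfsg.quadFormOdd m F)) :
    Matrix (Unit ⊕ (Fin m ⊕ Fin m)) (Unit ⊕ (Fin m ⊕ Fin m)) F :=
  ((g : Matrix.GeneralLinearGroup (Unit ⊕ (Fin m ⊕ Fin m)) F) :
    Matrix (Unit ⊕ (Fin m ⊕ Fin m)) (Unit ⊕ (Fin m ⊕ Fin m)) F)

variable (g h : Cfsg.isometryGroup F (Cfsg.quadFormOdd m F))

theorem oddMat_quad (w : Unit ⊕ (Fin m ⊕ Fin m) → F) :
    quadFormOdd m F (oddMat g *ᵥ w) = quadFormOdd m F w := g.2 w w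

theorem oddMat_sympForm (u v : Unit ⊕ (Fin m ⊕ Fin m) → F) :
    sympForm m F ((oddMat g *ᵥ u) ∘ Sum.inr) ((oddMat g *ᵥ v) ∘ Sum.inr) =
      sympForm m F (u ∘ Sum.inr) (v ∘ Sum.inr) := by
  have e := oddMat_quad g (u + v)
  rw [Matrix.mulVec_add, quadFormOdd_add, quadFormOdd_add, oddMat_quad, oddMat_quad] at e
  exact add_left_cancel e

/-- An isometry is determined by its action modulo the radical. -/
theorem odd_ext (e : ∀ w, (oddMat g *ᵥ w) ∘ Sum.inr = (oddMat h *ᵥ w) ∘ Sum.inr) : g = h := by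
  refine Subtype.ext (Units.ext (Matrix.toLin'.injective (LinearMap.ext fun w => ?_)))
  rw [Matrix.toLin'_apply, Matrix.toLin'_apply]
  funext i
  rcases i with u | i
  · cases u
    have e1 := oddMat_quad g w
    have e2 := oddMat_quad h w
    rw [quadFormOdd_eq, e w] at e1
    rw [quadFormOdd_eq] at e2
    exact CharTwo.sq_injective (add_right_cancel (e1.trans e2.symm))
  · exact congrFun (e w) i

theorem oddMat_inr (w : Unit ⊕ (Fin m ⊕ Fin m) → F) :
    (oddMat g *ᵥ w) ∘ Sum.inr = (oddMat g).toBlocks₂₂ *ᵥ (w ∘ Sum.inr) := by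
  -- the radical is mapped to zero modulo itself
  have rad : ∀ c : Unit → F, (oddMat g *ᵥ Sum.elim c 0) ∘ Sum.inr = 0 := fun c => by
    refine sympBilin_nondegenerate.1 _ fun y => ?_
    obtain ⟨z, hz⟩ : ∃ z, oddMat g *ᵥ z = Sum.elim (0 : Unit → F) y :=
      ⟨oddMat g⁻¹ *ᵥ Sum.elim (0 : Unit → F) y, by
        rw [Matrix.mulVec_mulVec,
          show oddMat g * oddMat g⁻¹ = oddMat (g * g⁻¹) from rfl, mul_inv_cancel]
        exact Matrix.one_mulVec _⟩
    rw [sympBilin_apply, show y = (oddMat g *ᵥ z) ∘ Sum.inr by rw [hz, Sum.elim_comp_inr],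
      oddMat_sympForm, Sum.elim_comp_inr]
    simp [sympForm]
  conv_lhs => rw [← Sum.elim_comp_inl_inr w, show
    Sum.elim (w ∘ Sum.inl) (w ∘ Sum.inr) = Sum.elim (w ∘ Sum.inl) (0 : Fin m ⊕ Fin m → F) + Sum.elim (0 : Unit → F) (w ∘ Sum.inr) by
      funext i; rcases i <;> simp]
  rw [Matrix.mulVec_add, show ∀ a b : Unit ⊕ (Fin m ⊕ Fin m) → F,
    (a + b) ∘ Sum.inr = a ∘ Sum.inr + b ∘ Sum.inr from fun _ _ => rfl, rad, zero_add]
  conv_lhs => rw [← Matrix.fromBlocks_toBlocks (oddMat g), Matrix.fromBlocks_mulVec]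
  simp

/-- The action modulo the radical. -/
def oddToSymp : Cfsg.isometryGroup F (Cfsg.quadFormOdd m F) →* Matrix.symplecticGroup (Fin m) F where
  toFun g := ⟨(oddMat g).toBlocks₂₂, mem_symplecticGroup_iff_form.2 fun u v => by
    have hu := oddMat_inr g (Sum.elim (0 : Unit → F) u)
    have hv := oddMat_inr g (Sum.elim (0 : Unit → F) v)
    rw [Sum.elim_comp_inr] at hu hv
    rw [← hu, ← hv, sympBilin_apply, sympBilin_apply, oddMat_sympForm, Sum.elim_comp_inr,
      Sum.elim_comp_inr]⟩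
  map_one' := Subtype.ext (by
    ext i j
    simp [Matrix.toBlocks₂₂, oddMat, Matrix.one_apply])
  map_mul' g h := Subtype.ext (Matrix.toLin'.injective (LinearMap.ext fun x => by
    have e := oddMat_inr (g * h) (Sum.elim (0 : Unit → F) x)
    rw [Sum.elim_comp_inr, show oddMat (g * h) = oddMat g * oddMat h from rfl,
      ← Matrix.mulVec_mulVec, oddMat_inr, oddMat_inr, Sum.elim_comp_inr] at e
    rw [Matrix.toLin'_apply, Matrix.toLin'_apply, Submonoid.coe_mul, ← Matrix.mulVec_mulVec]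
    exact e.symm))

theorem oddToSymp_bijective [PerfectRing F 2] :
    Function.Bijective (oddToSymp (m := m) (F := F)) := by
  refine ⟨fun g h e => odd_ext g h fun w => ?_, fun A => ?_⟩
  · rw [oddMat_inr, oddMat_inr]
    exact congrArg (fun B : Matrix.symplecticGroup (Fin m) F => B.1 *ᵥ (w ∘ Sum.inr)) e
  · let P : (Fin m ⊕ Fin m → F) → F := fun x => quadFormPlus m F x + quadFormPlus m F (A.1 *ᵥ x)
    have hadd : ∀ x y, P (x + y) = P x + P y := fun x y => by
      simp only [P, Matrix.mulVec_add, quadFormPlus_add]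
      rw [show sympForm m F (A.1 *ᵥ x) (A.1 *ᵥ y) = sympForm m F x y by
        rw [← sympBilin_apply, ← sympBilin_apply]; exact mem_symplecticGroup_iff_form.1 A.2 x y]
      linear_combination CharTwo.add_self_eq_zero (sympForm m F x y)
    let φ : Module.Dual F (Fin m ⊕ Fin m → F) :=
      { toFun := fun x => (frobeniusEquiv F 2).symm (P x)
        map_add' := fun x y => by rw [hadd, map_add]
        map_smul' := fun c x => by
          have e : P (c • x) = c ^ 2 * P x := by
            simp only [P, Matrix.mulVec_smul, quadFormPlus_smul, mul_add]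
          rw [e, map_mul, RingHom.id_apply, smul_eq_mul, ← frobeniusEquiv_def F 2 c,
            RingEquiv.symm_apply_apply] }
    have hφ : ∀ x, φ x ^ 2 = P x := fun x => frobeniusEquiv_symm_pow_p F 2 (P x)
    let M : Matrix (Unit ⊕ (Fin m ⊕ Fin m)) (Unit ⊕ (Fin m ⊕ Fin m)) F :=
      Matrix.fromBlocks 1 (LinearMap.toMatrix' (LinearMap.pi fun _ : Unit => φ)) 0 A.1
    have hM : IsUnit M.det := by
      rw [Matrix.det_fromBlocks_zero₂₁, Matrix.det_one, one_mul]
      exact SymplecticGroup.symplectic_det A.2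
    refine ⟨⟨Matrix.GeneralLinearGroup.mk'' M hM, fun u v => ?_⟩, Subtype.ext ?_⟩
    · change quadFormOdd m F (M *ᵥ u) = quadFormOdd m F u
      rw [Matrix.fromBlocks_mulVec, LinearMap.toMatrix'_mulVec, quadFormOdd_eq, quadFormOdd_eq,
        Sum.elim_inl, Sum.elim_comp_inr, Matrix.zero_mulVec, zero_add, Matrix.one_mulVec,
        Pi.add_apply, CharTwo.add_sq, LinearMap.pi_apply, hφ]
      simp only [P, Function.comp_apply]
      linear_combination CharTwo.add_self_eq_zero (quadFormPlus m F (A.1 *ᵥ (u ∘ Sum.inr)))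
    · exact Matrix.toBlocks_fromBlocks₂₂ _ _ _ _

/-- `O_{2m+1}(F) ≅ Sp_2m(F)` for a perfect field of characteristic two. -/
noncomputable def oddEquivSymp [PerfectRing F 2] :
    Cfsg.isometryGroup F (Cfsg.quadFormOdd m F) ≃* Matrix.symplecticGroup (Fin m) F :=
  MulEquiv.ofBijective oddToSymp oddToSymp_bijective

end Cfsg.Agent.ClassicalSimple
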