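import Cfsg.Agent.Lib.ClassicalSimple.UnitaryMatrix
import Cfsg.Agent.Lib.ClassicalSimple.OrthRefl
import Cfsg.Agent.Lib.ClassicalSimple.SympMatrix
import Cfsg.Prelude.Def_SporadicB

/-!
Rank-one isometries are transvections / reflections, a criterion for 3-transposition classes,
and primitivity on points from `PointGeom`.
-/

namespace Cfsg.Agent.ClassicalSimple

open scoped Matrix

theorem exists_eq_add_smul_of_rank_sub_one {ι F : Type*} [Fintype ι] [DecidableEq ι] [Field F]
    {M : Matrix ι ι F} (h : (M - 1).rank = 1) :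
    ∃ (a : ι → F) (φ : Module.Dual F (ι → F)), a ≠ 0 ∧ φ ≠ 0 ∧
      ∀ x, M *ᵥ x = x + φ x • a := by
  set R := LinearMap.range (M - 1).mulVecLin
  have hR : Module.finrank F R = 1 := h
  let b : Module.Basis (Fin 1) F R := Module.finBasisOfFinrankEq F R hR
  refine ⟨(b 0 : ι → F), (b.coord 0).comp (M - 1).mulVecLin.rangeRestrict,
    Submodule.coe_eq_zero.not.2 (b.ne_zero 0), fun e => ?_, fun x => ?_⟩
  · obtain ⟨x, hx⟩ := LinearMap.surjective_rangeRestrict (M - 1).mulVecLin (b 0)
    have := LinearMap.congr_fun e x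
    rw [LinearMap.comp_apply, hx, LinearMap.zero_apply, Module.Basis.coord_apply,
      Module.Basis.repr_self, Finsupp.single_eq_same] at this
    exact one_ne_zero this
  · have e := b.sum_repr ((M - 1).mulVecLin.rangeRestrict x)
    rw [Fin.sum_univ_one] at e
    have e' := congrArg Subtype.val e
    rw [Submodule.coe_smul] at e'
    change _ = x + (b.repr ((M - 1).mulVecLin.rangeRestrict x)) 0 • (b 0 : ι → F)
    rw [e']
    change _ = x + (M - 1) *ᵥ x
    rw [Matrix.sub_mulVec, Matrix.one_mulVec, add_sub_cancel]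

theorem rank_sub_one_eq_one {ι F : Type*} [Fintype ι] [DecidableEq ι] [Field F]
    {M : Matrix ι ι F} {a : ι → F} {φ : Module.Dual F (ι → F)} (ha : a ≠ 0) {z : ι → F}
    (hz : φ z ≠ 0) (hM : ∀ x, M *ᵥ x = x + φ x • a) : (M - 1).rank = 1 := by
  have e : LinearMap.range (M - 1).mulVecLin = Submodule.span F {a} := by
    refine le_antisymm ?_ ((Submodule.span_singleton_le_iff_mem _ _).2 ⟨(φ z)⁻¹ • z, ?_⟩)
    · rintro _ ⟨x, rfl⟩
      refine Submodule.mem_span_singleton.2 ⟨φ x, ?_⟩
      rw [Matrix.mulVecLin_apply, Matrix.sub_mulVec, Matrix.one_mulVec, hM, add_sub_cancel_left]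
    · rw [Matrix.mulVecLin_apply, Matrix.sub_mulVec, Matrix.one_mulVec, hM, map_smul, smul_eq_mul,
        inv_mul_cancel₀ hz, one_smul, add_sub_cancel_left]
  rw [Matrix.rank, e, finrank_span_singleton ha]

/-- Two functionals where one vanishes on the kernel of the other are proportional. -/
theorem exists_smul_eq_of_ker {F V : Type*} [Field F] [AddCommGroup V] [Module F V]
    {φ ψ : Module.Dual F V} (hψ : ψ ≠ 0) (h : ∀ y, φ y = 0 → ψ y = 0) :
    ∃ c : F, φ = c • ψ := by
  obtain ⟨z, hz⟩ : ∃ z, ψ z ≠ 0 := by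
    by_contra hc
    push Not at hc
    exact hψ (LinearMap.ext hc)
  refine ⟨φ z / ψ z, LinearMap.ext fun y => ?_⟩
  have hφz : φ z ≠ 0 := fun e => hz (h z e)
  have := h (y - (φ y / φ z) • z) (by simp [hφz])
  simp only [map_sub, map_smul, smul_eq_mul, sub_eq_zero] at this
  rw [LinearMap.smul_apply, this, smul_eq_mul]
  field_simp

section Symp

variable {F V : Type*} [Field F] [AddCommGroup V] [Module F V] {B : LinearMap.BilinForm F V}

theorem spTransv_of_rank_one (hA : LinearMap.IsAlt B) (hN : B.Nondegenerate) (g : SpB B) {a : V}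
    {φ : Module.Dual F V} (ha : a ≠ 0) (hφ : φ ≠ 0) (hg : ∀ x : V, g • x = x + φ x • a) :
    ∃ c : F, c ≠ 0 ∧ g = spTransv hA a c := by
  obtain ⟨z, hz⟩ : ∃ z, φ z ≠ 0 := by
    by_contra hc
    push Not at hc
    exact hφ (LinearMap.ext hc)
  obtain ⟨c, hc⟩ := exists_smul_eq_of_ker (φ := φ) (ψ := LinearMap.flip B a) (by
    intro e
    obtain ⟨y, hy⟩ := exists_B_ne_zero hN ha
    have := LinearMap.congr_fun e y
    exact hy (hA.isRefl _ _ this)) fun y hy => by
      have e1 : g • y = y := by rw [hg, hy, zero_smul, add_zero]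
      have e2 := form_smul g y z
      rw [e1, hg z, map_add, add_eq_left, map_smul, smul_eq_mul, mul_eq_zero] at e2
      exact e2.resolve_left hz
  refine ⟨c, fun e => hφ (by rw [hc, e, zero_smul]), SpB.ext' fun x => ?_⟩
  rw [hg, spTransv_smul, hc]
  rfl

end Symp

section Orth

variable {F V : Type*} [Field F] [AddCommGroup V] [Module F V] {Q : QuadraticForm F V}

theorem orefl_of_rank_one (hN : (bil Q).Nondegenerate) (g : OQ Q) {a : V}
    {φ : Module.Dual F V} (ha : a ≠ 0) (hφ : φ ≠ 0) (hg : ∀ x : V, g • x = x + φ x • a) :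
    ∃ hqa : Q a ≠ 0, g = orefl hqa := by
  obtain ⟨z, hz⟩ : ∃ z, φ z ≠ 0 := by
    by_contra hc
    push Not at hc
    exact hφ (LinearMap.ext hc)
  obtain ⟨c, hc⟩ := exists_smul_eq_of_ker (φ := φ) (ψ := LinearMap.flip (bil Q) a) (by
    intro e
    obtain ⟨y, hy⟩ := orth_exists_ne_zero hN ha
    have := LinearMap.congr_fun e y
    exact hy ((bil_comm a y).trans this)) fun y hy => by
      have e1 : g • y = y := by rw [hg, hy, zero_smul, add_zero]
      have e2 := bil_fixed_sub e1 z
      rw [hg z, add_sub_cancel_left, map_smul, smul_eq_mul, mul_eq_zero] at e2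
      exact e2.resolve_left hz
  have hzB : c * bil Q z a ≠ 0 := by simpa [hc] using hz
  have e := quad_smul g z
  rw [hg, hc, quad_add, quad_smul_vec] at e
  simp only [LinearMap.smul_apply, LinearMap.flip_apply, smul_eq_mul, map_smul] at e
  have e' : c * bil Q z a * bil Q z a * (1 + c * Q a) = 0 := by linear_combination e
  have hcq : 1 + c * Q a = 0 :=
    (mul_eq_zero.1 e').resolve_left (mul_ne_zero hzB (right_ne_zero_of_mul hzB))
  have hqa : Q a ≠ 0 := fun h0 => by simp [h0] at hcq
  refine ⟨hqa, OQ.ext' fun x => ?_⟩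
  rw [hg, hc, orefl_smul, sub_eq_add_neg, ← neg_smul]
  congr 2
  simp only [LinearMap.smul_apply, LinearMap.flip_apply, smul_eq_mul]
  field_simp
  linear_combination bil Q x a * hcq

end Orth

section Unitary

variable {F V : Type*} [Field F] [AddCommGroup V] [Module F V] [FiniteDimensional F V]
variable {σ : F →+* F} {h : V →ₛₗ[σ] V →ₗ[F] F}

/-- A rank-one element of `SU` is a unitary transvection. -/
theorem uRootElt_of_rank_one (hh : IsUnitaryForm σ h) (g : SUH h) {a : V}
    {φ : Module.Dual F V} (ha : a ≠ 0) (hφ : φ ≠ 0) (hg : ∀ x : V, g • x = x + φ x • a) :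
    ∃ (c : F) (hu : h a a = 0) (hc : c + σ c + h (0 : V) 0 = 0),
      c ≠ 0 ∧ (g : UH h) = uRootElt hh a 0 c hu (map_zero _) hc := by
  obtain ⟨z, hz⟩ : ∃ z, φ z ≠ 0 := by
    by_contra hc
    push Not at hc
    exact hφ (LinearMap.ext hc)
  obtain ⟨c, hc⟩ := exists_smul_eq_of_ker (φ := φ) (ψ := h a) (by
    intro e
    obtain ⟨y, hy⟩ := exists_h_ne_zero hh ha
    exact hy (LinearMap.congr_fun e y)) fun y hy => by
      have e1 : g • y = y := by rw [hg, hy, zero_smul, add_zero]
      have e2 : h (g • z) (g • y) = h z y := uh_smul_smul (g : UH h) z y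
      rw [e1, hg z, map_add, LinearMap.add_apply, add_eq_left, map_smulₛₗ, LinearMap.smul_apply,
        smul_eq_mul, mul_eq_zero] at e2
      exact e2.resolve_left ((map_ne_zero σ).2 hz)
  have hc0 : c ≠ 0 := fun e => hφ (by rw [hc, e, zero_smul])
  have hdet := mem_SUH.1 g.2
  have eT : ((g : UH h) : V ≃ₗ[F] V).toLinearMap = LinearMap.transvection (c • h a) a :=
    LinearMap.ext fun x => by
      change g • x = _
      rw [hg, hc, LinearMap.transvection.apply]
  rw [eT, dilLin_det, add_eq_left, mul_eq_zero] at hdet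
  have hu : h a a = 0 := hdet.resolve_left hc0
  have hza : h a z ≠ 0 := by
    have := hz
    rw [hc, LinearMap.smul_apply, smul_eq_mul] at this
    exact right_ne_zero_of_mul this
  have e : h (g • z) (g • z) = h z z := uh_smul_smul (g : UH h) z z
  rw [hg, hc] at e
  simp only [map_add, map_smulₛₗ, LinearMap.add_apply, LinearMap.smul_apply, smul_eq_mul,
    RingHom.id_apply, map_mul, hu, hh.swap a z] at e
  have hcc : c + σ c + h (0 : V) 0 = 0 := by
    simp only [map_zero, LinearMap.zero_apply, add_zero]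
    have : σ (h a z) * h a z * (c + σ c) = 0 := by linear_combination e
    exact (mul_eq_zero.1 this).resolve_left (mul_ne_zero ((map_ne_zero σ).2 hza) hza)
  refine ⟨c, hu, hcc, hc0, UH.ext' fun x => ?_⟩
  change g • x = _
  rw [hg, hc, uRootElt_smul]
  simp

end Unitary

/-- A parametrised set of involutions satisfying the braid-or-commute conjugation rule. -/
theorem isThreeTranspositionClass_of_param {G : Type*} [Group G] (D : Set G) {ι : Type*}
    (t : ι → G) (hD : D = Set.range t) (i₀ : ι) (hne : ∀ i, t i ≠ 1) (hsq : ∀ i, t i * t i = 1)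
    (hconj : ∀ i j, t i * t j * t i = t j ∨ t i * t j * t i = t j * t i * t j)
    (hclass : ∀ i, IsConj (t i₀) (t i)) (hinv : ∀ (g : G) i, g * t i * g⁻¹ ∈ D)
    (hgen : Subgroup.closure D = ⊤) : Cfsg.IsThreeTranspositionClass D := by
  refine ⟨⟨?_, ?_⟩, ⟨t i₀, hD ▸ ⟨i₀, rfl⟩, Set.ext fun x => ⟨fun hx => ?_, fun hx => ?_⟩⟩, hgen⟩
  · rintro d hd
    rw [hD] at hd
    obtain ⟨i, rfl⟩ := hd
    exact orderOf_eq_prime (by rw [pow_two, hsq]) (hne i)
  · rintro d hd e he
    rw [hD] at hd he
    obtain ⟨i, rfl⟩ := hd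
    obtain ⟨j, rfl⟩ := he
    rcases hconj i j with h | h
    · left
      rw [pow_two, ← mul_assoc, h, hsq]
    · right
      rw [show (t i * t j) ^ 3 = t i * t j * t i * (t j * t i * t j) by
        rw [pow_three]; simp only [mul_assoc], ← h,
        show t i * t j * t i * (t i * t j * t i) = t i * t j * (t i * t i) * t j * t i by
          simp only [mul_assoc], hsq, mul_one, mul_assoc (t i) (t j) (t j), hsq, mul_one, hsq]
  · rw [hD] at hx
    obtain ⟨i, rfl⟩ := hx
    exact hclass i
  · obtain ⟨g, rfl⟩ := isConj_iff.1 hx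
    exact hinv g i₀

open scoped LinearAlgebra.Projectivization Pointwise

/-- Primitivity on the projective space from the point geometry of all nonzero vectors. -/
theorem PointGeom.isPreprimitive {F V G : Type*} [Field F] [AddCommGroup V] [Module F V]
    [Group G] [DistribMulAction G V] [SMulCommClass G F V] {O : V → V → Prop}
    (P : PointGeom F G (fun v : V => v ≠ 0) O) : MulAction.IsPreprimitive G (ℙ F V) := by
  have key : ∀ {v w : V} (hv : v ≠ 0) (hw : w ≠ 0), SameLine F v w →
      Projectivization.mk F v hv = Projectivization.mk F w hw := by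
    rintro v w hv hw ⟨a, rfl⟩
    exact ((Projectivization.mk_eq_mk_iff' F _ _ hw hv).2 ⟨a, rfl⟩).symm
  have hpre : MulAction.IsPretransitive G (ℙ F V) := by
    refine ⟨fun p r => ?_⟩
    induction p using Projectivization.ind with | _ v hv =>
    induction r using Projectivization.ind with | _ w hw =>
    obtain ⟨g, hg⟩ := P.trans hv hw
    exact ⟨g, by rw [Projectivization.smul_mk]; exact (key hw _ hg).symm⟩
  refine { isTrivialBlock_of_isBlock := fun {B} hB => ?_ }
  by_cases hs : B.Subsingleton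
  · exact Or.inl hs
  refine Or.inr (Set.eq_univ_of_forall fun c => ?_)
  obtain ⟨a, ha, b, hb, hab⟩ : ∃ a ∈ B, ∃ b ∈ B, a ≠ b := by
    by_contra hc
    push Not at hc
    exact hs fun x hx y hy => hc x hx y hy
  induction a using Projectivization.ind with | _ u hu =>
  induction b using Projectivization.ind with | _ w hw =>
  induction c using Projectivization.ind with | _ x hx =>
  let r : V → V → Prop := fun p q => ∀ (hp : p ≠ 0) (hq : q ≠ 0) (g : G),
    g • Projectivization.mk F p hp ∈ B ↔ g • Projectivization.mk F q hq ∈ B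
  have step : ∀ (g : G) (p q : ℙ F V), p ∈ B → q ∈ B → g • p ∈ B → g • q ∈ B := by
    intro g p q hp hq hgp
    have h1 : g • B = B := hB.smul_eq_of_mem hp hgp
    rw [← h1]
    exact Set.smul_mem_smul_set hq
  have h0 : r u w := fun _ _ g => ⟨step g _ _ ha hb, step g _ _ hb ha⟩
  have hall : r u x := P.rel_all r
    (fun {p q} hp hq h _ _ g => by rw [key hp hq h])
    (fun {p q} hp hq h _ _ g => (h hp hq g).symm)
    (fun {p q s} hp hq hs h h' _ _ g => (h hp hq g).trans (h' hq hs g))
    (fun k {p q} hp hq h _ _ g => by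
      have := h hp hq (g * k)
      rwa [mul_smul, mul_smul, Projectivization.smul_mk k hp, Projectivization.smul_mk k hq] at this)
    hu hw h0 (fun h => hab (key hu hw h)) hu hx
  have := hall hu hx 1
  rw [one_smul, one_smul] at this
  exact this.1 ha

/-- Move point geometry along a group with at least the same linear maps. -/
theorem PointGeom.transfer {F V G H : Type*} [Field F] [AddCommGroup V] [Module F V]
    [Group G] [DistribMulAction G V] [SMulCommClass G F V]
    [Group H] [DistribMulAction H V] [SMulCommClass H F V] {O : V → V → Prop}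
    (P : PointGeom F G (fun v : V => v ≠ 0) O) (h : ∀ g : G, ∃ k : H, ∀ v : V, k • v = g • v) :
    PointGeom F H (fun v : V => v ≠ 0) O where
  ne_zero h := h
  map_S g _ h := fun e => h ((smul_eq_zero_iff_eq g).1 e)
  O_symm := P.O_symm
  trans hv hw := by
    obtain ⟨g, hg⟩ := P.trans hv hw
    obtain ⟨k, hk⟩ := h g
    exact ⟨k, by rwa [hk]⟩
  trans_nonorth hu hv hw h1 h2 := by
    obtain ⟨g, hg, hg'⟩ := P.trans_nonorth hu hv hw h1 h2
    obtain ⟨k, hk⟩ := h g
    exact ⟨k, by rwa [hk], by rwa [hk]⟩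
  trans_orth hu hv hw h1 h2 h3 h4 := by
    obtain ⟨g, hg, hg'⟩ := P.trans_orth hu hv hw h1 h2 h3 h4
    obtain ⟨k, hk⟩ := h g
    exact ⟨k, by rwa [hk], by rwa [hk]⟩
  exists_nonorth := P.exists_nonorth
  exists_orth := P.exists_orth

end Cfsg.Agent.ClassicalSimple
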