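import Cfsg.Agent.S5016
import Cfsg.Agent.Lib.RootSub.Basic

/-!
A criterion for a family of subgroups to be a set of abstract `k`-root subgroups: any two members
commute, are the images of the unipotent subgroups of an `SL₂(k)` with central kernel, or are in
the commutator case.
-/

namespace Cfsg.Agent.ClassicalSimple

open Cfsg

variable {G : Type*} [Group G] {k : Type*} [Field k]

/-- `A` and `B` are the images of the unipotent subgroups of `SL₂(k)`, with central kernel. -/
def IsSL2Image (k : Type*) [Field k] (A B : Subgroup G) : Prop :=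
  ∃ φ : Matrix.SpecialLinearGroup (Fin 2) k →* G,
    φ.ker ≤ Subgroup.center (Matrix.SpecialLinearGroup (Fin 2) k) ∧
      (upperUnipotentSL2 k).map φ = A ∧ (lowerUnipotentSL2 k).map φ = B

theorem sl2_upper_sup_lower :
    upperUnipotentSL2 k ⊔ lowerUnipotentSL2 k = ⊤ := by
  rw [sup_comm]; exact (S5016.result k).1.1

theorem sl2_not_central {t : k} (ht : t ≠ 0) :
    S5016.U t ∉ Subgroup.center (Matrix.SpecialLinearGroup (Fin 2) k) ∧
      S5016.L t ∉ Subgroup.center (Matrix.SpecialLinearGroup (Fin 2) k) := by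
  constructor <;> intro h
  · have := congrArg (fun g : Matrix.SpecialLinearGroup (Fin 2) k =>
      (g : Matrix (Fin 2) (Fin 2) k) 0 0) (Subgroup.mem_center_iff.1 h (S5016.L 1))
    simp [Matrix.mul_apply, S5016.L_coe, S5016.U_coe, ht] at this
  · have := congrArg (fun g : Matrix.SpecialLinearGroup (Fin 2) k =>
      (g : Matrix (Fin 2) (Fin 2) k) 0 0) (Subgroup.mem_center_iff.1 h (S5016.U 1))
    simp [Matrix.mul_apply, S5016.L_coe, S5016.U_coe, ht] at this

namespace IsSL2Image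

variable {A B : Subgroup G} (h : IsSL2Image k A B)
include h

theorem psl2Pair : IsPSL2PairOver k A B := by
  obtain ⟨φ, hk, hA, hB⟩ := h
  refine ⟨φ, ?_, hk, hA, hB⟩
  rw [← hA, ← hB, ← Subgroup.map_sup, sl2_upper_sup_lower, MonoidHom.range_eq_map]

theorem rankOne : IsRankOnePair A B := by
  obtain ⟨φ, hk, rfl, rfl⟩ := h
  obtain ⟨-, ⟨hpair, -⟩, hcA, hcB⟩ := S5016.result k
  have inj : ∀ {X : Subgroup (Matrix.SpecialLinearGroup (Fin 2) k)},
      (X = upperUnipotentSL2 k ∨ X = lowerUnipotentSL2 k) → ∀ x ∈ X, φ x = 1 → x = 1 := by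
    intro X hX x hx e
    have hc := hk (MonoidHom.mem_ker.2 e)
    rcases hX with rfl | rfl
    · obtain ⟨t, rfl⟩ := S5016.mem_upper.1 hx
      by_contra hne
      exact (sl2_not_central (t := t) fun e0 => hne (by rw [e0]; exact map_one S5016.up)).1 hc
    · obtain ⟨t, rfl⟩ := S5016.mem_lower.1 hx
      by_contra hne
      exact (sl2_not_central (t := t) fun e0 => hne (by rw [e0]; exact map_one S5016.lo)).2 hc
  have hmap : ∀ (X : Subgroup (Matrix.SpecialLinearGroup (Fin 2) k)) y,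
      conjBy (X.map φ) (φ y) = (conjBy X y).map φ := fun X y => by
    unfold conjBy
    rw [Subgroup.map_map, Subgroup.map_map]
    congr 1
    ext z
    simp
  refine ⟨fun e => ?_, ?_, ?_, ?_, ?_⟩
  · obtain ⟨x, hx, hxe⟩ : φ (S5016.U 1) ∈ (lowerUnipotentSL2 k).map φ :=
      e ▸ Subgroup.mem_map_of_mem φ (S5016.mem_upper.2 ⟨1, rfl⟩)
    obtain ⟨s, rfl⟩ := S5016.mem_lower.1 hx
    have hc := hk (show (S5016.L s)⁻¹ * S5016.U 1 ∈ φ.ker by
      rw [MonoidHom.mem_ker, map_mul, map_inv, hxe, inv_mul_cancel])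
    have := congrArg (fun g : Matrix.SpecialLinearGroup (Fin 2) k =>
      (g : Matrix (Fin 2) (Fin 2) k) 0 0) (Subgroup.mem_center_iff.1 hc (S5016.L 1))
    simp [Matrix.mul_apply, S5016.L_inv, S5016.L_coe, S5016.U_coe] at this
  · exact S5016.nilp (Subgroup.map_isMulCommutative _ φ)
  · exact S5016.nilp (Subgroup.map_isMulCommutative _ φ)
  · rintro _ ⟨a, ha, rfl⟩ ha1
    obtain ⟨b, hb, hb1, e⟩ := hpair.cond_right a ha fun e => ha1 (by rw [e, map_one])
    refine ⟨φ b, Subgroup.mem_map_of_mem φ hb, fun e' => hb1 (inj (Or.inr rfl) b hb e'), ?_⟩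
    rw [← map_inv, ← map_inv, hmap, hmap, e]
  · rintro _ ⟨a, ha, rfl⟩ ha1
    obtain ⟨b, hb, hb1, e⟩ := hpair.cond_left a ha fun e => ha1 (by rw [e, map_one])
    refine ⟨φ b, Subgroup.mem_map_of_mem φ hb, fun e' => hb1 (inj (Or.inl rfl) b hb e'), ?_⟩
    rw [← map_inv, ← map_inv, hmap, hmap, e]

/-- The two subgroups are conjugate inside the group they generate. -/
theorem exists_conj : ∃ g ∈ A ⊔ B, B = conjBy A g := by
  obtain ⟨-, hAB⟩ := RootSub.left_mem_unipotentSubgroups A B, h.rankOne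
  exact RootSub.right_mem_unipotentSubgroups hAB

theorem restrict {H : Subgroup G} (hAH : A ≤ H) (hBH : B ≤ H) :
    IsSL2Image k (A.subgroupOf H) (B.subgroupOf H) := by
  obtain ⟨φ, hk, hU, hL⟩ := h
  have hr : ∀ x, φ x ∈ H := by
    intro x
    have : (⊤ : Subgroup (Matrix.SpecialLinearGroup (Fin 2) k)).map φ ≤ H := by
      rw [← sl2_upper_sup_lower, Subgroup.map_sup, hU, hL]
      exact sup_le hAH hBH
    exact this ⟨x, Subgroup.mem_top x, rfl⟩
  refine ⟨φ.codRestrict H hr, by rwa [MonoidHom.ker_codRestrict],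
    Subgroup.map_injective H.subtype_injective ?_, Subgroup.map_injective H.subtype_injective ?_⟩
  · rw [Subgroup.subgroupOf_map_subtype, inf_of_le_left hAH, Subgroup.map_map, ← hU]; rfl
  · rw [Subgroup.subgroupOf_map_subtype, inf_of_le_left hBH, Subgroup.map_map, ← hL]; rfl

end IsSL2Image

/-- The hypotheses of the criterion. -/
structure RootData (k : Type*) [Field k] (S : Set (Subgroup G)) : Prop where
  commutative : ∀ A ∈ S, IsMulCommutative A
  ne_bot : ∀ A ∈ S, A ≠ ⊥
  conj_mem : ∀ A ∈ S, ∀ g : G, conjBy A g ∈ S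
  pair : ∀ A ∈ S, ∀ B ∈ S, ⁅A, B⁆ = ⊥ ∨ IsSL2Image k A B ∨ RootCommutatorCase S A B

namespace RootData

variable {S : Set (Subgroup G)} (D : RootData k S)
include D

theorem isRootSubgroupSet (hgen : ⨆ A ∈ S, A = ⊤) : IsRootSubgroupSet S :=
  ⟨D.commutative, D.ne_bot, hgen, D.conj_mem, fun A hA B hB =>
    (D.pair A hA B hB).imp_right fun h => h.imp_left IsSL2Image.rankOne⟩

theorem isKRootSubgroupSet (hgen : ⨆ A ∈ S, A = ⊤) : IsKRootSubgroupSet k S := by
  refine ⟨D.isRootSubgroupSet hgen, fun A hA B hB hr => ?_⟩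
  rcases D.pair A hA B hB with h | h | h
  · exact absurd h (RootSub.rankOne_not_commute hr)
  · exact h.psl2Pair
  · exact absurd hr (RootSub.not_rankOne_of_commCase (D.isRootSubgroupSet hgen) hB h)

theorem isDegenerateRootSet (hgen : ⨆ A ∈ S, A = ⊤)
    (hdeg : ∀ A ∈ S, ∀ B ∈ S, ⁅A, B⁆ = ⊥ ∨ IsSL2Image k A B) : IsDegenerateRootSet S := by
  intro A hA B hB hc
  have hS := D.isRootSubgroupSet hgen
  rcases hdeg A hA B hB with h | h
  · exact RootSub.commCase_not_commute hS hc h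
  · exact RootSub.not_rankOne_of_commCase hS hB hc h.rankOne

omit D in
theorem isConnectedFamily
    (hconn : ∀ A ∈ S, ∀ B ∈ S,
      Relation.ReflTransGen (fun X Y => X ∈ S ∧ Y ∈ S ∧ IsSL2Image k X Y) A B) :
    IsConnectedFamily (FAdj S) S := by
  intro A hA B hB
  have h := hconn A hA B hB
  clear hB
  induction h with
  | refl => exact Relation.ReflTransGen.refl
  | tail _ h ih => exact ih.tail ⟨h.1, h.2.1, h.2.2.rankOne⟩

omit D in
theorem isConjClass (hne : S.Nonempty)
    (hconn : ∀ A ∈ S, ∀ B ∈ S,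
      Relation.ReflTransGen (fun X Y => X ∈ S ∧ Y ∈ S ∧ IsSL2Image k X Y) A B) :
    IsConjClassOfSubgroups S := by
  refine ⟨hne, fun A hA B hB => ?_⟩
  have h := hconn A hA B hB
  clear hB
  induction h with
  | refl => exact ⟨1, (RootSub.conjBy_one A).symm⟩
  | tail _ hs ih =>
    obtain ⟨g, rfl⟩ := ih
    obtain ⟨g', -, rfl⟩ := hs.2.2.exists_conj
    exact ⟨g' * g, by unfold conjBy; rw [Subgroup.map_map]; congr 1; ext z; simp⟩

/-- The family seen inside a subgroup containing all its members. -/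
theorem restrict {H : Subgroup G} (hle : ∀ A ∈ S, A ≤ H) :
    RootData k ((fun A : Subgroup G => A.subgroupOf H) '' S) := by
  have hmap : ∀ A ∈ S, (A.subgroupOf H).map H.subtype = A := fun A hA => by
    rw [Subgroup.subgroupOf_map_subtype, inf_of_le_left (hle A hA)]
  refine ⟨?_, ?_, ?_, ?_⟩
  · rintro _ ⟨A, hA, rfl⟩
    have := D.commutative A hA
    infer_instance
  · rintro _ ⟨A, hA, rfl⟩ e
    refine D.ne_bot A hA ?_
    simp only at e
    rw [← hmap A hA, e, Subgroup.map_bot]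
  · rintro _ ⟨A, hA, rfl⟩ g
    refine ⟨_, D.conj_mem A hA g, Subgroup.map_injective H.subtype_injective ?_⟩
    rw [hmap _ (D.conj_mem A hA g)]
    conv_lhs => rw [← hmap A hA]
    unfold conjBy
    rw [Subgroup.map_map, Subgroup.map_map]
    congr 1
  · rintro _ ⟨A, hA, rfl⟩ _ ⟨B, hB, rfl⟩
    rcases D.pair A hA B hB with h | h | ⟨h1, h2, h3, h4⟩
    · refine Or.inl (Subgroup.map_injective H.subtype_injective ?_)
      rw [Subgroup.map_commutator, hmap A hA, hmap B hB, Subgroup.map_bot, h]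
    · exact Or.inr (Or.inl (h.restrict (hle A hA) (hle B hB)))
    · refine Or.inr (Or.inr ?_)
      have hAB : ⁅A.subgroupOf H, B.subgroupOf H⁆ = ⁅A, B⁆.subgroupOf H := by
        refine Subgroup.map_injective H.subtype_injective ?_
        rw [Subgroup.map_commutator, hmap A hA, hmap B hB, hmap _ h1]
      have hcl : ∀ (f : G → G) (f' : H → H) (X : Subgroup G), X ∈ S →
          (∀ x : H, (f' x : G) = f x) → Subgroup.closure (f '' (X : Set G)) = ⁅A, B⁆ →
          Subgroup.closure (f' '' (X.subgroupOf H : Set H)) = ⁅A, B⁆.subgroupOf H := by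
        intro f f' X hX hf e
        refine Subgroup.map_injective H.subtype_injective ?_
        rw [hmap _ h1, MonoidHom.map_closure, ← e]
        congr 1
        ext y
        constructor
        · rintro ⟨_, ⟨x, hx, rfl⟩, rfl⟩
          exact ⟨x, hx, (hf x).symm⟩
        · rintro ⟨x, hx, rfl⟩
          exact ⟨f' ⟨x, hle X hX hx⟩, ⟨_, hx, rfl⟩, hf _⟩
      refine ⟨hAB ▸ ⟨_, h1, rfl⟩, ?_, fun a ha ha1 => ?_, fun b hb hb1 => ?_⟩
      · intro c hc x hx
        rw [hAB] at hc
        refine Subtype.ext (h2 c hc x ?_)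
        have : ((A.subgroupOf H ⊔ B.subgroupOf H).map H.subtype) = A ⊔ B := by
          rw [Subgroup.map_sup, hmap A hA, hmap B hB]
        exact this ▸ ⟨x, hx, rfl⟩
      · rw [hAB]
        exact hcl (fun b => a * b * (a : G)⁻¹ * b⁻¹) _ B hB (fun _ => rfl)
          (h3 a ha fun e => ha1 (Subtype.ext e))
      · rw [hAB]
        exact hcl (fun a => a * b * a⁻¹ * (b : G)⁻¹) _ A hA (fun _ => rfl)
          (h4 b hb fun e => hb1 (Subtype.ext e))

omit D in
theorem iSup_subgroupOf_eq_top {H : Subgroup G} (hH : H = ⨆ A ∈ S, A) :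
    ⨆ A ∈ (fun A : Subgroup G => A.subgroupOf H) '' S, A = ⊤ := by
  refine Subgroup.map_injective H.subtype_injective ?_
  rw [iSup_image, Subgroup.map_iSup, ← MonoidHom.range_eq_map, Subgroup.range_subtype]
  refine hH.trans (iSup_congr fun A => ?_) |>.symm
  rw [Subgroup.map_iSup]
  refine iSup_congr fun hA => ?_
  rw [Subgroup.subgroupOf_map_subtype, inf_of_le_left]
  exact hH ▸ le_iSup₂ (f := fun A (_ : A ∈ S) => A) A hA

omit D in
/-- Chains of `SL₂` pairs seen inside a subgroup containing all members. -/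
theorem conn_restrict {H : Subgroup G} (hle : ∀ A ∈ S, A ≤ H)
    (hconn : ∀ A ∈ S, ∀ B ∈ S,
      Relation.ReflTransGen (fun X Y => X ∈ S ∧ Y ∈ S ∧ IsSL2Image k X Y) A B) :
    ∀ A ∈ (fun A : Subgroup G => A.subgroupOf H) '' S,
      ∀ B ∈ (fun A : Subgroup G => A.subgroupOf H) '' S,
      Relation.ReflTransGen (fun X Y => X ∈ (fun A : Subgroup G => A.subgroupOf H) '' S ∧
        Y ∈ (fun A : Subgroup G => A.subgroupOf H) '' S ∧ IsSL2Image k X Y) A B := by
  rintro _ ⟨A, hA, rfl⟩ _ ⟨B, hB, rfl⟩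
  refine (hconn A hA B hB).lift (fun A : Subgroup G => A.subgroupOf H) fun X Y hXY => ?_
  exact ⟨⟨X, hXY.1, rfl⟩, ⟨Y, hXY.2.1, rfl⟩, hXY.2.2.restrict (hle X hXY.1) (hle Y hXY.2.1)⟩

end RootData

end Cfsg.Agent.ClassicalSimple
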