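import Cfsg.Agent.Lib.ClassicalSimple.OrthSimple
import Cfsg.Agent.Lib.ClassicalSimple.OrthMatrix
import Cfsg.Agent.Lib.ClassicalSimple.RootData
import Cfsg.Agent.Lib.ClassicalSimple.PlaneSL2

/-!
The Siegel transvection groups of singular lines as abstract root subgroups, over any field, in
dimension at least 5.
-/

namespace Cfsg.Agent.ClassicalSimple

open scoped Matrix commutatorElement

section Abstract

variable {F V : Type*} [Field F] [AddCommGroup V] [Module F V] (Q : QuadraticForm F V)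

/-- `p` and `r` span a singular line. -/
structure IsLinePair (p r : V) : Prop where
  indep : LinearIndependent F ![p, r]
  qp : Q p = 0
  qr : Q r = 0
  orth : bil Q p r = 0

variable {Q}

namespace IsLinePair

variable {p r : V} (h : IsLinePair Q p r)
include h

theorem ne_zero : p ≠ 0 := h.indep.ne_zero 0

theorem orth' : bil Q r p = 0 := (bil_comm r p).trans h.orth

theorem pp : bil Q p p = 0 := bil_self_of_singular h.qp

theorem rr : bil Q r r = 0 := bil_self_of_singular h.qr

theorem smul_orth (t : F) : bil Q p (t • r) = 0 := by rw [map_smul, h.orth, smul_zero]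

theorem swap : IsLinePair Q r p := ⟨LinearIndependent.pair_symm_iff.1 h.indep, h.qr, h.qp, h.orth'⟩

theorem basis {a b c d : F} (hd : a * d - b * c ≠ 0) :
    IsLinePair Q (a • p + b • r) (c • p + d • r) := by
  refine ⟨LinearIndependent.pair_iff.2 fun s t e => ?_, ?_, ?_, ?_⟩
  · have e' : (s * a + t * c) • p + (s * b + t * d) • r = 0 := by rw [← e]; module
    obtain ⟨e1, e2⟩ := LinearIndependent.pair_iff.1 h.indep _ _ e'
    constructor
    · exact (mul_eq_zero.1 (show (a * d - b * c) * s = 0 by linear_combination d * e1 - c * e2)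
        ).resolve_left hd
    · exact (mul_eq_zero.1 (show (a * d - b * c) * t = 0 by linear_combination a * e2 - b * e1)
        ).resolve_left hd
  · simp [quad_add, quad_smul_vec, h.qp, h.qr, h.orth]
  · simp [quad_add, quad_smul_vec, h.qp, h.qr, h.orth]
  · simp [h.pp, h.rr, h.orth, h.orth']

end IsLinePair

/-- The Siegel transvection of a singular line. -/
def lineElt {p r : V} (h : IsLinePair Q p r) (t : F) : OQ Q :=
  siegel (u := p) (w := t • r) h.qp (h.smul_orth t)

theorem lineElt_smul {p r : V} (h : IsLinePair Q p r) (t : F) (x : V) :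
    lineElt h t • x = x + (t * bil Q x p) • r - (t * bil Q x r) • p := by
  rw [lineElt, siegel_smul, quad_smul_vec, h.qr, map_smul, smul_eq_mul]
  module

theorem lineElt_add {p r : V} (h : IsLinePair Q p r) (s t : F) :
    lineElt h (s + t) = lineElt h s * lineElt h t := by
  refine OQ.ext' fun x => ?_
  rw [mul_smul]
  simp only [lineElt_smul, map_add, map_sub, map_smul, LinearMap.add_apply, LinearMap.sub_apply,
    LinearMap.smul_apply, h.pp, h.rr, h.orth, h.orth', smul_eq_mul]
  module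

theorem lineElt_zero {p r : V} (h : IsLinePair Q p r) : lineElt h 0 = 1 :=
  OQ.ext' fun x => by simp [lineElt_smul]

theorem lineElt_basis {p r : V} (h : IsLinePair Q p r) {a b c d : F} (hd : a * d - b * c ≠ 0)
    (t : F) : lineElt (h.basis hd) t = lineElt h (t * (a * d - b * c)) :=
  OQ.ext' fun x => by
    simp only [lineElt_smul, map_add, map_smul, smul_eq_mul]
    module

theorem lineElt_conj (g : OQ Q) {p r : V} (h : IsLinePair Q p r)
    (h' : IsLinePair Q (g • p) (g • r)) (t : F) :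
    g * lineElt h t * g⁻¹ = lineElt h' t := by
  rw [lineElt, siegel_conj]
  exact siegel_congr _ _ _ _ rfl (smul_comm g t r)

theorem IsLinePair.map {p r : V} (h : IsLinePair Q p r) (g : OQ Q) :
    IsLinePair Q (g • p) (g • r) := by
  refine ⟨LinearIndependent.pair_iff.2 fun s t e => LinearIndependent.pair_iff.1 h.indep s t
    (MulAction.injective g ?_), by rw [quad_smul, h.qp], by rw [quad_smul, h.qr],
    by rw [bil_smul_smul, h.orth]⟩
  change g • (s • p + t • r) = g • (0 : V)
  rw [smul_add, smul_comm g s p, smul_comm g t r, smul_zero, e]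

/-- The commutator of two Siegel transvections whose lines pair with rank at most one. -/
theorem lineElt_commutator {p r p' r' : V} (h : IsLinePair Q p r) (h' : IsLinePair Q p' r')
    (h1 : bil Q p p' = 0) (h2 : bil Q p r' = 0) (h3 : bil Q r p' = 0) (s t : F)
    (hw : bil Q p' ((-(t * s * bil Q r r')) • p) = 0) :
    ⁅lineElt h s, lineElt h' t⁆ =
      siegel (u := p') (w := (-(t * s * bil Q r r')) • p) h'.qp hw := by
  have e1 : lineElt h s • p' = p' := by
    rw [lineElt_smul, bil_comm p' p, h1, bil_comm p' r, h3]; simp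
  have e2 : lineElt h s • r' = r' + (-(s * bil Q r r')) • p := by
    rw [lineElt_smul, bil_comm r' p, h2, bil_comm r' r]; simp [sub_eq_add_neg]
  rw [commutatorElement_def, mul_inv_eq_iff_eq_mul]
  refine (lineElt_conj _ h' (h'.map _) t).trans (OQ.ext' fun x => ?_)
  simp only [lineElt_smul, mul_smul, siegel_smul, e1, e2, map_add, map_sub, map_smul,
    LinearMap.add_apply, LinearMap.sub_apply, LinearMap.smul_apply, h'.pp, h'.orth', h1, h3,
    quad_smul_vec, h.qp, bil_comm p' p, bil_comm r' p, h2, smul_eq_mul]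
  module

/-- An isometry fixing the common perp of a singular line is a Siegel transvection of it. -/
theorem exists_lineElt_of_fix [FiniteDimensional F V] (hN : (bil Q).Nondegenerate) {p r : V}
    (h : IsLinePair Q p r) (g : OQ Q)
    (hg : ∀ v, bil Q v p = 0 → bil Q v r = 0 → g • v = v) : ∃ t, g = lineElt h t := by
  obtain ⟨y₁, e11', e12'⟩ := exists_bil_pair hN h.indep 1 0
  obtain ⟨y₂, e21', e22'⟩ := exists_bil_pair hN h.indep 0 1
  have e11 : bil Q y₁ p = 1 := (bil_comm _ _).trans e11'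
  have e12 : bil Q y₁ r = 0 := (bil_comm _ _).trans e12'
  have e21 : bil Q y₂ p = 0 := (bil_comm _ _).trans e21'
  have e22 : bil Q y₂ r = 1 := (bil_comm _ _).trans e22'
  have hkill : ∀ x, bil Q (x - bil Q x p • y₁ - bil Q x r • y₂) p = 0 ∧
      bil Q (x - bil Q x p • y₁ - bil Q x r • y₂) r = 0 := fun x => by
    simp [e11, e12, e21, e22]
  have hx : ∀ x, g • x = x + bil Q x p • (g • y₁ - y₁) + bil Q x r • (g • y₂ - y₂) := fun x => by
    have e := hg _ (hkill x).1 (hkill x).2
    rw [smul_sub, smul_sub, smul_comm g (bil Q x p) y₁, smul_comm g (bil Q x r) y₂,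
      sub_eq_iff_eq_add, sub_eq_iff_eq_add] at e
    rw [e]
    generalize g • y₁ = z₁
    generalize g • y₂ = z₂
    module
  have hz : ∀ y, g • y - y =
      bil Q (g • y - y) y₁ • p + bil Q (g • y - y) y₂ • r := by
    intro y
    set z := g • y - y with hzdef
    refine sub_eq_zero.1 (hN.1 _ fun x => ?_)
    have e : bil Q z (x - bil Q x p • y₁ - bil Q x r • y₂) = 0 := by
      rw [bil_comm]; exact bil_fixed_sub (hg _ (hkill x).1 (hkill x).2) y
    simp only [map_sub, map_smul, smul_eq_mul] at e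
    simp only [map_sub, map_add, map_smul, LinearMap.sub_apply, LinearMap.add_apply,
      LinearMap.smul_apply, smul_eq_mul, bil_comm p x, bil_comm r x]
    linear_combination e
  set a₁ := bil Q (g • y₁ - y₁) y₁
  set b₁ := bil Q (g • y₁ - y₁) y₂
  set a₂ := bil Q (g • y₂ - y₂) y₁
  set b₂ := bil Q (g • y₂ - y₂) y₂
  have g1 : g • y₁ = y₁ + (a₁ • p + b₁ • r) := eq_add_of_sub_eq' (hz y₁)
  have g2 : g • y₂ = y₂ + (a₂ • p + b₂ • r) := eq_add_of_sub_eq' (hz y₂)
  have q1 := quad_smul g y₁
  have q2 := quad_smul g y₂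
  have q12 := bil_smul_smul g y₁ y₂
  rw [g1] at q1
  rw [g2] at q2
  rw [g1, g2] at q12
  simp only [quad_add, quad_smul_vec, h.qp, h.qr, map_add, map_smul, LinearMap.add_apply,
    LinearMap.smul_apply, smul_eq_mul, h.pp, h.rr, h.orth, h.orth', e11, e12, e11', e12', e21,
    e22, e21', e22'] at q1 q2 q12
  have ha : a₁ = 0 := by linear_combination q1
  have hb : b₂ = 0 := by linear_combination q2
  have hab : a₂ = -b₁ := by linear_combination q12
  refine ⟨b₁, OQ.ext' fun x => ?_⟩
  rw [hx, g1, g2, ha, hb, hab, lineElt_smul]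
  module

end Abstract

section Matrix

variable {ι : Type} [Fintype ι] [DecidableEq ι] {F : Type*} [Field F]
variable {Q : QuadraticForm F (ι → F)} {p r p' r' : ι → F}

/-- The root group of a singular line, as a homomorphism. -/
noncomputable def lineHom (h : IsLinePair Q p r) : Multiplicative F →* Cfsg.isometryGroup F ⇑Q :=
  (isometryEquiv Q).symm.toMonoidHom.comp
    { toFun := fun t => lineElt h t.toAdd
      map_one' := lineElt_zero h
      map_mul' := fun s t => lineElt_add h _ _ }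

/-- The root group of a singular line. -/
noncomputable def lineRoot (h : IsLinePair Q p r) : Subgroup (Cfsg.isometryGroup F ⇑Q) :=
  (lineHom h).range

theorem mem_lineRoot {h : IsLinePair Q p r} {g : Cfsg.isometryGroup F ⇑Q} :
    g ∈ lineRoot h ↔ ∃ t, isometryEquiv Q g = lineElt h t :=
  ⟨fun ⟨t, e⟩ => ⟨t.toAdd, by rw [← e]; exact MulEquiv.apply_symm_apply _ _⟩,
    fun ⟨t, e⟩ => ⟨Multiplicative.ofAdd t, (isometryEquiv Q).injective
      (by rw [e]; exact MulEquiv.apply_symm_apply _ _)⟩⟩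

theorem lineRoot_congr (h : IsLinePair Q p r) (h' : IsLinePair Q p' r') (e : p = p') (e' : r = r') :
    lineRoot h = lineRoot h' := by
  subst e e'; rfl

theorem lineRoot_basis (h : IsLinePair Q p r) {a b c d : F} (hd : a * d - b * c ≠ 0) :
    lineRoot (h.basis hd) = lineRoot h := by
  ext g
  rw [mem_lineRoot, mem_lineRoot]
  constructor
  · rintro ⟨t, e⟩
    exact ⟨_, e.trans (lineElt_basis h hd t)⟩
  · rintro ⟨t, e⟩
    exact ⟨t / (a * d - b * c), by rw [lineElt_basis h hd, div_mul_cancel₀ _ hd, e]⟩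

theorem lineRoot_swap (h : IsLinePair Q p r) : lineRoot h.swap = lineRoot h := by
  refine (lineRoot_congr _ _ ?_ ?_).trans
    (lineRoot_basis h (a := 0) (b := 1) (c := 1) (d := 0) (by simp))
  · simp
  · simp

theorem lineRoot_mem_span (h : IsLinePair Q p r) (h' : IsLinePair Q p r') {a b : F}
    (e : r' = a • p + b • r) : lineRoot h' = lineRoot h := by
  have hb : b ≠ 0 := by
    rintro rfl
    have := LinearIndependent.pair_iff.1 h'.indep (-a) 1 (by rw [e]; module)
    exact one_ne_zero this.2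
  refine (lineRoot_congr _ _ ?_ e).trans
    (lineRoot_basis h (a := 1) (b := 0) (c := a) (d := b) (by simpa using hb))
  simp

theorem lineRoot_conj (g : Cfsg.isometryGroup F ⇑Q) (h : IsLinePair Q p r) :
    Cfsg.conjBy (lineRoot h) g = lineRoot (h.map (isometryEquiv Q g)) := by
  ext x
  rw [mem_lineRoot, Subgroup.mem_map]
  constructor
  · rintro ⟨y, hy, rfl⟩
    obtain ⟨t, e⟩ := mem_lineRoot.1 hy
    refine ⟨t, ?_⟩
    change isometryEquiv Q (g * y * g⁻¹) = _
    rw [map_mul, map_mul, map_inv, e]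
    exact lineElt_conj _ h _ t
  · rintro ⟨t, e⟩
    refine ⟨(isometryEquiv Q).symm (lineElt h t),
      mem_lineRoot.2 ⟨t, MulEquiv.apply_symm_apply _ _⟩, (isometryEquiv Q).injective ?_⟩
    change isometryEquiv Q (g * (isometryEquiv Q).symm (lineElt h t) * g⁻¹) = _
    rw [map_mul, map_mul, map_inv, MulEquiv.apply_symm_apply, e]
    exact lineElt_conj _ h _ t

/-- Orthogonal lines give commuting groups. -/
theorem lineRoot_commute (h : IsLinePair Q p r) (h' : IsLinePair Q p' r')
    (h1 : bil Q p p' = 0) (h2 : bil Q p r' = 0) (h3 : bil Q r p' = 0)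
    (h4 : bil Q r r' = 0 ∨ ∃ a : F, p = a • p') :
    ⁅lineRoot h, lineRoot h'⁆ = ⊥ := by
  rw [eq_bot_iff, Subgroup.commutator_le]
  intro x hx y hy
  obtain ⟨s, es⟩ := mem_lineRoot.1 hx
  obtain ⟨t, et⟩ := mem_lineRoot.1 hy
  refine Subgroup.mem_bot.2 ((isometryEquiv Q).injective ?_)
  rw [map_commutatorElement, map_one, es, et,
    lineElt_commutator h h' h1 h2 h3 s t (by rw [map_smul, (bil_comm p' p).trans h1, smul_zero])]
  rcases h4 with h4 | ⟨a, rfl⟩
  · refine OQ.ext' fun z => ?_
    simp [siegel_smul, h4]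
  · exact (siegel_congr _ _ h'.qp (by rw [map_smul, h'.pp, smul_zero]) rfl
      (smul_smul _ _ _)).trans (siegel_smul_self _ h'.qp _)

/-- The commutator case: lines pairing with rank one, without a common point. -/
theorem lineRoot_commutator_case (S : Set (Subgroup (Cfsg.isometryGroup F ⇑Q)))
    (h : IsLinePair Q p r) (h' : IsLinePair Q p' r') (h'' : IsLinePair Q p' p)
    (h1 : bil Q p p' = 0) (h2 : bil Q p r' = 0) (h3 : bil Q r p' = 0) (h4 : bil Q r r' ≠ 0)
    (hS : lineRoot h'' ∈ S) : Cfsg.RootCommutatorCase S (lineRoot h) (lineRoot h') := by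
  set e := isometryEquiv Q
  have key : ∀ x y, ∀ s t : F, e x = lineElt h s → e y = lineElt h' t →
      e (x * y * x⁻¹ * y⁻¹) = lineElt h'' (-(t * s * bil Q r r')) := by
    intro x y s t es et
    rw [map_mul, map_mul, map_mul, map_inv, map_inv, es, et]
    exact (lineElt_commutator h h' h1 h2 h3 s t (h''.smul_orth _))
  have hcomm : ⁅lineRoot h, lineRoot h'⁆ = lineRoot h'' := by
    refine le_antisymm (Subgroup.commutator_le.2 fun x hx y hy => ?_) fun z hz => ?_
    · obtain ⟨s, es⟩ := mem_lineRoot.1 hx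
      obtain ⟨t, et⟩ := mem_lineRoot.1 hy
      exact mem_lineRoot.2 ⟨_, by rw [commutatorElement_def]; exact key x y s t es et⟩
    · obtain ⟨c, ec⟩ := mem_lineRoot.1 hz
      have : z = ⁅e.symm (lineElt h 1), e.symm (lineElt h' (-c / bil Q r r'))⁆ := e.injective (by
        rw [ec, commutatorElement_def, key _ _ _ _ (e.apply_symm_apply _) (e.apply_symm_apply _),
          mul_one, div_mul_cancel₀ _ h4, neg_neg])
      rw [this]
      exact Subgroup.commutator_mem_commutator (mem_lineRoot.2 ⟨_, e.apply_symm_apply _⟩)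
        (mem_lineRoot.2 ⟨_, e.apply_symm_apply _⟩)
  refine ⟨hcomm ▸ hS, ?_, ?_, ?_⟩
  · intro c hc x hx
    rw [hcomm] at hc
    have hl : ∀ {q₁ q₂} (hq : IsLinePair Q q₁ q₂), bil Q p' q₁ = 0 → bil Q p' q₂ = 0 →
        bil Q p q₁ = 0 → bil Q p q₂ = 0 → lineRoot hq ≤ Subgroup.centralizer {c} := by
      intro q₁ q₂ hq a b c' d y hy
      exact Subgroup.mem_centralizer_singleton_iff.2 ((RootSub.commutator_eq_bot_iff_commute.1
        (lineRoot_commute h'' hq a b c' (Or.inl d)) c hc y hy).symm)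
    exact (Subgroup.mem_centralizer_singleton_iff.1 (sup_le
      (hl h ((bil_comm _ _).trans h1) ((bil_comm _ _).trans h3) h.pp h.orth)
      (hl h' h'.pp h'.orth h1 h2) hx)).symm
  · intro x hx hx1
    obtain ⟨s, es⟩ := mem_lineRoot.1 hx
    have hs : s ≠ 0 := fun e0 => hx1 (e.injective (by rw [es, e0, lineElt_zero, map_one]))
    rw [hcomm, ← (lineRoot h'').closure_eq]
    congr 1
    ext z
    constructor
    · rintro ⟨y, hy, rfl⟩
      obtain ⟨t, et⟩ := mem_lineRoot.1 hy
      exact mem_lineRoot.2 ⟨_, key x y s t es et⟩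
    · intro hz
      obtain ⟨c, ec⟩ := mem_lineRoot.1 hz
      refine ⟨e.symm (lineElt h' (-c / (s * bil Q r r'))),
        mem_lineRoot.2 ⟨_, e.apply_symm_apply _⟩, e.injective ?_⟩
      rw [key x _ _ _ es (e.apply_symm_apply _), ec, mul_assoc,
        div_mul_cancel₀ _ (mul_ne_zero hs h4), neg_neg]
  · intro y hy hy1
    obtain ⟨t, et⟩ := mem_lineRoot.1 hy
    have ht : t ≠ 0 := fun e0 => hy1 (e.injective (by rw [et, e0, lineElt_zero, map_one]))
    rw [hcomm, ← (lineRoot h'').closure_eq]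
    congr 1
    ext z
    constructor
    · rintro ⟨x, hx, rfl⟩
      obtain ⟨s, es⟩ := mem_lineRoot.1 hx
      exact mem_lineRoot.2 ⟨_, key x y s t es et⟩
    · intro hz
      obtain ⟨c, ec⟩ := mem_lineRoot.1 hz
      refine ⟨e.symm (lineElt h (-c / (t * bil Q r r'))),
        mem_lineRoot.2 ⟨_, e.apply_symm_apply _⟩, e.injective ?_⟩
      rw [key _ y _ _ (e.apply_symm_apply _) et, ec,
        mul_comm t, mul_assoc, div_mul_cancel₀ _ (mul_ne_zero ht h4), neg_neg]

/-- Opposite lines generate an image of `SL₂`. -/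
theorem lineRoot_sl2_std (h : IsLinePair Q p r) (h' : IsLinePair Q p' r')
    (h1 : bil Q p p' = 1) (h2 : bil Q p r' = 0) (h3 : bil Q r p' = 0) (h4 : bil Q r r' = 1) :
    IsSL2Image F (lineRoot h) (lineRoot h') := by
  let P₁ : PlaneCoords F (ι → F) := ⟨r, p', LinearMap.flip (bil Q) r', LinearMap.flip (bil Q) p,
    h4, h'.orth, h.orth', (bil_comm _ _).trans h1⟩
  let P₂ : PlaneCoords F (ι → F) := ⟨p, -r', LinearMap.flip (bil Q) p', -LinearMap.flip (bil Q) r,
    h1, by simp [h'.orth'], by simp [h.orth], by simp [bil_comm r' r, h4]⟩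
  let c := RingHom.id F
  have hfix : ∀ g x, P₁.planeHom c g (P₂.planeHom c g x) = P₂.planeHom c g x +
      ((c (g.1 0 0) - 1) * P₁.α x + c (g.1 0 1) * P₁.β x) • P₁.p +
      (c (g.1 1 0) * P₁.α x + (c (g.1 1 1) - 1) * P₁.β x) • P₁.r := by
    intro g x
    simp [P₁, P₂, PlaneCoords.planeHom_apply, h2, h'.rr, h.pp, bil_comm r' p]
  have hcomm : ∀ g g', P₁.planeHom c g * P₂.planeHom c g' = P₂.planeHom c g' * P₁.planeHom c g := by
    intro g g'
    refine LinearEquiv.ext fun x => ?_
    simp [P₁, P₂, PlaneCoords.planeHom_apply, LinearEquiv.mul_apply, h2, h'.rr, h.pp, h.rr, h3,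
      h'.pp, bil_comm r' p, bil_comm p' r]
    abel
  let ψ₀ : Matrix.SpecialLinearGroup (Fin 2) F →* ((ι → F) ≃ₗ[F] (ι → F)) :=
    { toFun := fun g => P₁.planeHom c g * P₂.planeHom c g
      map_one' := by simp
      map_mul' := fun g g' => by
        rw [map_mul, map_mul, mul_assoc, mul_assoc,
          ← mul_assoc (P₁.planeHom c g') (P₂.planeHom c g), hcomm g' g, mul_assoc] }
  have hU : ∀ t, ψ₀ (S5016.U t) = (lineElt h t : OQ Q) := fun t => LinearEquiv.ext fun x => by
    change P₁.planeHom c (S5016.U t) (P₂.planeHom c (S5016.U t) x) = lineElt h t • x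
    rw [hfix, P₂.planeHom_U, lineElt_smul]
    simp [P₁, P₂, c, S5016.U_coe]
    module
  have hL : ∀ t, ψ₀ (S5016.L t) = (lineElt h' (-t) : OQ Q) := fun t => LinearEquiv.ext fun x => by
    change P₁.planeHom c (S5016.L t) (P₂.planeHom c (S5016.L t) x) = lineElt h' (-t) • x
    rw [hfix, P₂.planeHom_L, lineElt_smul]
    simp [P₁, P₂, c, S5016.L_coe]
  have hmem : ∀ g, ψ₀ g ∈ OQ Q := by
    intro g
    have : (⊤ : Subgroup (Matrix.SpecialLinearGroup (Fin 2) F)) ≤ (OQ Q).comap ψ₀ := by
      rw [← sl2_upper_sup_lower, sup_le_iff]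
      constructor
      · intro x hx
        obtain ⟨t, rfl⟩ := S5016.mem_upper.1 hx
        rw [Subgroup.mem_comap, hU]
        exact Subtype.property _
      · intro x hx
        obtain ⟨t, rfl⟩ := S5016.mem_lower.1 hx
        rw [Subgroup.mem_comap, hL]
        exact Subtype.property _
    exact this (Subgroup.mem_top g)
  let φ := (isometryEquiv Q).symm.toMonoidHom.comp (ψ₀.codRestrict (OQ Q) hmem)
  have hφ : ∀ g, isometryEquiv Q (φ g) = ψ₀.codRestrict (OQ Q) hmem g :=
    fun g => MulEquiv.apply_symm_apply _ _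
  refine ⟨φ, ?_, ?_, ?_⟩
  · intro g hg
    have h0 : ψ₀ g = 1 := by
      have := hφ g
      rw [MonoidHom.mem_ker.1 hg, map_one] at this
      exact (congrArg (fun k : OQ Q => (k : (ι → F) ≃ₗ[F] (ι → F))) this).symm
    have hr' : ∀ y, P₂.α y = 0 → P₂.β y = 0 → P₁.planeHom c g y = y := by
      intro y ha hb
      have := LinearEquiv.congr_fun h0 y
      change P₁.planeHom c g (P₂.planeHom c g y) = y at this
      rwa [P₂.planeHom_apply, ha, hb, mul_zero, mul_zero, mul_zero, mul_zero, add_zero, zero_smul,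
        add_zero, zero_smul, add_zero] at this
    rw [P₁.eq_one_of_fix c g (hr' _ h3 (by simp [P₁, P₂, h.rr]))
      (hr' _ h'.pp (by simp [P₁, P₂, bil_comm p' r, h3]))]
    exact one_mem _
  · ext x
    rw [Subgroup.mem_map, mem_lineRoot]
    constructor
    · rintro ⟨y, hy, rfl⟩
      obtain ⟨t, rfl⟩ := S5016.mem_upper.1 hy
      exact ⟨t, (hφ _).trans (Subtype.ext (hU t))⟩
    · rintro ⟨t, e⟩
      refine ⟨_, S5016.mem_upper.2 ⟨t, rfl⟩, (isometryEquiv Q).injective ?_⟩
      rw [hφ, e]; exact Subtype.ext (hU t)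
  · ext x
    rw [Subgroup.mem_map, mem_lineRoot]
    constructor
    · rintro ⟨y, hy, rfl⟩
      obtain ⟨t, rfl⟩ := S5016.mem_lower.1 hy
      exact ⟨-t, (hφ _).trans (Subtype.ext (hL t))⟩
    · rintro ⟨t, e⟩
      refine ⟨_, S5016.mem_lower.2 ⟨-t, rfl⟩, (isometryEquiv Q).injective ?_⟩
      rw [hφ, e]; exact Subtype.ext ((hL _).trans (by rw [neg_neg]))

/-- Lines pairing nondegenerately. -/
theorem lineRoot_sl2 (h : IsLinePair Q p r) (h' : IsLinePair Q p' r')
    (hD : bil Q p p' * bil Q r r' - bil Q p r' * bil Q r p' ≠ 0) :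
    IsSL2Image F (lineRoot h) (lineRoot h') := by
  set D := bil Q p p' * bil Q r r' - bil Q p r' * bil Q r p' with hDdef
  have hb : bil Q r r' / D * (bil Q p p' / D) - -bil Q r p' / D * (-bil Q p r' / D) ≠ 0 := by
    have : bil Q r r' / D * (bil Q p p' / D) - -bil Q r p' / D * (-bil Q p r' / D) = D⁻¹ := by
      field_simp
      rw [hDdef]; ring
    rw [this]; exact inv_ne_zero hD
  rw [← lineRoot_basis h' hb]
  refine lineRoot_sl2_std h _ ?_ ?_ ?_ ?_ <;>
    (simp only [map_add, map_smul, smul_eq_mul]; field_simp; try rw [hDdef]; try ring)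

end Matrix

section Family

variable {ι : Type} [Fintype ι] [DecidableEq ι] {F : Type*} [Field F]
variable (Q : QuadraticForm F (ι → F))

/-- All root groups of singular lines. -/
def lineRootSet : Set (Subgroup (Cfsg.isometryGroup F ⇑Q)) :=
  {A | ∃ (p r : ι → F) (h : IsLinePair Q p r), A = lineRoot h}

variable {Q}

/-- A point of one line orthogonal to another line, when the pairing of the lines is degenerate. -/
theorem exists_basis_kernel {p r p' r' : ι → F} (h : IsLinePair Q p r)
    (hD : bil Q p p' * bil Q r r' - bil Q p r' * bil Q r p' = 0) :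
    ∃ (p₁ r₁ : ι → F) (h₁ : IsLinePair Q p₁ r₁),
      lineRoot h₁ = lineRoot h ∧ bil Q p₁ p' = 0 ∧ bil Q p₁ r' = 0 ∧
        ∀ x, bil Q x p = 0 → bil Q x r = 0 → bil Q x r₁ = 0 := by
  by_cases ha : bil Q p r' = 0
  · by_cases hc : bil Q r r' = 0
    · by_cases hp : bil Q p p' = 0
      · exact ⟨p, r, h, rfl, hp, ha, fun _ _ h => h⟩
      · have hd : bil Q r p' * 0 - -bil Q p p' * 1 ≠ 0 := by simpa using hp
        refine ⟨_, _, h.basis hd, lineRoot_basis h hd, ?_, ?_,
      fun x hxp hxr => by simp [hxp, hxr]⟩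
        · simp only [map_add, map_smul, LinearMap.add_apply, LinearMap.smul_apply, smul_eq_mul]
          ring
        · simp [ha, hc]
    · have hd : bil Q r r' * 1 - -bil Q p r' * 0 ≠ 0 := by simpa using hc
      refine ⟨_, _, h.basis hd, lineRoot_basis h hd, ?_, ?_,
      fun x hxp hxr => by simp [hxp, hxr]⟩
      · simp only [map_add, map_smul, LinearMap.add_apply, LinearMap.smul_apply, smul_eq_mul]
        linear_combination hD
      · simp only [map_add, map_smul, LinearMap.add_apply, LinearMap.smul_apply, smul_eq_mul]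
        ring
  · have hd : bil Q r r' * 0 - -bil Q p r' * 1 ≠ 0 := by simpa using ha
    refine ⟨_, _, h.basis hd, lineRoot_basis h hd, ?_, ?_,
      fun x hxp hxr => by simp [hxp, hxr]⟩
    · simp only [map_add, map_smul, LinearMap.add_apply, LinearMap.smul_apply, smul_eq_mul]
      linear_combination hD
    · simp only [map_add, map_smul, LinearMap.add_apply, LinearMap.smul_apply, smul_eq_mul]
      ring

theorem lineRoot_pair {p r p' r' : ι → F} (h : IsLinePair Q p r) (h' : IsLinePair Q p' r') :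
    ⁅lineRoot h, lineRoot h'⁆ = ⊥ ∨ IsSL2Image F (lineRoot h) (lineRoot h') ∨
      Cfsg.RootCommutatorCase (lineRootSet Q) (lineRoot h) (lineRoot h') := by
  by_cases hD : bil Q p p' * bil Q r r' - bil Q p r' * bil Q r p' = 0
  swap
  · exact Or.inr (Or.inl (lineRoot_sl2 h h' hD))
  obtain ⟨p₁, r₁, h₁, e₁, a1, a2, -⟩ := exists_basis_kernel h hD
  rw [← e₁]
  obtain ⟨q₁, t₁, k₁, f₁, b1, b2, b3⟩ := exists_basis_kernel h' (p' := p₁) (r' := r₁) (by
    rw [(bil_comm p' p₁).trans a1, (bil_comm r' p₁).trans a2]; ring)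
  rw [← f₁]
  have c1 : bil Q p₁ q₁ = 0 := (bil_comm _ _).trans b1
  have c3 : bil Q r₁ q₁ = 0 := (bil_comm _ _).trans b2
  have c2 : bil Q p₁ t₁ = 0 := b3 _ a1 a2
  by_cases h4 : bil Q r₁ t₁ = 0
  · exact Or.inl (lineRoot_commute h₁ k₁ c1 c2 c3 (Or.inl h4))
  by_cases h5 : ∃ a : F, p₁ = a • q₁
  · exact Or.inl (lineRoot_commute h₁ k₁ c1 c2 c3 (Or.inr h5))
  have h'' : IsLinePair Q q₁ p₁ := ⟨(LinearIndependent.pair_iff' k₁.ne_zero).2
    fun a e => h5 ⟨a, e.symm⟩, k₁.qp, h₁.qp, b1⟩
  exact Or.inr (Or.inr (lineRoot_commutator_case _ h₁ k₁ h'' c1 c2 c3 h4 ⟨_, _, h'', rfl⟩))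

/-- Two lines through a common point have a common opposite line. -/
theorem lineRoot_chain_share {p r r' : ι → F} (hN : (bil Q).Nondegenerate)
    (h5 : 5 ≤ Fintype.card ι) (h : IsLinePair Q p r) (h' : IsLinePair Q p r') :
    Relation.ReflTransGen (fun X Y => X ∈ lineRootSet Q ∧ Y ∈ lineRootSet Q ∧ IsSL2Image F X Y)
      (lineRoot h) (lineRoot h') := by
  by_cases hspan : r' ∈ Submodule.span F ({p, r} : Set (ι → F))
  · obtain ⟨a, b, e⟩ := Submodule.mem_span_pair.1 hspan
    rw [lineRoot_mem_span h h' e.symm]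
  -- a partner `u` of `p`
  obtain ⟨y, hy'⟩ := orth_exists_ne_zero hN h.ne_zero
  obtain ⟨u, hu, hpu⟩ : ∃ u, Q u = 0 ∧ bil Q p u = 1 := by
    obtain ⟨z, hpz⟩ : ∃ z, bil Q p z = 1 :=
      ⟨(bil Q p y)⁻¹ • y, by rw [map_smul, smul_eq_mul, inv_mul_cancel₀ hy']⟩
    refine ⟨z - Q z • p, ?_, by rw [map_sub, map_smul, h.pp, smul_zero, sub_zero, hpz]⟩
    rw [quad_sub, quad_smul_vec, h.qp, map_smul, (bil_comm z p).trans hpz, smul_eq_mul]
    ring
  -- shift `r` and `r'` along `p`, orthogonal to `u`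
  have hsh : ∀ {x : ι → F}, IsLinePair Q p x → ∃ (x₀ : ι → F) (k : IsLinePair Q p x₀),
      bil Q u x₀ = 0 ∧ x₀ = x - bil Q u x • p ∧ ∀ hx : IsLinePair Q p x, lineRoot k = lineRoot hx := by
    intro x hx
    have k : IsLinePair Q p (x - bil Q u x • p) := by
      refine ⟨LinearIndependent.pair_iff.2 fun s t e => ?_, h.qp, ?_, ?_⟩
      · have e' : (s - t * bil Q u x) • p + t • x = 0 := by rw [← e]; module
        obtain ⟨e1, e2⟩ := LinearIndependent.pair_iff.1 hx.indep _ _ e'
        exact ⟨by rw [e2, zero_mul, sub_zero] at e1; exact e1, e2⟩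
      · simp [quad_sub, quad_smul_vec, h.qp, hx.qr, bil_comm x p, hx.orth]
      · simp [h.pp, hx.orth]
    exact ⟨_, k, by simp [(bil_comm u p).trans hpu], rfl, fun hx' =>
      lineRoot_mem_span hx' k (a := -bil Q u x) (b := 1) (by module)⟩
  obtain ⟨r₀, k, hur, hr₀, hk⟩ := hsh h
  obtain ⟨r₁, k', hur', hr₁, hk'⟩ := hsh h'
  rw [← hk h, ← hk' h']
  -- a singular `w` orthogonal to `p, u`, not orthogonal to `r₀, r₁`
  obtain ⟨w, hw, hpw, huw, hrw, hrw'⟩ : ∃ w, Q w = 0 ∧ bil Q p w = 0 ∧ bil Q u w = 0 ∧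
      bil Q r₀ w ≠ 0 ∧ bil Q r₁ w ≠ 0 := by
    by_cases hb : bil Q r₀ r₁ = 0
    · have hi : LinearIndependent F ![p, u, r₀, r₁] := by
        rw [Fintype.linearIndependent_iff]
        intro g hg
        simp only [Fin.sum_univ_four, Matrix.cons_val] at hg
        have e1 := congrArg (bil Q p) hg
        have e2 := congrArg (bil Q u) hg
        simp [h.pp, k.orth, k'.orth, hpu] at e1
        simp [bil_comm u p, hpu, hur, hur', bil_self_of_singular hu] at e2
        rw [e1, e2, zero_smul, zero_smul, zero_add, zero_add] at hg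
        have hind : LinearIndependent F ![r₀, r₁] := by
          refine (LinearIndependent.pair_iff' k.swap.ne_zero).2 fun a ha => hspan ?_
          refine Submodule.mem_span_pair.2 ⟨bil Q u r' - a * bil Q u r, a, ?_⟩
          rw [hr₀, hr₁] at ha
          rw [eq_sub_iff_add_eq] at ha
          conv_rhs => rw [← ha]
          module
        obtain ⟨e3, e4⟩ := LinearIndependent.pair_iff.1 hind _ _ hg
        intro i; fin_cases i <;> assumption
      obtain ⟨y, hy⟩ := exists_eval_eq _ (linearIndependent_bil hN hi) ![0, 0, 1, 1]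
      have y0 : bil Q p y = 0 := hy 0
      have y1 : bil Q u y = 0 := hy 1
      have y2 : bil Q r₀ y = 1 := hy 2
      have y3 : bil Q r₁ y = 1 := hy 3
      refine ⟨y - Q y • r₀, ?_, by simp [y0, k.orth], by simp [y1, hur],
        by simp [y2, k.rr], by simp [y3, (bil_comm r₁ r₀).trans hb]⟩
      rw [quad_sub, quad_smul_vec, k.qr, map_smul, (bil_comm y r₀).trans y2, smul_eq_mul]
      ring
    · obtain ⟨z, hz, z0, z1, z2, z3⟩ : ∃ z, Q z ≠ 0 ∧ bil Q p z = 0 ∧ bil Q u z = 0 ∧
          bil Q r₀ z = 0 ∧ bil Q r₁ z = 0 := by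
        by_contra hc
        push Not at hc
        let pr : (ι → F) → (ι → F) := fun y => y - (bil Q u y • p + bil Q p y • u +
          (bil Q r₁ y / bil Q r₀ r₁) • r₀ + (bil Q r₀ y / bil Q r₀ r₁) • r₁)
        have hpr : ∀ y, bil Q p (pr y) = 0 ∧ bil Q u (pr y) = 0 ∧ bil Q r₀ (pr y) = 0 ∧
            bil Q r₁ (pr y) = 0 := fun y => by
          simp [pr, h.pp, k.orth, k'.orth, hpu, bil_comm u p, hur, hur', bil_self_of_singular hu,
            k.rr, k'.rr, bil_comm r₀ p, bil_comm r₁ p, bil_comm r₀ u, bil_comm r₁ u,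
            bil_comm r₁ r₀, hb]
        have hq0 : ∀ x, bil Q p x = 0 → bil Q u x = 0 → bil Q r₀ x = 0 → bil Q r₁ x = 0 →
            Q x = 0 := by
          intro x a b c d
          by_contra hx
          exact hc x hx a b c d
        have hall : ∀ y, pr y = 0 := fun y => hN.1 _ fun v => by
          obtain ⟨a1, a2, a3, a4⟩ := hpr y
          obtain ⟨b1, b2, b3, b4⟩ := hpr v
          have e := hq0 (pr y + pr v) (by simp [a1, b1]) (by simp [a2, b2]) (by simp [a3, b3])
            (by simp [a4, b4])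
          rw [quad_add, hq0 _ a1 a2 a3 a4, hq0 _ b1 b2 b3 b4, zero_add, zero_add] at e
          rw [show pr v = v - (bil Q u v • p + bil Q p v • u + (bil Q r₁ v / bil Q r₀ r₁) • r₀ +
              (bil Q r₀ v / bil Q r₀ r₁) • r₁) from rfl, map_sub, map_add, map_add, map_add,
            map_smul, map_smul, map_smul, map_smul, (bil_comm _ p).trans a1,
            (bil_comm _ u).trans a2, (bil_comm _ r₀).trans a3, (bil_comm _ r₁).trans a4] at e
          simpa using e
        have htop : (⊤ : Submodule F (ι → F)) ≤ Submodule.span F (Set.range ![p, u, r₀, r₁]) :=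
          fun y _ => by
            rw [sub_eq_zero.1 (hall y)]
            exact add_mem (add_mem (add_mem
              (Submodule.smul_mem _ _ (Submodule.subset_span ⟨0, rfl⟩))
              (Submodule.smul_mem _ _ (Submodule.subset_span ⟨1, rfl⟩)))
              (Submodule.smul_mem _ _ (Submodule.subset_span ⟨2, rfl⟩)))
              (Submodule.smul_mem _ _ (Submodule.subset_span ⟨3, rfl⟩))
        have hle := (Submodule.finrank_mono htop).trans
          (finrank_range_le_card (R := F) ![p, u, r₀, r₁])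
        rw [finrank_top, Module.finrank_fintype_fun_eq_card, Fintype.card_fin] at hle
        omega
      refine ⟨r₀ + (-Q z / bil Q r₀ r₁) • r₁ + z, ?_, by simp [k.orth, k'.orth, z0],
        by simp [hur, hur', z1], by simp [k.rr, z2, hb, hz],
        by simp [(bil_comm r₁ r₀), k'.rr, z3, hb]⟩
      simp [quad_add, quad_smul_vec, k.qr, k'.qr, z2, z3]
      field_simp
      ring
  have hn : IsLinePair Q u w := by
    refine ⟨(LinearIndependent.pair_iff' fun e => ?_).2 fun a e => ?_, hu, hw, huw⟩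
    · rw [e, map_zero] at hpu; exact zero_ne_one hpu
    · rw [← e, map_smul, hpu, smul_eq_mul, mul_one] at hpw
      rw [← e, hpw, zero_smul, map_zero] at hrw
      exact hrw rfl
  have hmemS : ∀ {a b : ι → F} (hl : IsLinePair Q a b), lineRoot hl ∈ lineRootSet Q :=
    fun {a b} hl => ⟨a, b, hl, rfl⟩
  exact (Relation.ReflTransGen.single ⟨hmemS k, hmemS hn,
    lineRoot_sl2 k hn (by rw [hpu, hpw, zero_mul, sub_zero, one_mul]; exact hrw)⟩).tail
    ⟨hmemS hn, hmemS k', lineRoot_sl2 hn k' (by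
      rw [(bil_comm u p).trans hpu, (bil_comm w p).trans hpw, (bil_comm w r₁), mul_zero, sub_zero,
        one_mul]
      exact hrw')⟩

theorem lineRoot_chain (hN : (bil Q).Nondegenerate) (h5 : 5 ≤ Fintype.card ι)
    {p r p' r' : ι → F} (h : IsLinePair Q p r) (h' : IsLinePair Q p' r') :
    Relation.ReflTransGen (fun X Y => X ∈ lineRootSet Q ∧ Y ∈ lineRootSet Q ∧ IsSL2Image F X Y)
      (lineRoot h) (lineRoot h') := by
  obtain ⟨s, x, hs, hps, e⟩ : ∃ (s x : ι → F) (hs : IsLinePair Q s x),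
      bil Q p s = 0 ∧ lineRoot hs = lineRoot h' := by
    by_cases hp : bil Q p p' = 0
    · exact ⟨p', r', h', hp, rfl⟩
    · have hd : bil Q p r' * 0 - -bil Q p p' * 1 ≠ 0 := by simpa using hp
      refine ⟨_, _, h'.basis hd, ?_, lineRoot_basis h' hd⟩
      simp only [map_add, map_smul, smul_eq_mul]
      ring
  rw [← e]
  by_cases hdep : ∃ a : F, a • p = s
  · obtain ⟨a, rfl⟩ := hdep
    have ha : a ≠ 0 := left_ne_zero_of_smul hs.ne_zero
    have hd : a⁻¹ * 1 - 0 * 0 ≠ 0 := by simpa using ha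
    rw [← lineRoot_basis hs hd]
    have hsp : IsLinePair Q p x := by simpa [ha] using hs.basis hd
    rw [lineRoot_congr (hs.basis hd) hsp (by simp [smul_smul, ha]) (by simp)]
    exact lineRoot_chain_share hN h5 h hsp
  · have hl : IsLinePair Q p s :=
      ⟨(LinearIndependent.pair_iff' h.ne_zero).2 fun a e => hdep ⟨a, e⟩, h.qp, hs.qp, hps⟩
    refine (lineRoot_chain_share hN h5 h hl).trans ?_
    rw [← lineRoot_swap hl]
    exact lineRoot_chain_share hN h5 hl.swap hs

theorem closure_lineRoot_set (hN : (bil Q).Nondegenerate) {p r : ι → F} (h : IsLinePair Q p r) :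
    Subgroup.closure {σ : Cfsg.isometryGroup F ⇑Q | ∀ v : ι → F,
      bil Q v p = 0 → bil Q v r = 0 →
        ((σ : Matrix.GeneralLinearGroup ι F) : Matrix ι ι F) *ᵥ v = v} = lineRoot h := by
  refine le_antisymm ((Subgroup.closure_le _).2 fun σ hσ => ?_) fun σ hσ => ?_
  · exact mem_lineRoot.2 (exists_lineElt_of_fix hN h _ hσ)
  · obtain ⟨t, e⟩ := mem_lineRoot.1 hσ
    refine Subgroup.subset_closure fun v h1 h2 => ?_
    rw [← isometryEquiv_smul, e, lineElt_smul, h1, h2]
    simp

/-- The Siegel transvection groups in dimension at least 5, inside the group they generate. -/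
theorem lineRootSet_spec (hN : (bil Q).Nondegenerate) (h5 : 5 ≤ Fintype.card ι) :
    Cfsg.IsKRootSubgroupSet F ((fun A : Subgroup (Cfsg.isometryGroup F ⇑Q) =>
        A.subgroupOf (⨆ B ∈ lineRootSet Q, B)) '' lineRootSet Q) ∧
      Cfsg.IsConnectedFamily (Cfsg.FAdj (lineRootSet Q)) (lineRootSet Q) := by
  have D : RootData F (lineRootSet Q) := by
    refine ⟨?_, ?_, ?_, ?_⟩
    · rintro _ ⟨p, r, h, rfl⟩
      rw [lineRoot]; infer_instance
    · rintro _ ⟨p, r, h, rfl⟩ e
      obtain ⟨y, e1, e2⟩ := exists_bil_pair hN h.indep 1 0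
      have h1 : (isometryEquiv Q).symm (lineElt h 1) = 1 :=
        Subgroup.mem_bot.1 (e ▸ mem_lineRoot.2 ⟨1, MulEquiv.apply_symm_apply _ _⟩)
      have h2 : lineElt h 1 • y = y := by
        rw [(MulEquiv.symm_apply_eq _).1 h1, map_one, one_smul]
      rw [lineElt_smul, bil_comm y p, bil_comm y r, e1, e2, one_mul, one_mul, one_smul, zero_smul,
        sub_zero, add_eq_left] at h2
      exact h.swap.ne_zero h2
    · rintro _ ⟨p, r, h, rfl⟩ g
      exact ⟨_, _, h.map _, lineRoot_conj g h⟩
    · rintro _ ⟨p, r, h, rfl⟩ _ ⟨p', r', h', rfl⟩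
      exact lineRoot_pair h h'
  refine ⟨(D.restrict fun A hA => le_iSup₂ (f := fun B (_ : B ∈ lineRootSet Q) => B) A hA
    ).isKRootSubgroupSet (RootData.iSup_subgroupOf_eq_top rfl), RootData.isConnectedFamily (k := F) ?_⟩
  rintro _ ⟨p, r, h, rfl⟩ _ ⟨p', r', h', rfl⟩
  exact lineRoot_chain hN h5 h h'

end Family


end Cfsg.Agent.ClassicalSimple
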