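import Cfsg.Agent.Lib.ClassicalSimple.SympMatrix
import Cfsg.Agent.Lib.ClassicalSimple.RootData
import Cfsg.Agent.Lib.ClassicalSimple.PlaneSL2

/-!
The transvection groups of the symplectic group as a class of abstract root subgroups.
-/

namespace Cfsg.Agent.ClassicalSimple

open scoped Matrix

variable {m : ℕ} {F : Type*} [Field F]

/-- The transvection group with centre `p`, as a homomorphism. -/
def sympRootHom (p : Fin m ⊕ Fin m → F) : Multiplicative F →* Matrix.symplecticGroup (Fin m) F where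
  toFun t := sympTransvectionElt p t.toAdd
  map_one' := symplecticEquiv.injective (by
    rw [toAdd_one, symplecticEquiv_transvection, spTransv_zero, map_one])
  map_mul' a b := symplecticEquiv.injective (by
    rw [toAdd_mul, map_mul, symplecticEquiv_transvection, symplecticEquiv_transvection,
      symplecticEquiv_transvection, spTransv_add])

/-- The transvection group with centre `p`. -/
def sympRoot (p : Fin m ⊕ Fin m → F) : Subgroup (Matrix.symplecticGroup (Fin m) F) :=
  (sympRootHom p).range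

theorem mem_sympRoot {p : Fin m ⊕ Fin m → F} {g : Matrix.symplecticGroup (Fin m) F} :
    g ∈ sympRoot p ↔ ∃ t, sympTransvectionElt p t = g :=
  ⟨fun ⟨t, e⟩ => ⟨t.toAdd, e⟩, fun ⟨t, e⟩ => ⟨Multiplicative.ofAdd t, e⟩⟩

theorem sympElt_conj (g : Matrix.symplecticGroup (Fin m) F) (p : Fin m ⊕ Fin m → F) (t : F) :
    g * sympTransvectionElt p t * g⁻¹ = sympTransvectionElt (g.1 *ᵥ p) t :=
  symplecticEquiv.injective (by
    rw [map_mul, map_mul, map_inv, symplecticEquiv_transvection, spTransv_conj,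
      symplecticEquiv_smul, symplecticEquiv_transvection])

theorem sympRoot_conj (g : Matrix.symplecticGroup (Fin m) F) (p : Fin m ⊕ Fin m → F) :
    Cfsg.conjBy (sympRoot p) g = sympRoot (g.1 *ᵥ p) := by
  ext x
  rw [mem_sympRoot, Subgroup.mem_map]
  constructor
  · rintro ⟨y, hy, rfl⟩
    obtain ⟨t, rfl⟩ := mem_sympRoot.1 hy
    exact ⟨t, (sympElt_conj g p t).symm⟩
  · rintro ⟨t, rfl⟩
    exact ⟨_, mem_sympRoot.2 ⟨t, rfl⟩, sympElt_conj g p t⟩

theorem closure_sympRoot_set (p : Fin m ⊕ Fin m → F) :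
    Subgroup.closure {g : Matrix.symplecticGroup (Fin m) F | ∃ c : F, ∀ v : Fin m ⊕ Fin m → F,
      g.1 *ᵥ v = v + (c * (v ⬝ᵥ (Matrix.J (Fin m) F *ᵥ p))) • p} = sympRoot p := by
  refine le_antisymm ((Subgroup.closure_le _).2 ?_) fun x hx => ?_
  · rintro g ⟨c, hc⟩
    refine mem_sympRoot.2 ⟨c, Subtype.ext (Matrix.toLin'.injective (LinearMap.ext fun v => ?_))⟩
    rw [Matrix.toLin'_apply, Matrix.toLin'_apply, hc v]
    exact (sympTransvection_mulVec p c v).trans (by rw [sympBilin_apply]; rfl)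
  · obtain ⟨t, rfl⟩ := mem_sympRoot.1 hx
    exact Subgroup.subset_closure ⟨t, fun v =>
      (sympTransvection_mulVec p t v).trans (by rw [sympBilin_apply]; rfl)⟩

theorem sympRoot_ne_bot {p : Fin m ⊕ Fin m → F} (hp : p ≠ 0) : sympRoot p ≠ ⊥ := fun e => by
  obtain ⟨y, hy⟩ := exists_B_ne_zero (sympBilin_nondegenerate (m := m) (F := F)) hp
  have h1 : sympTransvectionElt p (1 : F) = 1 :=
    Subgroup.mem_bot.1 (e ▸ mem_sympRoot.2 ⟨1, rfl⟩)
  have h2 : sympTransvection m p (1 : F) *ᵥ y =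
      (1 : Matrix (Fin m ⊕ Fin m) (Fin m ⊕ Fin m) F) *ᵥ y :=
    congrArg (fun A : Matrix _ _ F => A *ᵥ y) (congrArg Subtype.val h1)
  rw [sympTransvection_mulVec, Matrix.one_mulVec, one_mul, add_eq_left, smul_eq_zero] at h2
  exact h2.elim (fun e => hy (sympBilin_isAlt.isRefl _ _ e)) hp

theorem sympRoot_commute {p r : Fin m ⊕ Fin m → F} (h : sympBilin m F p r = 0) :
    ⁅sympRoot p, sympRoot r⁆ = ⊥ := by
  rw [RootSub.commutator_eq_bot_iff_commute]
  intro a ha b hb
  obtain ⟨s, rfl⟩ := mem_sympRoot.1 ha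
  obtain ⟨t, rfl⟩ := mem_sympRoot.1 hb
  have e := sympElt_conj (sympTransvectionElt p s) r t
  rw [show (sympTransvectionElt p s).1 = sympTransvection m p s from rfl, sympTransvection_mulVec,
    sympBilin_isAlt.isRefl _ _ h, mul_zero, zero_smul, add_zero] at e
  exact mul_inv_eq_iff_eq_mul.1 e

theorem sympRoot_smul (p : Fin m ⊕ Fin m → F) {a : F} (ha : a ≠ 0) :
    sympRoot (a • p) = sympRoot p := by
  have e : ∀ t, sympTransvectionElt (a • p) t = sympTransvectionElt p (a * a * t) := fun t =>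
    symplecticEquiv.injective (by
      rw [symplecticEquiv_transvection, symplecticEquiv_transvection, spTransv_scale])
  ext x
  rw [mem_sympRoot, mem_sympRoot]
  constructor
  · rintro ⟨t, rfl⟩
    exact ⟨_, (e t).symm⟩
  · rintro ⟨t, rfl⟩
    refine ⟨(a * a)⁻¹ * t, ?_⟩
    rw [e, ← mul_assoc, mul_inv_cancel₀ (mul_ne_zero ha ha), one_mul]

theorem sympRoot_sl2 {p r : Fin m ⊕ Fin m → F} (h : sympBilin m F p r ≠ 0) :
    IsSL2Image F (sympRoot p) (sympRoot r) := by
  have hA := sympBilin_isAlt (m := m) (F := F)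
  set B := sympBilin m F
  rw [← sympRoot_smul r (inv_ne_zero h)]
  set r' := (B p r)⁻¹ • r with hr'
  have hpr : B p r' = 1 := by rw [hr', map_smul, smul_eq_mul, inv_mul_cancel₀ h]
  have hrp : B r' p = -1 := by rw [← hA.neg, hpr]
  let P : PlaneCoords F (Fin m ⊕ Fin m → F) :=
    ⟨p, r', LinearMap.flip B r', B p, hpr, hA.self_eq_zero r', hA.self_eq_zero p, hpr⟩
  have hform : ∀ g x y, B (P.planeHom (RingHom.id F) g x) (P.planeHom (RingHom.id F) g y) = B x y :=
    fun g => P.planeHom_form (RingHom.id F) (σ := RingHom.id F) (h := B) (u := 1)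
      (fun _ => rfl) (hA.self_eq_zero p) (hA.self_eq_zero r') hpr (by simpa using hrp)
      (fun y => (one_mul _).symm)
      (fun y => by change B r' y = -1 * B y r'; rw [← hA.neg y r', neg_one_mul])
      (fun x => by change B x p = -1 * B p x; rw [← hA.neg p x, neg_one_mul])
      (fun x => (one_mul _).symm) g
  let φ := symplecticEquiv.symm.toMonoidHom.comp
    ((P.planeHom (RingHom.id F)).codRestrict (SpB B) hform)
  have hφ : ∀ g x, (φ g).1 *ᵥ x = P.planeHom (RingHom.id F) g x := fun g x => by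
    rw [← symplecticEquiv_smul]
    change symplecticEquiv (symplecticEquiv.symm _) • x = _
    rw [MulEquiv.apply_symm_apply]; rfl
  have hU : ∀ t, φ (S5016.U t) = sympTransvectionElt p (-t) := fun t =>
    Subtype.ext (Matrix.toLin'.injective (LinearMap.ext fun x => by
      rw [Matrix.toLin'_apply, Matrix.toLin'_apply, hφ, P.planeHom_U]
      refine Eq.trans ?_ (sympTransvection_mulVec p (-t) x).symm
      change x + (t * B p x) • p = _
      rw [← hA.neg x p, mul_neg, neg_mul]))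
  have hL : ∀ t, φ (S5016.L t) = sympTransvectionElt r' t := fun t =>
    Subtype.ext (Matrix.toLin'.injective (LinearMap.ext fun x => by
      rw [Matrix.toLin'_apply, Matrix.toLin'_apply, hφ, P.planeHom_L]
      exact (sympTransvection_mulVec r' t x).symm))
  refine ⟨φ, ?_, ?_, ?_⟩
  · intro g hg
    have : g = 1 := P.planeHom_injective (RingHom.id F) (LinearEquiv.ext fun x => by
      rw [← hφ, MonoidHom.mem_ker.1 hg, map_one]
      exact Matrix.one_mulVec x)
    rw [this]; exact one_mem _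
  · ext x
    rw [Subgroup.mem_map, mem_sympRoot]
    constructor
    · rintro ⟨y, hy, rfl⟩
      obtain ⟨t, rfl⟩ := S5016.mem_upper.1 hy
      exact ⟨-t, (hU t).symm⟩
    · rintro ⟨t, rfl⟩
      exact ⟨_, S5016.mem_upper.2 ⟨-t, rfl⟩, by rw [hU, neg_neg]⟩
  · ext x
    rw [Subgroup.mem_map, mem_sympRoot]
    constructor
    · rintro ⟨y, hy, rfl⟩
      obtain ⟨t, rfl⟩ := S5016.mem_lower.1 hy
      exact ⟨t, (hL t).symm⟩
    · rintro ⟨t, rfl⟩
      exact ⟨_, S5016.mem_lower.2 ⟨t, rfl⟩, hL t⟩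

/-- The family of transvection groups. -/
def sympRootSet (m : ℕ) (F : Type*) [Field F] : Set (Subgroup (Matrix.symplecticGroup (Fin m) F)) :=
  {A | ∃ p, p ≠ 0 ∧ A = sympRoot p}

theorem sympRootSet_spec (hm : 1 ≤ m) :
    Cfsg.IsRootSubgroupClass (sympRootSet m F) ∧ Cfsg.IsDegenerateRootSet (sympRootSet m F) ∧
      Cfsg.IsKRootSubgroupSet F (sympRootSet m F) ∧
      Cfsg.IsConnectedFamily (Cfsg.FAdj (sympRootSet m F)) (sympRootSet m F) := by
  have hN := sympBilin_nondegenerate (m := m) (F := F)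
  have hA := sympBilin_isAlt (m := m) (F := F)
  have hpair : ∀ A ∈ sympRootSet m F, ∀ B ∈ sympRootSet m F,
      ⁅A, B⁆ = ⊥ ∨ IsSL2Image F A B := by
    rintro _ ⟨p, -, rfl⟩ _ ⟨r, -, rfl⟩
    by_cases h : sympBilin m F p r = 0
    · exact Or.inl (sympRoot_commute h)
    · exact Or.inr (sympRoot_sl2 h)
  have D : RootData F (sympRootSet m F) := by
    refine ⟨?_, ?_, ?_, fun A hA B hB => (hpair A hA B hB).imp_right Or.inl⟩
    · rintro _ ⟨p, -, rfl⟩
      rw [sympRoot]; infer_instance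
    · rintro _ ⟨p, hp, rfl⟩
      exact sympRoot_ne_bot hp
    · rintro _ ⟨p, hp, rfl⟩ g
      refine ⟨g.1 *ᵥ p, fun e => hp ?_, sympRoot_conj g p⟩
      rwa [← symplecticEquiv_smul, smul_eq_zero_iff_eq] at e
  have hgen : ⨆ A ∈ sympRootSet m F, A = ⊤ := by
    rw [eq_top_iff, ← closure_sympTransvectionSet, Subgroup.closure_le]
    rintro A ⟨w, c, hA'⟩
    rw [show A = sympTransvectionElt w c from Subtype.ext hA']
    by_cases hw : w = 0
    · have : sympTransvectionElt w c = 1 := symplecticEquiv.injective (by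
        rw [symplecticEquiv_transvection, map_one]
        exact SpB.ext' fun x => by simp [hw])
      rw [this]; exact one_mem _
    · exact Subgroup.mem_iSup_of_mem (sympRoot w) (Subgroup.mem_iSup_of_mem ⟨w, hw, rfl⟩
        (mem_sympRoot.2 ⟨c, rfl⟩))
  have hconn : ∀ A ∈ sympRootSet m F, ∀ B ∈ sympRootSet m F,
      Relation.ReflTransGen (fun X Y => X ∈ sympRootSet m F ∧ Y ∈ sympRootSet m F ∧
        IsSL2Image F X Y) A B := by
    rintro _ ⟨p, hp, rfl⟩ _ ⟨r, hr, rfl⟩
    obtain ⟨z, h1, h2⟩ := exists_B_ne_ne' hN hp hr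
    have hz : z ≠ 0 := fun e => h1 (by rw [e, map_zero])
    exact (Relation.ReflTransGen.single
      ⟨⟨p, hp, rfl⟩, ⟨z, hz, rfl⟩, sympRoot_sl2 h1⟩).tail
      ⟨⟨z, hz, rfl⟩, ⟨r, hr, rfl⟩, sympRoot_sl2 fun e => h2 (hA.isRefl _ _ e)⟩
  refine ⟨⟨D.isRootSubgroupSet hgen, RootData.isConjClass ?_ hconn⟩,
    D.isDegenerateRootSet hgen hpair, D.isKRootSubgroupSet hgen, RootData.isConnectedFamily hconn⟩
  exact ⟨_, Pi.single (Sum.inl ⟨0, hm⟩) (1 : F), by simp, rfl⟩

end Cfsg.Agent.ClassicalSimple
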