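import Cfsg.Agent.Lib.ClassicalSimple.RankOne
import Cfsg.Agent.Lib.Forms.Witt

/-!
3-transposition classes in classical groups over small fields (orthogonal over two elements,
unitary over four elements), and conjugacy of unitary transvections.
-/

namespace Cfsg.Agent.ClassicalSimple

open scoped Matrix

section Orth

variable {ι : Type} [Fintype ι] [DecidableEq ι] {F : Type*} [Field F]
variable (Q : QuadraticForm F (ι → F))

theorem orefl_congr {F V : Type*} [Field F] [AddCommGroup V] [Module F V] {Q : QuadraticForm F V}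
    {a b : V} (ha : Q a ≠ 0) (hb : Q b ≠ 0) (h : a = b) : orefl ha = orefl hb := by
  subst h; rfl

theorem orefl_sq {F V : Type*} [Field F] [AddCommGroup V] [Module F V] {Q : QuadraticForm F V}
    {a : V} (ha : Q a ≠ 0) : orefl ha * orefl ha = 1 := by
  refine OQ.ext' fun x => ?_
  simp only [mul_smul, orefl_smul, map_sub, map_smul, LinearMap.sub_apply, LinearMap.smul_apply,
    bil_self, smul_eq_mul, one_smul]
  match_scalars <;> field_simp <;> ring

/-- In an orthogonal group over the field with two elements in dimension at least 5, the rank-one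
elements form a generating class of 3-transpositions. -/
theorem orth_isThreeTranspositionClass (hN : (bil Q).Nondegenerate) (hF : ∀ a : F, a ≠ 0 → a = 1)
    (hdim : 5 ≤ Fintype.card ι) :
    Cfsg.IsThreeTranspositionClass {g : Cfsg.isometryGroup F ⇑Q |
      (((g : Matrix.GeneralLinearGroup ι F) : Matrix ι ι F) - 1).rank = 1} := by
  have hneg : (-1 : F) = 1 := hF _ (neg_ne_zero.2 one_ne_zero)
  obtain ⟨a₀, -, ha₀⟩ := exists_aniso hN (Q := Q) (Fin.elim0 : Fin 0 → Module.Dual F (ι → F))
    (by rw [Fintype.card_fin, Module.finrank_fintype_fun_eq_card]; omega)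
  set e := isometryEquiv Q
  let t : {a : ι → F // Q a ≠ 0} → Cfsg.isometryGroup F ⇑Q := fun a => e.symm (orefl a.2)
  have hconj : ∀ (g : Cfsg.isometryGroup F ⇑Q) (a : {a : ι → F // Q a ≠ 0}),
      g * t a * g⁻¹ = t ⟨e g • a.1, by rw [quad_smul]; exact a.2⟩ := fun g a => e.injective (by
    simp only [t, map_mul, map_inv, MulEquiv.apply_symm_apply]
    exact orefl_conj _ _)
  have hmem : ∀ a, t a ∈ {g : Cfsg.isometryGroup F ⇑Q |
      (((g : Matrix.GeneralLinearGroup ι F) : Matrix ι ι F) - 1).rank = 1} := by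
    rintro ⟨a, ha⟩
    have ha0 : a ≠ 0 := fun h => ha (by rw [h, map_zero])
    obtain ⟨y, hy⟩ := orth_exists_ne_zero hN ha0
    refine rank_sub_one_eq_one (φ := -(Q a)⁻¹ • LinearMap.flip (bil Q) a) ha0 (z := y) ?_
      fun x => ?_
    · simp only [LinearMap.smul_apply, LinearMap.flip_apply, smul_eq_mul]
      exact mul_ne_zero (neg_ne_zero.2 (inv_ne_zero ha)) (by rwa [bil_comm])
    · rw [← isometryEquiv_smul]
      change e (e.symm (orefl ha)) • x = _
      rw [MulEquiv.apply_symm_apply, orefl_smul]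
      simp only [LinearMap.smul_apply, LinearMap.flip_apply, smul_eq_mul]
      module
  refine isThreeTranspositionClass_of_param _ t ?_ ⟨a₀, ha₀⟩ ?_ ?_ ?_ ?_ (fun g a => ?_) ?_
  · refine Set.Subset.antisymm (fun g hg => ?_) (Set.range_subset_iff.2 hmem)
    obtain ⟨a, φ, ha, hφ, hgx⟩ := exists_eq_add_smul_of_rank_sub_one hg
    obtain ⟨hqa, he⟩ := orefl_of_rank_one hN (e g) ha hφ fun x => by
      rw [isometryEquiv_smul]; exact hgx x
    exact ⟨⟨a, hqa⟩, e.injective (by simp only [t, MulEquiv.apply_symm_apply, he])⟩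
  · rintro ⟨a, ha⟩ h
    obtain ⟨y, hy⟩ := orth_exists_ne_zero hN (v := a) fun h => ha (by rw [h, map_zero])
    have h' : orefl ha = 1 := by simpa [t] using congrArg e h
    have := congrArg (fun g : OQ Q => g • y) h'
    simp only [orefl_smul, one_smul, sub_eq_self, smul_eq_zero, mul_eq_zero, inv_eq_zero, ha,
      false_or] at this
    rcases this with h1 | h1
    · exact hy ((bil_comm a y).trans h1)
    · exact ha (by rw [h1, map_zero])
  · intro a
    exact e.injective (by simp only [t, map_mul, MulEquiv.apply_symm_apply, map_one, orefl_sq])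
  · intro a b
    have hinv : ∀ c, (t c)⁻¹ = t c := fun c =>
      inv_eq_of_mul_eq_one_right (e.injective
        (by simp only [t, map_mul, MulEquiv.apply_symm_apply, map_one, orefl_sq]))
    have key : ∀ c d, t c * t d * t c = t ⟨e (t c) • d.1, by rw [quad_smul]; exact d.2⟩ :=
      fun c d => by
        have := hconj (t c) d
        rwa [hinv] at this
    have hval : ∀ c d : {a : ι → F // Q a ≠ 0}, e (t c) • d.1 = d.1 - bil Q d.1 c.1 • c.1 :=
      fun c d => by
        simp only [t, MulEquiv.apply_symm_apply, orefl_smul, hF _ c.2, inv_one, one_mul]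
    rw [key a b, key b a]
    by_cases h : bil Q b.1 a.1 = 0
    · exact Or.inl (congrArg t (Subtype.ext (show e (t a) • b.1 = b.1 by
          rw [hval, h, zero_smul, sub_zero])))
    · right
      refine congrArg t (Subtype.ext (show e (t a) • b.1 = e (t b) • a.1 from ?_))
      rw [hval, hval, bil_comm a.1 b.1, hF _ h, one_smul, one_smul, ← neg_sub a.1 b.1,
        ← neg_one_smul F (a.1 - b.1), hneg, one_smul]
  · rintro ⟨a, ha⟩
    have hne : ∀ {v : ι → F}, Q v ≠ 0 → v ≠ 0 := fun hv h => hv (by rw [h, map_zero])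
    obtain ⟨g, hg, hga⟩ := Forms.witt_quadratic_tuple (Q := Q) hN (v := ![a₀]) (w := ![a])
      (LinearIndependent.of_subsingleton (0 : Fin 1) (hne ha₀))
      (LinearIndependent.of_subsingleton (0 : Fin 1) (hne ha))
      (fun i => by fin_cases i; exact (hF _ ha).trans (hF _ ha₀).symm)
      (fun i j => by
        fin_cases i; fin_cases j
        change bil Q a a = bil Q a₀ a₀
        rw [bil_self, bil_self, hF _ ha, hF _ ha₀])
    refine isConj_iff.2 ⟨e.symm ⟨g, hg⟩, ?_⟩
    rw [hconj]
    refine congrArg t (Subtype.ext ?_)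
    rw [MulEquiv.apply_symm_apply]
    exact hga 0
  · rw [hconj]
    exact hmem _
  · rw [eq_top_iff, ← closure_reflectionSet_eq_top Q hN (Or.inr (by omega)), Subgroup.closure_le]
    rintro g ⟨v, hv, hgv⟩
    refine Subgroup.subset_closure ?_
    have : g = t ⟨v, hv⟩ := e.injective (by
      simp only [t, MulEquiv.apply_symm_apply]
      exact (isometryEquiv_eq_iff Q g _ _ (reflectionMatrix_mulVec Q hv)).2 hgv)
    rw [this]
    exact hmem _

end Orth

section Unitary

variable {F : Type*} [Field F] [Fintype F] {q : ℕ} (hF : Fintype.card F = q ^ 2) {n : ℕ}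

/-- The transvection `x ↦ x + c h(v, x) v` of `Cfsg.SU`. -/
noncomputable def suTransv (v : Fin n → F) (c : F) (hv : Forms.hermB hF n v v = 0)
    (hc : c + Forms.qEnd hF c = 0) : Cfsg.SU n F q :=
  (suEquiv hF).symm ⟨uRootElt (hermB_isUnitary hF) v 0 c hv (map_zero _) (by simpa using hc),
    uRootElt_det _ _ _ _⟩

include hF

theorem suTransv_mulVec {v : Fin n → F} {c : F} (hv : Forms.hermB hF n v v = 0)
    (hc : c + Forms.qEnd hF c = 0) (x : Fin n → F) :
    (suTransv hF v c hv hc).1.1 *ᵥ x = x + (c * Forms.hermB hF n v x) • v := by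
  rw [← suEquiv_smul hF, suTransv, MulEquiv.apply_symm_apply]
  change uRootElt (hermB_isUnitary hF) v 0 c hv (map_zero _) (by simpa using hc) • x = _
  rw [uRootElt_smul]
  simp

theorem su_ext {g k : Cfsg.SU n F q} (e : ∀ x : Fin n → F, g.1.1 *ᵥ x = k.1.1 *ᵥ x) : g = k :=
  Subtype.ext (Subtype.ext (Matrix.toLin'.injective (LinearMap.ext e)))

theorem suTransv_conj (g : Cfsg.SU n F q) {v : Fin n → F} {c : F}
    (hv : Forms.hermB hF n v v = 0) (hc : c + Forms.qEnd hF c = 0) :
    g * suTransv hF v c hv hc * g⁻¹ = suTransv hF (g.1.1 *ᵥ v) c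
      (((mem_SU_iff hF g.1).1 g.2 v v).trans hv) hc := by
  refine su_ext hF fun x => ?_
  have h1 : ∀ y, Forms.hermB hF n v ((suEquiv hF g)⁻¹ • y) =
      Forms.hermB hF n (g.1.1 *ᵥ v) y := fun y => by
    rw [← suEquiv_smul hF g v]
    conv_rhs => rw [← smul_inv_smul (suEquiv hF g) y]
    exact (uh_smul_smul (suEquiv hF g : UH (Forms.hermB hF n)) v _).symm
  rw [← suEquiv_smul hF, map_mul, map_mul, map_inv, mul_smul, mul_smul,
    suEquiv_smul hF (suTransv hF v c hv hc), suTransv_mulVec, suTransv_mulVec, smul_add,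
    smul_inv_smul, h1, smul_comm (suEquiv hF g) (_ : F) v, suEquiv_smul hF g v]

theorem suTransv_congr {v v' : Fin n → F} {c : F} (hv : Forms.hermB hF n v v = 0)
    (hv' : Forms.hermB hF n v' v' = 0) (hc : c + Forms.qEnd hF c = 0) (e : v = v') :
    suTransv hF v c hv hc = suTransv hF v' c hv' hc := by
  subst e; rfl

theorem suTransv_scale {v : Fin n → F} {c : F} (a : F) (hv : Forms.hermB hF n (a • v) (a • v) = 0)
    (hc : c + Forms.qEnd hF c = 0) (hv' : Forms.hermB hF n v v = 0)
    (hc' : Forms.qEnd hF a * a * c + Forms.qEnd hF (Forms.qEnd hF a * a * c) = 0) :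
    suTransv hF (a • v) c hv hc = suTransv hF v (Forms.qEnd hF a * a * c) hv' hc' := by
  refine su_ext hF fun x => ?_
  simp only [suTransv_mulVec, map_smulₛₗ, LinearMap.smul_apply, smul_eq_mul, smul_smul]
  ring_nf

theorem suTransv_of_rank_one {g : Cfsg.SU n F q} (hg : ((g.1.1 : Matrix (Fin n) (Fin n) F) - 1).rank = 1) :
    ∃ (v : Fin n → F) (c : F) (hv : Forms.hermB hF n v v = 0) (hc : c + Forms.qEnd hF c = 0),
      v ≠ 0 ∧ c ≠ 0 ∧ g = suTransv hF v c hv hc := by
  obtain ⟨a, φ, ha, hφ, hx⟩ := exists_eq_add_smul_of_rank_sub_one hg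
  obtain ⟨c, hu, hc, hc0, e⟩ := uRootElt_of_rank_one (hermB_isUnitary hF) (suEquiv hF g) ha hφ
    fun x => by rw [suEquiv_smul]; exact hx x
  have hc' : c + Forms.qEnd hF c = 0 := by simpa using hc
  refine ⟨a, c, hu, hc', ha, hc0, (suEquiv hF).injective (Subtype.ext ?_)⟩
  rw [suTransv, MulEquiv.apply_symm_apply]
  exact e

theorem suTransv_rank {v : Fin n → F} {c : F} (hv : Forms.hermB hF n v v = 0)
    (hc : c + Forms.qEnd hF c = 0) (hv0 : v ≠ 0) (hc0 : c ≠ 0) :
    (((suTransv hF v c hv hc).1.1 : Matrix (Fin n) (Fin n) F) - 1).rank = 1 := by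
  obtain ⟨y, hy⟩ := exists_h_ne_zero (hermB_isUnitary hF) hv0
  refine rank_sub_one_eq_one (φ := c • Forms.hermB hF n v) hv0 (z := y) ?_ fun x => ?_
  · exact mul_ne_zero hc0 hy
  · exact suTransv_mulVec hF hv hc x

theorem exists_su_map (hn : 3 ≤ n) {v w : Fin n → F} (hv0 : v ≠ 0) (hw0 : w ≠ 0)
    (hv : Forms.hermB hF n v v = 0) (hw : Forms.hermB hF n w w = 0) :
    ∃ g : Cfsg.SU n F q, g.1.1 *ᵥ v = w := by
  have hh := hermB_isUnitary hF (n := n)
  have h3 : 3 ≤ Module.finrank F (Fin n → F) := by simpa using hn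
  obtain ⟨g, hg, hgv⟩ := uRoot_trans hh h3 hv0 hw0 hv hw
  rw [← SUH_eq_uRootGroup hh h3] at hg
  exact ⟨(suEquiv hF).symm ⟨g, hg⟩, by rw [← suEquiv_smul hF, MulEquiv.apply_symm_apply]; exact hgv⟩

/-- Any two transvections of `SU_n(q)`, `n ≥ 3`, are conjugate. -/
theorem su_rank_one_isConj (hn : 3 ≤ n) {s t : Cfsg.SU n F q}
    (hs : ((s.1.1 : Matrix (Fin n) (Fin n) F) - 1).rank = 1)
    (ht : ((t.1.1 : Matrix (Fin n) (Fin n) F) - 1).rank = 1) : IsConj s t := by
  have hh := hermB_isUnitary hF (n := n)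
  obtain ⟨v, c, hv, hc, hv0, hc0, rfl⟩ := suTransv_of_rank_one hF hs
  obtain ⟨w, d, hw, hd, hw0, hd0, rfl⟩ := suTransv_of_rank_one hF ht
  have hfix : Forms.qEnd hF (d / c) = d / c := by
    rw [map_div₀, eq_neg_of_add_eq_zero_right hd, eq_neg_of_add_eq_zero_right hc, neg_div_neg_eq]
  obtain ⟨a, ha⟩ := hh.exists_norm_eq hfix
  have ha0 : a ≠ 0 := by
    rintro rfl
    rw [mul_zero, eq_comm, div_eq_zero_iff] at ha
    exact ha.elim hd0 hc0
  have hd' : d = Forms.qEnd hF a * a * c := by rw [ha, div_mul_cancel₀ d hc0]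
  subst hd'
  have haw : Forms.hermB hF n (a • w) (a • w) = 0 := by simp [hw]
  obtain ⟨g, hg⟩ := exists_su_map hF hn hv0 (smul_ne_zero ha0 hw0) hv haw
  refine isConj_iff.2 ⟨g, ?_⟩
  rw [suTransv_conj, ← suTransv_scale hF a haw hc hw hd]
  simp only [hg]

end Unitary

section UnitaryFour

variable {F : Type*} [Field F] [Fintype F] (hF : Fintype.card F = 2 ^ 2) {n : ℕ}
include hF

theorem card_four_facts : ((1 : F) + Forms.qEnd hF 1 = 0) ∧
    (∀ c : F, c + Forms.qEnd hF c = 0 → c ≠ 0 → c = 1) ∧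
    (∀ a : F, a ≠ 0 → Forms.qEnd hF a * a = 1) := by
  have h2 : (2 : F) = 0 := by
    have := FiniteField.cast_card_eq_zero F
    rw [hF, Nat.cast_pow, sq] at this
    exact_mod_cast mul_self_eq_zero.1 this
  refine ⟨by rw [map_one, one_add_one_eq_two, h2], fun c hc hc0 => ?_, fun a ha => ?_⟩
  · rw [Forms.qEnd_apply] at hc
    have : c * (c - 1) = 0 := by linear_combination hc - c * h2
    exact sub_eq_zero.1 ((mul_eq_zero.1 this).resolve_left hc0)
  · rw [Forms.qEnd_apply]
    have := FiniteField.pow_card_sub_one_eq_one a ha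
    rw [hF] at this
    linear_combination this

/-- The transvections of `SU(n, 2)`, `n ≥ 4`, form a generating class of 3-transpositions. -/
theorem su_isThreeTranspositionClass (hn : 4 ≤ n) :
    Cfsg.IsThreeTranspositionClass {g : Cfsg.SU n F 2 |
      ((g.1.1 : Matrix (Fin n) (Fin n) F) - 1).rank = 1} := by
  obtain ⟨h1, hone, hnorm⟩ := card_four_facts hF
  have hh := hermB_isUnitary hF (n := n)
  let I := {v : Fin n → F // v ≠ 0 ∧ Forms.hermB hF n v v = 0}
  let t : I → Cfsg.SU n F 2 := fun v => suTransv hF v.1 1 v.2.2 h1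
  have hmv : ∀ (v : I) x, (t v).1.1 *ᵥ x = x + Forms.hermB hF n v.1 x • v.1 := fun v x => by
    rw [suTransv_mulVec hF, one_mul]
  have hsq : ∀ v, t v * t v = 1 := fun v => su_ext hF fun x => by
    have h2 : (2 : F) = 0 := by rw [← one_add_one_eq_two, ← h1, map_one]
    rw [Subgroup.coe_mul, Matrix.SpecialLinearGroup.coe_mul, ← Matrix.mulVec_mulVec, hmv, hmv,
      map_add, map_smul, v.2.2, smul_zero, add_zero, Subgroup.coe_one,
      Matrix.SpecialLinearGroup.coe_one, Matrix.one_mulVec, add_assoc, ← add_smul,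
      ← two_mul, h2, zero_mul, zero_smul, add_zero]
  have hmem : ∀ v, t v ∈ {g : Cfsg.SU n F 2 |
      ((g.1.1 : Matrix (Fin n) (Fin n) F) - 1).rank = 1} :=
    fun v => suTransv_rank hF v.2.2 h1 v.2.1 one_ne_zero
  have hD : {g : Cfsg.SU n F 2 | ((g.1.1 : Matrix (Fin n) (Fin n) F) - 1).rank = 1} =
      Set.range t := by
    refine Set.Subset.antisymm (fun g hg => ?_) (Set.range_subset_iff.2 hmem)
    obtain ⟨v, c, hv, hc, hv0, hc0, rfl⟩ := suTransv_of_rank_one hF hg
    obtain rfl := hone c hc hc0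
    exact ⟨⟨v, hv0, hv⟩, rfl⟩
  obtain ⟨s, hs0, hs⟩ := exists_isotropic hh (by simp; omega)
  refine isThreeTranspositionClass_of_param _ t hD ⟨s, hs0, hs⟩ ?_ hsq ?_ ?_ ?_ ?_
  · intro v h
    have := hmem v
    rw [h, Set.mem_setOf_eq, Subgroup.coe_one, Matrix.SpecialLinearGroup.coe_one, sub_self,
      Matrix.rank_zero] at this
    exact zero_ne_one this
  · intro u v
    have hinv : ∀ w, (t w)⁻¹ = t w := fun w => inv_eq_of_mul_eq_one_right (hsq w)
    have key : ∀ a b : I, ∃ H, t a * t b * t a =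
        suTransv hF (b.1 + Forms.hermB hF n a.1 b.1 • a.1) 1 H h1 := fun a b => by
      have := suTransv_conj hF (t a) b.2.2 h1
      rw [hinv] at this
      simp only [hmv] at this
      exact ⟨_, this⟩
    obtain ⟨H1, e1⟩ := key u v
    obtain ⟨H2, e2⟩ := key v u
    rw [e1, e2]
    by_cases h : Forms.hermB hF n u.1 v.1 = 0
    · left
      simp only [t, h, zero_smul, add_zero]
    · right
      set a := Forms.hermB hF n u.1 v.1 with ha
      have e3 : v.1 + a • u.1 = a • (u.1 + Forms.hermB hF n v.1 u.1 • v.1) := by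
        rw [hh.swap u.1 v.1, ← ha, smul_add, smul_smul, mul_comm, hnorm a h, one_smul, add_comm]
      refine (suTransv_congr hF H1 (e3 ▸ H1) h1 e3).trans ?_
      rw [suTransv_scale hF a _ h1 H2 (by rw [hnorm a h, one_mul]; exact h1)]
      simp only [hnorm a h, one_mul]
  · intro v
    exact su_rank_one_isConj hF (by omega) (hmem _) (hmem v)
  · intro g v
    change g * suTransv hF v.1 1 v.2.2 h1 * g⁻¹ ∈ _
    rw [suTransv_conj]
    refine suTransv_rank hF _ h1 (fun e => v.2.1 ?_) one_ne_zero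
    rw [← suEquiv_smul hF, smul_eq_zero_iff_eq] at e
    exact e
  · rw [eq_top_iff, ← closure_unitaryTransvectionSet hF (n := n) (by omega) (by omega),
      Subgroup.closure_le]
    rintro A ⟨v, c, hv, hA⟩
    have hmul : ∀ x, A.1.1 *ᵥ x = x + (c * Forms.hermB hF n v x) • v := fun x => by
      rw [hA]; exact unitaryTransvection_mulVec hF v c x
    by_cases hz : v = 0 ∨ c = 0
    · have : A = 1 := su_ext hF fun x => by
        rw [hmul]
        rcases hz with rfl | rfl <;> simp
      rw [this]; exact one_mem _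
    · push Not at hz
      refine Subgroup.subset_closure ?_
      obtain ⟨y, hy⟩ := exists_h_ne_zero hh hz.1
      exact rank_sub_one_eq_one (φ := c • Forms.hermB hF n v) hz.1 (z := y) (mul_ne_zero hz.2 hy)
        hmul

end UnitaryFour

end Cfsg.Agent.ClassicalSimple
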