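import Cfsg.Agent.Lib.ClassicalSimple.ThreeTranspositions
import Cfsg.Agent.Lib.ClassicalSimple.RootData
import Cfsg.Agent.Lib.ClassicalSimple.PlaneSL2

/-!
The isotropic transvection groups of `SU_n(q)` as a class of abstract root subgroups.
-/

namespace Cfsg.Agent.ClassicalSimple

open scoped Matrix

/-- The fixed field of `x ↦ x ^ q`, as a field living in `Type`. -/
theorem exists_small_fixed_field {F : Type*} [Field F] [Fintype F] {q : ℕ}
    (hF : Fintype.card F = q ^ 2) :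
    ∃ (L : Type) (_ : Field L) (_ : Fintype L) (ι : L →+* F), Fintype.card L = q ∧
      (∀ l, Forms.qEnd hF (ι l) = ι l) ∧ ∀ x, Forms.qEnd hF x = x → ∃ l, ι l = x := by
  classical
  let K : Subfield F := RingHom.eqLocusField (Forms.qEnd hF) (RingHom.id F)
  have := Fintype.ofFinite K
  have hq := Forms.one_lt_q hF
  have hu : Nat.card Kˣ = q - 1 := by
    rw [← Forms.card_units_pow_eq_one hF (d := q - 1) (dvd_mul_left _ _)]
    refine Nat.card_congr
      { toFun := fun u => ⟨Units.map (K.subtype : K →* F) u, Units.ext ?_⟩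
        invFun := fun u => Units.mk0 (⟨(u.1 : F), ?_⟩ : K) ?_
        left_inv := fun u => Units.ext (Subtype.ext rfl)
        right_inv := fun u => Subtype.ext (Units.ext rfl) }
    · change ((u : K) : F) ^ (q - 1) = 1
      refine mul_left_cancel₀ (fun e => u.ne_zero (Subtype.ext e)) ?_
      rw [← pow_succ', Nat.sub_add_cancel hq.le, mul_one]
      exact (u : K).2
    · have h := congrArg Units.val u.2
      simp only [powMonoidHom_apply, Units.val_pow_eq_pow_val, Units.val_one] at h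
      change (u.1 : F) ^ q = u.1
      have e : (u.1 : F) ^ q = (u.1 : F) ^ (q - 1) * u.1 := by
        rw [← pow_succ, Nat.sub_add_cancel hq.le]
      rw [e, h, one_mul]
    · exact fun e => u.1.ne_zero (congrArg Subtype.val e)
  rw [Nat.card_units, Nat.card_eq_fintype_card] at hu
  have hK : Fintype.card K = q := by
    have := Fintype.card_pos (α := K); omega
  let e : Fin q ≃ K := (Fintype.equivFinOfCardEq hK).symm
  letI : Field (Fin q) := e.field
  exact ⟨Fin q, inferInstance, inferInstance, K.subtype.comp e.ringEquiv.toRingHom,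
    Fintype.card_fin q, fun l => (e l).2, fun x hx => ⟨e.symm ⟨x, hx⟩, by
      change ((e (e.symm ⟨x, hx⟩) : K) : F) = x
      rw [Equiv.apply_symm_apply]⟩⟩

section

variable {F : Type*} [Field F] [Fintype F] {q : ℕ} (hF : Fintype.card F = q ^ 2) {n : ℕ}
variable {L : Type} [Field L] (ι : L →+* F) (hι : ∀ l, Forms.qEnd hF (ι l) = ι l)
variable {θ : F} (hθ : θ + Forms.qEnd hF θ = 0)

include hι hθ in
theorem skew_coeff (t : L) : θ⁻¹ * ι t + Forms.qEnd hF (θ⁻¹ * ι t) = 0 := by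
  rw [map_mul, hι, map_inv₀, eq_neg_of_add_eq_zero_right hθ, inv_neg, neg_mul, add_neg_cancel]

/-- The transvection group of `p`, as a homomorphism. -/
noncomputable def suRootHom (p : Fin n → F) (hp : Forms.hermB hF n p p = 0) :
    Multiplicative L →* Cfsg.SU n F q where
  toFun t := suTransv hF p (θ⁻¹ * ι t.toAdd) hp (skew_coeff hF ι hι hθ _)
  map_one' := su_ext hF fun x => by simp [suTransv_mulVec]
  map_mul' a b := su_ext hF fun x => by
    rw [Subgroup.coe_mul, Matrix.SpecialLinearGroup.coe_mul, ← Matrix.mulVec_mulVec,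
      suTransv_mulVec, suTransv_mulVec, suTransv_mulVec, toAdd_mul, map_add, map_add, map_smul, hp,
      smul_zero, add_zero]
    module

/-- The transvection group of `p`. -/
noncomputable def suRoot (p : Fin n → F) (hp : Forms.hermB hF n p p = 0) :
    Subgroup (Cfsg.SU n F q) :=
  (suRootHom hF ι hι hθ p hp).range

theorem mem_suRoot {p : Fin n → F} {hp : Forms.hermB hF n p p = 0} {g : Cfsg.SU n F q} :
    g ∈ suRoot hF ι hι hθ p hp ↔
      ∃ t, suTransv hF p (θ⁻¹ * ι t) hp (skew_coeff hF ι hι hθ t) = g :=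
  ⟨fun ⟨t, e⟩ => ⟨t.toAdd, e⟩, fun ⟨t, e⟩ => ⟨Multiplicative.ofAdd t, e⟩⟩

variable (hθ0 : θ ≠ 0) (hsurj : ∀ x, Forms.qEnd hF x = x → ∃ l, ι l = x)

include hθ hθ0 hsurj in
theorem exists_coeff {c : F} (hc : c + Forms.qEnd hF c = 0) : ∃ t, θ⁻¹ * ι t = c := by
  obtain ⟨t, ht⟩ := hsurj (θ * c) (by
    rw [map_mul, eq_neg_of_add_eq_zero_right hθ, eq_neg_of_add_eq_zero_right hc, neg_mul_neg])
  exact ⟨t, by rw [ht, inv_mul_cancel_left₀ hθ0]⟩

include hθ0 hsurj in
theorem closure_suRoot_set {p : Fin n → F} (hp0 : p ≠ 0) (hp : Forms.hermB hF n p p = 0) :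
    Subgroup.closure {g : Cfsg.SU n F q |
      (∀ v : Fin n → F, ∃ c : F, g.1.1 *ᵥ v = v + c • p) ∧
      ∀ v : Fin n → F, Cfsg.hermForm n F q v p = 0 → g.1.1 *ᵥ v = v} =
      suRoot hF ι hι hθ p hp := by
  refine le_antisymm ((Subgroup.closure_le _).2 ?_) fun x hx => ?_
  · rintro g ⟨h1, h2⟩
    obtain ⟨y, hy⟩ := exists_h_ne_zero (hermB_isUnitary hF) hp0
    obtain ⟨c, hc⟩ := h1 y
    have hform : ∀ v, g.1.1 *ᵥ v =
        v + (c / Forms.hermB hF n p y * Forms.hermB hF n p v) • p := by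
      intro v
      have h0 := h2 (v - (Forms.hermB hF n p v / Forms.hermB hF n p y) • y) (by
        rw [← Forms.hermB_apply hF, map_sub, map_smul, smul_eq_mul, div_mul_cancel₀ _ hy,
          sub_self])
      rw [Matrix.mulVec_sub, Matrix.mulVec_smul, hc, sub_eq_iff_eq_add] at h0
      rw [h0, smul_add, smul_smul]
      match_scalars <;> field_simp <;> ring
    have hsk := (unitaryTransvection_isometry_iff hF hp0 hp (c / Forms.hermB hF n p y)).1
      fun x y' => by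
        rw [unitaryTransvection_mulVec hF, unitaryTransvection_mulVec hF, ← hform, ← hform]
        exact (mem_SU_iff hF g.1).1 g.2 x y'
    rw [← Forms.qEnd_apply hF] at hsk
    obtain ⟨t, ht⟩ := exists_coeff hF ι hθ hθ0 hsurj hsk
    exact mem_suRoot hF ι hι hθ |>.2 ⟨t, su_ext hF fun v => by
      rw [suTransv_mulVec, hform v, ht]⟩
  · obtain ⟨t, rfl⟩ := (mem_suRoot hF ι hι hθ).1 hx
    refine Subgroup.subset_closure ⟨fun v => ⟨_, suTransv_mulVec hF hp _ v⟩, fun v hv => ?_⟩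
    rw [suTransv_mulVec, Forms.hermB_apply, hv, mul_zero, zero_smul, add_zero]

theorem suRoot_conj (g : Cfsg.SU n F q) (p : Fin n → F) (hp : Forms.hermB hF n p p = 0) :
    Cfsg.conjBy (suRoot hF ι hι hθ p hp) g =
      suRoot hF ι hι hθ (g.1.1 *ᵥ p) (((mem_SU_iff hF g.1).1 g.2 p p).trans hp) := by
  ext x
  rw [mem_suRoot, Subgroup.mem_map]
  constructor
  · rintro ⟨y, hy, rfl⟩
    obtain ⟨t, rfl⟩ := (mem_suRoot hF ι hι hθ).1 hy
    exact ⟨t, (suTransv_conj hF g hp _).symm⟩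
  · rintro ⟨t, rfl⟩
    exact ⟨_, (mem_suRoot hF ι hι hθ).2 ⟨t, rfl⟩, suTransv_conj hF g hp _⟩

include hθ0 in
theorem suRoot_ne_bot {p : Fin n → F} (hp0 : p ≠ 0) (hp : Forms.hermB hF n p p = 0) :
    suRoot hF ι hι hθ p hp ≠ ⊥ := fun e => by
  have hr := suTransv_rank hF hp (skew_coeff hF ι hι hθ 1) hp0 (by simp [hθ0])
  have h1 : suTransv hF p (θ⁻¹ * ι 1) hp (skew_coeff hF ι hι hθ 1) = 1 :=
    Subgroup.mem_bot.1 (e ▸ (mem_suRoot hF ι hι hθ).2 ⟨1, rfl⟩)
  rw [h1] at hr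
  simp at hr

theorem suRoot_commute {p r : Fin n → F} (hp : Forms.hermB hF n p p = 0)
    (hr : Forms.hermB hF n r r = 0) (h : Forms.hermB hF n p r = 0) :
    ⁅suRoot hF ι hι hθ p hp, suRoot hF ι hι hθ r hr⁆ = ⊥ := by
  rw [RootSub.commutator_eq_bot_iff_commute]
  intro a ha b hb
  obtain ⟨s, rfl⟩ := (mem_suRoot hF ι hι hθ).1 ha
  obtain ⟨t, rfl⟩ := (mem_suRoot hF ι hι hθ).1 hb
  refine mul_inv_eq_iff_eq_mul.1 ((suTransv_conj hF _ hr _).trans
    (suTransv_congr hF _ _ _ ?_))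
  rw [suTransv_mulVec, h, mul_zero, zero_smul, add_zero]

include hθ0 hsurj in
theorem suRoot_smul (p : Fin n → F) {a : F} (ha : a ≠ 0) (hp : Forms.hermB hF n p p = 0)
    (hp' : Forms.hermB hF n (a • p) (a • p) = 0) :
    suRoot hF ι hι hθ (a • p) hp' = suRoot hF ι hι hθ p hp := by
  obtain ⟨N, hN⟩ := hsurj (Forms.qEnd hF a * a) (by rw [map_mul, Forms.qEnd_qEnd, mul_comm])
  have hN0 : N ≠ 0 := fun e => by
    rw [e, map_zero, eq_comm, mul_eq_zero, map_eq_zero] at hN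
    exact hN.elim ha ha
  have e : ∀ t, suTransv hF (a • p) (θ⁻¹ * ι t) hp' (skew_coeff hF ι hι hθ t) =
      suTransv hF p (θ⁻¹ * ι (N * t)) hp (skew_coeff hF ι hι hθ _) := fun t =>
    su_ext hF fun x => by
      rw [suTransv_mulVec, suTransv_mulVec, map_smulₛₗ, LinearMap.smul_apply, smul_smul, map_mul,
        hN, smul_eq_mul]
      congr 2
      ring
  ext x
  rw [mem_suRoot, mem_suRoot]
  constructor
  · rintro ⟨t, rfl⟩
    exact ⟨_, (e t).symm⟩
  · rintro ⟨t, rfl⟩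
    refine ⟨N⁻¹ * t, ?_⟩
    rw [e]
    refine su_ext hF fun x => ?_
    rw [suTransv_mulVec, suTransv_mulVec, mul_inv_cancel_left₀ hN0]

include hθ0 hsurj in
theorem suRoot_sl2 {p r : Fin n → F} (hp : Forms.hermB hF n p p = 0)
    (hr : Forms.hermB hF n r r = 0) (h : Forms.hermB hF n p r ≠ 0) :
    IsSL2Image L (suRoot hF ι hι hθ p hp) (suRoot hF ι hι hθ r hr) := by
  have hh := hermB_isUnitary hF (n := n)
  have hr' : Forms.hermB hF n ((θ / Forms.hermB hF n p r) • r)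
      ((θ / Forms.hermB hF n p r) • r) = 0 := by simp [hr]
  rw [← suRoot_smul hF ι hι hθ hθ0 hsurj r (div_ne_zero hθ0 h) hr hr']
  set r' := (θ / Forms.hermB hF n p r) • r with hr'def
  set B := Forms.hermB hF n
  have hpr : B p r' = θ := by rw [hr'def, map_smul, smul_eq_mul, div_mul_cancel₀ _ h]
  have hσθ : Forms.qEnd hF θ = -θ := eq_neg_of_add_eq_zero_right hθ
  have hrp : B r' p = -θ := by rw [hh.swap, hpr, hσθ]
  let P : PlaneCoords F (Fin n → F) :=
    ⟨p, r', -θ⁻¹ • B r', θ⁻¹ • B p, by simp [hrp, hθ0], by simp [hr'], by simp [hp],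
      by simp [hpr, hθ0]⟩
  have hform : ∀ g x y, B (P.planeHom ι g x) (P.planeHom ι g y) = B x y :=
    P.planeHom_form ι (σ := Forms.qEnd hF) (h := B) (u := θ) hι hp hr' hpr hrp
      (fun y => by
        change B p y = θ * (θ⁻¹ * B p y)
        rw [mul_inv_cancel_left₀ hθ0])
      (fun y => by
        change B r' y = -θ * (-θ⁻¹ * B r' y)
        rw [neg_mul, neg_mul, mul_neg, neg_neg, mul_inv_cancel_left₀ hθ0])
      (fun x => by
        change B x p = -θ * Forms.qEnd hF (θ⁻¹ * B p x)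
        rw [map_mul, map_inv₀, hσθ, ← hh.swap]
        field_simp)
      (fun x => by
        change B x r' = θ * Forms.qEnd hF (-θ⁻¹ * B r' x)
        rw [map_mul, map_neg, map_inv₀, hσθ, ← hh.swap]
        field_simp)
  let ψ : Matrix.SpecialLinearGroup (Fin 2) L →* UH B := (P.planeHom ι).codRestrict (UH B) hform
  have hψU : ∀ t, ψ (S5016.U t) =
      (suEquiv hF (suTransv hF p (θ⁻¹ * ι t) hp (skew_coeff hF ι hι hθ t)) : UH B) := fun t =>
    UH.ext' fun x => by
      change P.planeHom ι (S5016.U t) x =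
        suEquiv hF (suTransv hF p (θ⁻¹ * ι t) hp (skew_coeff hF ι hι hθ t)) • x
      rw [P.planeHom_U, suEquiv_smul, suTransv_mulVec]
      change x + (ι t * (θ⁻¹ * B p x)) • p = _
      congr 2; ring
  have hψL : ∀ t, ψ (S5016.L t) =
      (suEquiv hF (suTransv hF r' (θ⁻¹ * ι (-t)) hr' (skew_coeff hF ι hι hθ _)) : UH B) := fun t =>
    UH.ext' fun x => by
      change P.planeHom ι (S5016.L t) x =
        suEquiv hF (suTransv hF r' (θ⁻¹ * ι (-t)) hr' (skew_coeff hF ι hι hθ _)) • x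
      rw [P.planeHom_L, suEquiv_smul, suTransv_mulVec, map_neg]
      change x + (ι t * (-θ⁻¹ * B r' x)) • r' = _
      congr 2; ring
  have hdet : ∀ g, ψ g ∈ SUH B := by
    intro g
    have : (⊤ : Subgroup (Matrix.SpecialLinearGroup (Fin 2) L)) ≤ (SUH B).comap ψ := by
      rw [← sl2_upper_sup_lower, sup_le_iff]
      constructor
      · intro x hx
        obtain ⟨t, rfl⟩ := S5016.mem_upper.1 hx
        rw [Subgroup.mem_comap, hψU]
        exact Subtype.property _
      · intro x hx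
        obtain ⟨t, rfl⟩ := S5016.mem_lower.1 hx
        rw [Subgroup.mem_comap, hψL]
        exact Subtype.property _
    exact this (Subgroup.mem_top g)
  let φ := (suEquiv hF).symm.toMonoidHom.comp (ψ.codRestrict (SUH B) hdet)
  have hφ : ∀ g, φ g = (suEquiv hF).symm (ψ.codRestrict (SUH B) hdet g) := fun _ => rfl
  have hφU : ∀ t, φ (S5016.U t) = suTransv hF p (θ⁻¹ * ι t) hp (skew_coeff hF ι hι hθ t) :=
    fun t => by rw [hφ, MulEquiv.symm_apply_eq]; exact Subtype.ext (hψU t)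
  have hφL : ∀ t, φ (S5016.L t) = suTransv hF r' (θ⁻¹ * ι (-t)) hr' (skew_coeff hF ι hι hθ _) :=
    fun t => by rw [hφ, MulEquiv.symm_apply_eq]; exact Subtype.ext (hψL t)
  refine ⟨φ, ?_, ?_, ?_⟩
  · intro g hg
    have h1 : ψ.codRestrict (SUH B) hdet g = 1 :=
      (suEquiv hF).symm.injective ((MonoidHom.mem_ker.1 hg).trans (map_one _).symm)
    have : g = 1 := P.planeHom_injective ι (by
      rw [map_one]
      exact congrArg (fun k : SUH B => ((k : UH B) : (Fin n → F) ≃ₗ[F] (Fin n → F))) h1)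
    rw [this]; exact one_mem _
  · ext x
    rw [Subgroup.mem_map, mem_suRoot]
    constructor
    · rintro ⟨y, hy, rfl⟩
      obtain ⟨t, rfl⟩ := S5016.mem_upper.1 hy
      exact ⟨t, (hφU t).symm⟩
    · rintro ⟨t, rfl⟩
      exact ⟨_, S5016.mem_upper.2 ⟨t, rfl⟩, hφU t⟩
  · ext x
    rw [Subgroup.mem_map, mem_suRoot]
    constructor
    · rintro ⟨y, hy, rfl⟩
      obtain ⟨t, rfl⟩ := S5016.mem_lower.1 hy
      exact ⟨-t, (hφL t).symm⟩
    · rintro ⟨t, rfl⟩
      refine ⟨_, S5016.mem_lower.2 ⟨-t, rfl⟩, ?_⟩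
      rw [hφL]
      exact su_ext hF fun x => by rw [suTransv_mulVec, suTransv_mulVec, neg_neg]

end

/-- The transvection groups of `SU_n(q)`, `n ≥ 2`, inside the group they generate. -/
theorem suRootSet_spec {F : Type*} [Field F] [Fintype F] {q n : ℕ}
    (hF : Fintype.card F = q ^ 2) (hn : 2 ≤ n) :
    ∃ (L : Type) (_ : Field L) (_ : Fintype L), Fintype.card L = q ∧
      ∀ (S : Set (Subgroup (Cfsg.SU n F q))),
        S = {A : Subgroup (Cfsg.SU n F q) | ∃ p : Fin n → F, p ≠ 0 ∧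
          Cfsg.hermForm n F q p p = 0 ∧ A = Subgroup.closure {g : Cfsg.SU n F q |
            (∀ v : Fin n → F, ∃ c : F, g.1.1 *ᵥ v = v + c • p) ∧
            ∀ v : Fin n → F, Cfsg.hermForm n F q v p = 0 → g.1.1 *ᵥ v = v}} →
        ∀ S₀, S₀ = (fun A : Subgroup (Cfsg.SU n F q) => A.subgroupOf (⨆ B ∈ S, B)) '' S →
        Cfsg.IsRootSubgroupClass S₀ ∧ Cfsg.IsDegenerateRootSet S₀ ∧
          Cfsg.IsKRootSubgroupSet L S₀ ∧ Cfsg.IsConnectedFamily (Cfsg.FAdj S₀) S₀ := by
  obtain ⟨L, _, _, ι, hL, hι, hsurj⟩ := exists_small_fixed_field hF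
  refine ⟨L, inferInstance, inferInstance, hL, fun S hS S₀ hS₀ => ?_⟩
  have hh := hermB_isUnitary hF (n := n)
  obtain ⟨θ, hθ0, hθ⟩ := hh.exists_skew
  have hmem : ∀ A ∈ S, ∃ (p : Fin n → F) (hp : Forms.hermB hF n p p = 0),
      p ≠ 0 ∧ A = suRoot hF ι hι hθ p hp := by
    intro A hA
    rw [hS] at hA
    obtain ⟨p, hp0, hp, rfl⟩ := hA
    exact ⟨p, hp, hp0, closure_suRoot_set hF ι hι hθ hθ0 hsurj hp0 hp⟩
  have hin : ∀ (p : Fin n → F) (hp : Forms.hermB hF n p p = 0), p ≠ 0 →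
      suRoot hF ι hι hθ p hp ∈ S := by
    intro p hp hp0
    rw [hS]
    exact ⟨p, hp0, hp, (closure_suRoot_set hF ι hι hθ hθ0 hsurj hp0 hp).symm⟩
  have hpair : ∀ A ∈ S, ∀ B ∈ S, ⁅A, B⁆ = ⊥ ∨ IsSL2Image L A B := by
    intro A hA B hB
    obtain ⟨p, hp, -, rfl⟩ := hmem A hA
    obtain ⟨r, hr, -, rfl⟩ := hmem B hB
    by_cases h : Forms.hermB hF n p r = 0
    · exact Or.inl (suRoot_commute hF ι hι hθ hp hr h)
    · exact Or.inr (suRoot_sl2 hF ι hι hθ hθ0 hsurj hp hr h)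
  have D : RootData L S := by
    refine ⟨fun A hA => ?_, fun A hA => ?_, fun A hA g => ?_,
      fun A hA B hB => (hpair A hA B hB).imp_right Or.inl⟩
    · obtain ⟨p, hp, -, rfl⟩ := hmem A hA
      rw [suRoot]; infer_instance
    · obtain ⟨p, hp, hp0, rfl⟩ := hmem A hA
      exact suRoot_ne_bot hF ι hι hθ hθ0 hp0 hp
    · obtain ⟨p, hp, hp0, rfl⟩ := hmem A hA
      rw [suRoot_conj]
      refine hin _ _ fun e => hp0 ?_
      rwa [← suEquiv_smul hF, smul_eq_zero_iff_eq] at e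
  have hconn : ∀ A ∈ S, ∀ B ∈ S,
      Relation.ReflTransGen (fun X Y => X ∈ S ∧ Y ∈ S ∧ IsSL2Image L X Y) A B := by
    intro A hA B hB
    obtain ⟨p, hp, hp0, rfl⟩ := hmem A hA
    obtain ⟨r, hr, hr0, rfl⟩ := hmem B hB
    obtain ⟨z, hz, h1, h2⟩ := unitary_exists_nonorth hh hp0 hr0 hp hr
    have hz0 : z ≠ 0 := fun e => h1 (by rw [e, map_zero])
    exact (Relation.ReflTransGen.single
      ⟨hA, hin z hz hz0, suRoot_sl2 hF ι hι hθ hθ0 hsurj hp hz h1⟩).tail
      ⟨hin z hz hz0, hB, suRoot_sl2 hF ι hι hθ hθ0 hsurj hz hr fun e => h2 (hh.comm_zero e)⟩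
  have hle : ∀ A ∈ S, A ≤ ⨆ B ∈ S, B := fun A hA =>
    le_iSup₂ (f := fun B (_ : B ∈ S) => B) A hA
  have D₀ := D.restrict hle
  have hgen := RootData.iSup_subgroupOf_eq_top (S := S) (H := ⨆ B ∈ S, B) rfl
  have hconn₀ := RootData.conn_restrict (k := L) hle hconn
  subst hS₀
  have hne : S.Nonempty := by
    obtain ⟨c, hc0, hc⟩ := Forms.exists_norm_eq hF (c := -1) (by simp)
      (by rw [← Forms.qEnd_apply hF, map_neg, map_one])
    obtain ⟨k, rfl⟩ := Nat.exists_eq_add_of_le hn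
    let v : Fin (2 + k) → F := Pi.single ⟨0, by omega⟩ 1 + Pi.single ⟨1, by omega⟩ c
    refine ⟨_, hin v ?_ fun e => one_ne_zero (α := F) ?_⟩
    · simp only [v, map_add, LinearMap.add_apply, Forms.hermB_apply, Cfsg.hermForm, Pi.single_apply]
      rw [Finset.sum_eq_single (⟨0, by omega⟩ : Fin (2 + k)), Finset.sum_eq_single (⟨1, by omega⟩ : Fin (2 + k)),
        Finset.sum_eq_single (⟨0, by omega⟩ : Fin (2 + k)), Finset.sum_eq_single (⟨1, by omega⟩ : Fin (2 + k))] <;>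
        simp +contextual [(Forms.one_lt_q hF).ne_zero, ← pow_succ', hc]
    · simpa [v] using congrFun e ⟨0, by omega⟩
  have hdeg : ∀ A ∈ (fun A : Subgroup (Cfsg.SU n F q) => A.subgroupOf (⨆ B ∈ S, B)) '' S,
      ∀ B ∈ (fun A : Subgroup (Cfsg.SU n F q) => A.subgroupOf (⨆ B ∈ S, B)) '' S,
      ⁅A, B⁆ = ⊥ ∨ IsSL2Image L A B := by
    rintro _ ⟨A, hA, rfl⟩ _ ⟨B, hB, rfl⟩
    rcases hpair A hA B hB with h | h
    · refine Or.inl (Subgroup.map_injective (Subgroup.subtype_injective _) ?_)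
      rw [Subgroup.map_commutator, Subgroup.subgroupOf_map_subtype, Subgroup.subgroupOf_map_subtype,
        inf_of_le_left (hle A hA), inf_of_le_left (hle B hB), Subgroup.map_bot, h]
    · exact Or.inr (IsSL2Image.restrict h (hle A hA) (hle B hB))
  exact ⟨⟨D₀.isRootSubgroupSet hgen, RootData.isConjClass (hne.image _) hconn₀⟩,
    D₀.isDegenerateRootSet hgen hdeg, D₀.isKRootSubgroupSet hgen,
    RootData.isConnectedFamily hconn₀⟩

end Cfsg.Agent.ClassicalSimple
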