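import Cfsg.Agent.Lib.ClassicalSimple.Iwasawa
import Cfsg.Agent.Lib.ClassicalSimple.Linear
import Cfsg.Agent.Lib.Forms.Witt

/-!
Unitary groups of hermitian forms (semilinear in the first variable): dilatransvections, root
elements, generation, transitivity of the root group on isotropic vectors, `SU` = root group.
-/

namespace Cfsg.Agent.ClassicalSimple

variable {F V : Type*} [Field F] [AddCommGroup V] [Module F V]

/-- A nondegenerate hermitian form with respect to a non-identity involution. -/
structure IsUnitaryForm (σ : F →+* F) (h : V →ₛₗ[σ] V →ₗ[F] F) : Prop where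
  swap : ∀ x y, h y x = σ (h x y)
  invol : ∀ a, σ (σ a) = a
  ne_id : ∃ a, σ a ≠ a
  sep : ∀ x, (∀ y, h x y = 0) → x = 0

variable {σ : F →+* F} {h : V →ₛₗ[σ] V →ₗ[F] F}

/-- The isometry group of a sesquilinear form. -/
abbrev UH (h : V →ₛₗ[σ] V →ₗ[F] F) : Subgroup (V ≃ₗ[F] V) := Forms.isom F (Forms.form2 h)

theorem UH.ext' {g k : UH h} (e : ∀ x : V, g • x = k • x) : g = k :=
  Subtype.ext (LinearEquiv.ext e)

theorem uh_smul_smul (g : UH h) (x y : V) : h (g • x) (g • y) = h x y := g.2 x y

/-- The determinant-one subgroup. -/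
noncomputable def SUH (h : V →ₛₗ[σ] V →ₗ[F] F) : Subgroup (UH h) :=
  (LinearEquiv.det.comp (UH h).subtype).ker

theorem mem_SUH {g : UH h} :
    g ∈ SUH h ↔ LinearMap.det ((g : V ≃ₗ[F] V) : V →ₗ[F] V) = 1 := by
  simp [SUH, Units.ext_iff, LinearEquiv.coe_det]

namespace IsUnitaryForm

theorem comm_zero (hh : IsUnitaryForm σ h) {x y : V} (e : h x y = 0) : h y x = 0 := by
  rw [hh.swap, e, map_zero]

theorem σ_self (hh : IsUnitaryForm σ h) (x : V) : σ (h x x) = h x x := (hh.swap x x).symm

theorem exists_skew (hh : IsUnitaryForm σ h) : ∃ t : F, t ≠ 0 ∧ t + σ t = 0 := by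
  obtain ⟨a, ha⟩ := hh.ne_id
  refine ⟨a - σ a, fun e => ha (sub_eq_zero.1 e).symm, ?_⟩
  rw [map_sub, hh.invol]
  ring

theorem exists_trace_one (hh : IsUnitaryForm σ h) : ∃ d : F, d + σ d = 1 := by
  obtain ⟨x, hx⟩ : ∃ x : F, x + σ x ≠ 0 := by
    by_contra hc
    push Not at hc
    obtain ⟨a, ha⟩ := hh.ne_id
    have h1 := hc 1
    rw [map_one] at h1
    exact ha (by linear_combination hc a - a * h1)
  refine ⟨x / (x + σ x), ?_⟩
  rw [map_div₀, map_add, hh.invol, add_comm (σ x) x, ← add_div, div_self hx]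

theorem exists_norm_eq [Finite F] (hh : IsUnitaryForm σ h) {c : F} (hc : σ c = c) :
    ∃ x, σ x * x = c := by
  classical
  let K : Subfield F := RingHom.eqLocusField σ (RingHom.id F)
  have memK : ∀ {x : F}, x ∈ K ↔ σ x = x := Iff.rfl
  have := Fintype.ofFinite K
  by_cases h2 : (2 : F) = 0
  · have h2K : ringChar K = 2 := by
      by_contra hne
      exact Ring.two_ne_zero hne (Subtype.ext h2)
    obtain ⟨r, hr⟩ := FiniteField.isSquare_of_char_two h2K (⟨c, memK.2 hc⟩ : K)
    refine ⟨r, ?_⟩
    rw [memK.1 r.2]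
    exact (congrArg Subtype.val hr).symm
  · obtain ⟨t, ht0, ht⟩ := hh.exists_skew
    have hst : σ t = -t := eq_neg_of_add_eq_zero_right ht
    let δ : K := ⟨t * t, memK.2 (by rw [map_mul, hst]; ring)⟩
    have hδ : δ ≠ 0 := fun e => ht0 (mul_self_eq_zero.1 (congrArg Subtype.val e))
    have hodd : Fintype.card K % 2 = 1 := by
      refine FiniteField.odd_card_of_char_ne_two fun e => h2 ?_
      have := ringChar.of_eq e
      exact congrArg Subtype.val (CharTwo.two_eq_zero (R := K))
    obtain ⟨x, y, hxy⟩ := FiniteField.exists_root_sum_quadratic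
      (f := Polynomial.C (1 : K) * Polynomial.X ^ 2 + Polynomial.C (-(⟨c, memK.2 hc⟩ : K)))
      (g := Polynomial.C (-δ) * Polynomial.X ^ 2)
      (by rw [Polynomial.degree_add_C (by rw [Polynomial.degree_C_mul_X_pow 2 one_ne_zero]; decide),
        Polynomial.degree_C_mul_X_pow 2 one_ne_zero]; rfl)
      (by rw [Polynomial.degree_C_mul_X_pow 2 (neg_ne_zero.2 hδ)]; rfl) hodd
    simp only [Polynomial.eval_add, Polynomial.eval_mul, Polynomial.eval_C, Polynomial.eval_pow,
      Polynomial.eval_X] at hxy
    have e := congrArg Subtype.val hxy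
    simp only [Subfield.coe_add, Subfield.coe_mul, Subfield.coe_neg, Subfield.coe_one, sq,
      Subfield.coe_zero, δ] at e
    refine ⟨x + y * t, ?_⟩
    rw [map_add, map_mul, memK.1 x.2, memK.1 y.2, hst]
    linear_combination e

end IsUnitaryForm

theorem dilLin_det [FiniteDimensional F V] (b : V) (c : F) :
    LinearMap.det (LinearMap.transvection (c • h b) b) = 1 + c * h b b := by
  rw [LinearMap.transvection.det]
  rfl

variable (hh : IsUnitaryForm σ h) [FiniteDimensional F V]
include hh

theorem linearIndependent_h {ι : Type*} {v : ι → V} (hv : LinearIndependent F v) :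
    LinearIndependent F fun i => h (v i) := by
  rw [linearIndependent_iff'] at hv ⊢
  intro s g hg i hi
  have e : ∑ j ∈ s, σ (g j) • v j = 0 := hh.sep _ fun y => by
    have := LinearMap.congr_fun hg y
    simpa [hh.invol] using this
  have := hv s (fun j => σ (g j)) e i hi
  rw [← hh.invol (g i), this, map_zero]

/-- A linear map preserving `h` as an element of the isometry group. -/
noncomputable def uMk (T : V →ₗ[F] V) (hT : ∀ x y, h (T x) (T y) = h x y) : UH h :=
  ⟨LinearEquiv.ofInjectiveEndo T (by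
    rw [injective_iff_map_eq_zero]
    intro x hx
    exact hh.sep x fun y => by rw [← hT, hx, map_zero, LinearMap.zero_apply]),
    fun x y => hT x y⟩

theorem uMk_smul {T : V →ₗ[F] V} (hT : ∀ x y, h (T x) (T y) = h x y) (x : V) :
    uMk hh T hT • x = T x := rfl

/-- The dilatransvection `x ↦ x + c h(b,x) b`; covers transvections and quasi-reflections. -/
noncomputable def uDil (b : V) (c : F) (hc : c + σ c + c * σ c * h b b = 0) : UH h :=
  uMk hh (LinearMap.transvection (c • h b) b) fun x y => by
    simp only [LinearMap.transvection.apply, LinearMap.smul_apply, map_add, LinearMap.add_apply,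
      map_smulₛₗ, map_mul, RingHom.id_apply, smul_eq_mul, hh.swap b x]
    linear_combination σ (h b x) * h b y * hc

theorem uDil_smul {b : V} {c : F} (hc : c + σ c + c * σ c * h b b = 0) (x : V) :
    uDil hh b c hc • x = x + (c * h b x) • b := rfl

theorem uDil_det {b : V} {c : F} (hc : c + σ c + c * σ c * h b b = 0) :
    LinearMap.det ((uDil hh b c hc : V ≃ₗ[F] V) : V →ₗ[F] V) = 1 + c * h b b := by
  rw [← dilLin_det b c]
  rfl

theorem uDil_congr {b b' : V} {c c' : F} (hc : c + σ c + c * σ c * h b b = 0)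
    (hc' : c' + σ c' + c' * σ c' * h b' b' = 0) (e : b = b') (e' : c = c') :
    uDil hh b c hc = uDil hh b' c' hc' := by
  subst e e'; rfl

/-- The root element `x ↦ x + h(u,x) w - h(w,x) u + a h(u,x) u`. -/
noncomputable def uRootElt (u w : V) (a : F) (hu : h u u = 0) (hw : h u w = 0)
    (ha : a + σ a + h w w = 0) : UH h :=
  uMk hh ((LinearMap.transvection (h u) w).comp (LinearMap.transvection (a • h u - h w) u))
    fun x y => by
      simp only [LinearMap.comp_apply, LinearMap.transvection.apply, LinearMap.sub_apply,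
        LinearMap.smul_apply, map_add, LinearMap.add_apply, map_smulₛₗ, map_sub, map_mul,
        RingHom.id_apply, smul_eq_mul, hu, hw, hh.comm_zero hw, mul_zero, add_zero, zero_add,
        map_zero, hh.swap u x, hh.swap w x]
      linear_combination σ (h u x) * h u y * ha

theorem uRootElt_smul {u w : V} {a : F} (hu : h u u = 0) (hw : h u w = 0)
    (ha : a + σ a + h w w = 0) (x : V) :
    uRootElt hh u w a hu hw ha • x = x + h u x • w + (a * h u x - h w x) • u := by
  rw [uRootElt, uMk_smul]
  simp [LinearMap.transvection.apply, hu]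
  abel

theorem uRootElt_congr {u w u' w' : V} {a a' : F} (hu : h u u = 0) (hw : h u w = 0)
    (ha : a + σ a + h w w = 0) (hu' : h u' u' = 0) (hw' : h u' w' = 0)
    (ha' : a' + σ a' + h w' w' = 0) (e₁ : u = u') (e₂ : w = w') (e₃ : a = a') :
    uRootElt hh u w a hu hw ha = uRootElt hh u' w' a' hu' hw' ha' := by
  subst e₁ e₂ e₃; rfl

theorem uRootElt_det {u w : V} {a : F} (hu : h u u = 0) (hw : h u w = 0)
    (ha : a + σ a + h w w = 0) : uRootElt hh u w a hu hw ha ∈ SUH h := by
  rw [mem_SUH]
  change LinearMap.det ((LinearMap.transvection (h u) w).comp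
    (LinearMap.transvection (a • h u - h w) u)) = 1
  rw [LinearMap.det_comp, LinearMap.transvection.det, LinearMap.transvection.det]
  simp [hu, hw, hh.comm_zero hw]

theorem uRootElt_mul {u w w' : V} {a a' : F} (hu : h u u = 0) (hw : h u w = 0)
    (ha : a + σ a + h w w = 0) (hw' : h u w' = 0) (ha' : a' + σ a' + h w' w' = 0) :
    uRootElt hh u w a hu hw ha * uRootElt hh u w' a' hu hw' ha' =
      uRootElt hh u (w + w') (a + a' - h w w') hu (by simp [hw, hw'])
        (by simp [← hh.swap]; linear_combination ha + ha') := by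
  refine UH.ext' fun x => ?_
  simp only [mul_smul, uRootElt_smul, map_add, map_smul, LinearMap.add_apply, smul_eq_mul, hu,
    hw', hh.comm_zero hw, mul_zero, add_zero]
  module

theorem uRootElt_zero {u : V} (hu : h u u = 0) (hw : h u (0 : V) = 0)
    (ha : (0 : F) + σ 0 + h (0 : V) 0 = 0) : uRootElt hh u 0 0 hu hw ha = 1 :=
  UH.ext' fun x => by simp [uRootElt_smul]

theorem uRootElt_of_zero {u w : V} {a : F} (hu : h u u = 0) (hw : h u w = 0)
    (ha : a + σ a + h w w = 0) (e : u = 0) : uRootElt hh u w a hu hw ha = 1 :=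
  UH.ext' fun x => by simp [uRootElt_smul, e]

theorem uRootElt_inv {u w : V} {a : F} (hu : h u u = 0) (hw : h u w = 0)
    (ha : a + σ a + h w w = 0) :
    (uRootElt hh u w a hu hw ha)⁻¹ = uRootElt hh u (-w) (σ a) hu (by simp [hw])
      (by simp [hh.invol]; linear_combination ha) := by
  refine inv_eq_of_mul_eq_one_right ?_
  rw [uRootElt_mul]
  refine (uRootElt_congr hh _ _ _ hu (by simp) (by simp) rfl (add_neg_cancel w) ?_).trans
    (uRootElt_zero hh hu _ _)
  simp only [map_neg]
  linear_combination ha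

theorem uRootElt_scale {u w : V} {a c : F} (hu : h (c • u) (c • u) = 0) (hw : h (c • u) w = 0)
    (ha : a + σ a + h w w = 0) (hu' : h u u = 0) (hw' : h u (σ c • w) = 0)
    (ha' : σ c * c * a + σ (σ c * c * a) + h (σ c • w) (σ c • w) = 0) :
    uRootElt hh (c • u) w a hu hw ha = uRootElt hh u (σ c • w) (σ c * c * a) hu' hw' ha' :=
  UH.ext' fun x => by
    simp only [uRootElt_smul, map_smulₛₗ, LinearMap.smul_apply, smul_eq_mul, hh.invol]
    module

theorem uRootElt_conj (g : UH h) {u w : V} {a : F} (hu : h u u = 0) (hw : h u w = 0)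
    (ha : a + σ a + h w w = 0) :
    g * uRootElt hh u w a hu hw ha * g⁻¹ = uRootElt hh (g • u) (g • w) a
      (by rw [uh_smul_smul, hu]) (by rw [uh_smul_smul, hw]) (by rw [uh_smul_smul, ha]) := by
  refine UH.ext' fun x => ?_
  have h1 : ∀ v, h v (g⁻¹ • x) = h (g • v) x := fun v => by
    rw [← uh_smul_smul g, smul_inv_smul]
  simp only [mul_smul, uRootElt_smul, h1]
  rw [smul_add, smul_add, smul_inv_smul, smul_comm g, smul_comm g]

theorem uDil_scale {b : V} {c t : F} (hc : c + σ c + c * σ c * h (t • b) (t • b) = 0)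
    (hc' : t * σ t * c + σ (t * σ t * c) + t * σ t * c * σ (t * σ t * c) * h b b = 0) :
    uDil hh (t • b) c hc = uDil hh b (t * σ t * c) hc' :=
  UH.ext' fun x => by
    simp only [uDil_smul, map_smulₛₗ, LinearMap.smul_apply, smul_eq_mul]
    module

theorem uDil_conj (g : UH h) {b : V} {c : F} (hc : c + σ c + c * σ c * h b b = 0) :
    g * uDil hh b c hc * g⁻¹ = uDil hh (g • b) c (by rw [uh_smul_smul, hc]) := by
  refine UH.ext' fun x => ?_
  have h1 : h b (g⁻¹ • x) = h (g • b) x := by rw [← uh_smul_smul g, smul_inv_smul]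
  rw [mul_smul, mul_smul, uDil_smul, uDil_smul, h1, smul_add, smul_inv_smul, smul_comm g]

/-- The root elements. -/
def uRootSet : Set (UH h) :=
  {g | ∃ (u w : V) (a : F) (hu : h u u = 0) (hw : h u w = 0) (ha : a + σ a + h w w = 0),
    g = uRootElt hh u w a hu hw ha}

/-- The group generated by the root elements; it will turn out to be `SUH h`. -/
def uRootGroup : Subgroup (UH h) := Subgroup.closure (uRootSet hh)

theorem uRootElt_mem {u w : V} {a : F} (hu : h u u = 0) (hw : h u w = 0)
    (ha : a + σ a + h w w = 0) : uRootElt hh u w a hu hw ha ∈ uRootGroup hh :=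
  Subgroup.subset_closure ⟨u, w, a, hu, hw, ha, rfl⟩

theorem uRootGroup_normal : (uRootGroup hh).Normal := by
  refine ⟨fun n hn g => ?_⟩
  have e : (uRootGroup hh).map (MulAut.conj g).toMonoidHom ≤ uRootGroup hh := by
    rw [uRootGroup, MonoidHom.map_closure, Subgroup.closure_le]
    rintro _ ⟨_, ⟨u, w, a, hu, hw, ha, rfl⟩, rfl⟩
    simp only [MulEquiv.coe_toMonoidHom, MulAut.conj_apply, SetLike.mem_coe,
      uRootElt_conj hh g hu hw ha]
    exact uRootElt_mem hh _ _ _
  exact e ⟨n, hn, rfl⟩

theorem uDil_isotropic {b : V} {c : F} (hb : h b b = 0) (hc : c + σ c + c * σ c * h b b = 0) :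
    uDil hh b c hc = uRootElt hh b 0 c hb (by simp)
      (by simpa [hb] using hc) :=
  UH.ext' fun x => by simp [uDil_smul, uRootElt_smul]

/-- The dilatransvections. -/
def uDilSet : Set (UH h) :=
  {g | ∃ (b : V) (c : F) (hc : c + σ c + c * σ c * h b b = 0), g = uDil hh b c hc}

/-- The unitary group is generated by dilatransvections. -/
theorem uDil_generate : Subgroup.closure (uDilSet hh) = ⊤ := by
  set H := Subgroup.closure (uDilSet hh)
  suffices key : ∀ n, ∀ g : UH h, fixCodim (g : V ≃ₗ[F] V) ≤ n → g ∈ H from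
    eq_top_iff.2 fun g _ => key _ g le_rfl
  intro n
  induction n using Nat.strong_induction_on with
  | _ n ih =>
  intro g hg
  by_cases hx : ∃ x : V, h (g • x - x) (g • x) ≠ 0
  · obtain ⟨x, hx⟩ := hx
    set b := g • x - x with hb
    have hbb : h b b = h b (g • x) + σ (h b (g • x)) := by
      rw [← hh.swap, hb]
      simp only [map_sub, LinearMap.sub_apply, uh_smul_smul]
      ring
    have hc : -(h b (g • x))⁻¹ + σ (-(h b (g • x))⁻¹) +
        -(h b (g • x))⁻¹ * σ (-(h b (g • x))⁻¹) * h b b = 0 := by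
      have h2 : σ (h b (g • x)) ≠ 0 := (map_ne_zero σ).2 hx
      rw [hbb, map_neg, map_inv₀]
      field_simp
      ring
    have hk : uDil hh b _ hc ∈ H := Subgroup.subset_closure ⟨b, _, hc, rfl⟩
    have hfix : ∀ y : V, g • y = y → uDil hh b _ hc • y = y := fun y hy => by
      have e : h b y = 0 := by
        rw [hb, map_sub, LinearMap.sub_apply, sub_eq_zero]
        nth_rw 1 [← hy]
        rw [uh_smul_smul]
      simp [uDil_smul, e]
    have hlt : fixCodim ((uDil hh b _ hc * g : UH h) : V ≃ₗ[F] V) < fixCodim (g : V ≃ₗ[F] V) := by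
      refine fixCodim_lt (x := x) (fun y hy => ?_) ?_ ?_
      · change g • y = y at hy
        change (uDil hh b _ hc * g) • y = y
        rw [mul_smul, hy, hfix y hy]
      · change (uDil hh b _ hc * g) • x = x
        rw [mul_smul, uDil_smul, neg_mul, inv_mul_cancel₀ hx, neg_one_smul, hb]
        abel
      · intro e
        exact hx (by rw [hb, show g • x = x from e, sub_self, map_zero, LinearMap.zero_apply])
    have := ih _ (lt_of_lt_of_le hlt hg) _ le_rfl
    simpa using mul_mem (inv_mem hk) this
  push Not at hx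
  have hD : ∀ x : V, h x (g • x - x) = 0 := fun x => by
    have e := hx x
    rw [map_sub, LinearMap.sub_apply, uh_smul_smul, sub_eq_zero] at e
    rw [map_sub, e, sub_self]
  have hall : ∀ y : V, g • y = y := by
    intro y
    rw [← sub_eq_zero]
    refine hh.sep _ fun x => hh.comm_zero ?_
    obtain ⟨t, ht⟩ := hh.ne_id
    have e1 := hD (x + y)
    have e2 := hD (x + t • y)
    simp only [smul_add, add_sub_add_comm, map_add, LinearMap.add_apply, smul_comm g t y,
      ← smul_sub, map_smulₛₗ, LinearMap.smul_apply, RingHom.id_apply, smul_eq_mul, hD x, hD y,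
      mul_zero, add_zero, zero_add] at e1 e2
    exact (mul_eq_zero.1 (by linear_combination e2 - σ t * e1 :
      (t - σ t) * h x (g • y - y) = 0)).resolve_left (sub_ne_zero.2 (Ne.symm ht))
  rw [show g = 1 from UH.ext' fun z => by rw [hall z, one_smul]]
  exact one_mem _

end Cfsg.Agent.ClassicalSimple
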